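import Cfsg.Agent.Fusion.MaxClassNormal.OrbitSum

/-!
No irreducible group of matrices of dimension at most `p` has a Sylow subgroup generated by a single
Jordan block and an element commuting with it of degree between two and the dimension.
-/

set_option autoImplicit false
set_option linter.unusedSectionVars false
set_option linter.style.haveILetI false

namespace Cfsg.Lib.Fusion.MaxClassNormal

variable {p d : ℕ} [hp : Fact p.Prime]

namespace Central

variable {G T : Subgroup (GLd p d)} {x y : GLd p d} {e : ℕ} (H : Central G T x y e)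
include H

theorem commute_sh_of_comm {τ : GLd p d} (h : τ * x = x * τ) : Commute τ.val (sh p d 1) := by
  have h1 := commute_sub_one h
  rw [H.sub_one] at h1
  exact h1

theorem x_pow_eq_one {i : ℕ} (hi : (i : ZMod p) = 0) : x ^ i = 1 := by
  obtain ⟨c, rfl⟩ := (ZMod.natCast_eq_zero_iff i p).1 hi
  rw [pow_mul, H.x_pow_p, one_pow]

/-- The abelian case. -/
theorem false_of_abelian (hp5 : 5 ≤ p) (hT : ∀ τ ∈ T, ∃ i j : ℕ, τ = x ^ i * y ^ j) : False := by
  have hxy : Commute x y := H.comm x H.x_mem
  have hcomm : ∀ τ ∈ T, Commute τ.val (sh p d 1) := fun τ hτ => by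
    refine H.commute_sh_of_comm ?_
    obtain ⟨i, j, rfl⟩ := hT τ hτ
    exact (((Commute.refl x).pow_left i).mul_left (hxy.symm.pow_left j)).eq
  have hsub : ∀ τ ∈ T, ∀ q, q + 1 < d → ent τ.val (q + 1) q = ent τ.val 1 0 := fun τ hτ q hq =>
    ent_of_commute (hcomm τ hτ) q hq
  rcases Nat.lt_or_ge (d + 1) (2 * e) with h2 | h2
  · refine H.false_of_big (by omega) (by omega) fun τ hτ => ?_
    rcases eq_or_ne (ent τ.val 1 0) 0 with h | h
    · exact Or.inl fun q hq => by rw [hsub τ hτ q (by omega), h]
    · exact Or.inr fun q hq => by rw [hsub τ hτ q (by omega)]; exact h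
  · refine H.false_of_small hp5 h2 hsub (fun τ hτ i _ => commute_sh (hcomm τ hτ) i) fun g _ hy => ?_
    obtain ⟨i, j, hu⟩ := hT _ hy
    rcases eq_or_ne (i : ZMod p) 0 with hi | hi
    · exact Or.inr ⟨j, by rw [hu, H.x_pow_eq_one hi, one_mul]⟩
    refine Or.inl ?_
    have hs : Single ((g⁻¹ * y * g).val - 1) := by
      refine ⟨H.uni _ hy, fun q hq => ?_⟩
      rw [ent_sub, ent_one, if_neg (by omega), sub_zero, hsub _ hy q hq, hu, H.subdiag_xy]
      exact hi
    have h0 := H.lower_of_single (g := g⁻¹) hs (by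
      rw [inv_inv, show g * (g⁻¹ * y * g) * g⁻¹ = y by group]
      exact H.y_mem)
    have := deg_zero_inv h0
    rwa [inv_inv] at this

end Central

end Cfsg.Lib.Fusion.MaxClassNormal
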