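import Cfsg.Agent.Fusion.MaxClassNormal.Layers
import Cfsg.Agent.Fusion.MaxClassNormal.Abelian

/-!
Blocks between consecutive invariant flag members, central elements of a setting and small unitriangular
groups.
-/

set_option autoImplicit false
set_option linter.unusedSectionVars false
set_option linter.style.haveILetI false
set_option maxHeartbeats 1000000

namespace Cfsg.Lib.Fusion.MaxClassNormal

open Finset

variable {p d : ℕ} [hp : Fact p.Prime]

/-- Two consecutive invariant flag members. -/
structure IsBlock (G : Subgroup (GLd p d)) (a d' : ℕ) : Prop where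
  le : a + d' ≤ d
  pos : 1 ≤ d'
  left : Cut G a
  right : Cut G (a + d')
  none : ∀ t, a < t → t < a + d' → ¬ Cut G t

theorem cut_zero (G : Subgroup (GLd p d)) : Cut G 0 := fun g _ => inv_zero g.val

theorem cut_top (G : Subgroup (GLd p d)) : Cut G d := fun g _ => inv_of_le g.val le_rfl

/-- Without a normal `p`-subgroup a nontrivial element is seen by some block. -/
theorem exists_block {G : Subgroup (GLd p d)}
    (hN : ∀ N : Subgroup (GLd p d), N ≤ G → IsPGroup p N → (∀ g ∈ G, ∀ v ∈ N, g * v * g⁻¹ ∈ N) → N = ⊥)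
    {y : GLd p d} (hy : y ∈ G) (hy1 : y ≠ 1) : ∃ a d', IsBlock G a d' ∧ blk a d' y.val ≠ 1 := by
  classical
  by_contra hall
  push Not at hall
  let N : Subgroup (GLd p d) :=
    { carrier := {g | g ∈ G ∧ ∀ a d', IsBlock G a d' → blk a d' g.val = 1}
      one_mem' := ⟨G.one_mem, fun a d' B => by rw [Units.val_one, blk_one B.le]⟩
      mul_mem' := fun {g h} hg hh => ⟨mul_mem hg.1 hh.1, fun a d' B => by
        rw [Units.val_mul, blk_mul (B.left h hh.1) (B.right g hg.1), hg.2 a d' B, hh.2 a d' B, one_mul]⟩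
      inv_mem' := fun {g} hg => ⟨inv_mem hg.1, fun a d' B => by
        have := congrArg (blk a d') (g.mul_inv)
        rwa [blk_mul (B.left _ (inv_mem hg.1)) (B.right g hg.1), hg.2 a d' B, one_mul, blk_one B.le] at this⟩ }
  have huni : ∀ g ∈ N, Uni g.val := by
    intro g hg i j hij
    by_cases hi : i < d
    swap
    · exact ent_of_row _ (le_of_not_gt hi)
    by_cases hj : j < d
    swap
    · exact ent_of_col _ (le_of_not_gt hj)
    have hex : ∃ t, i < t ∧ Cut G t := ⟨d, hi, cut_top G⟩
    obtain ⟨hib, hb⟩ := Nat.find_spec hex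
    set b := Nat.find hex
    set a := Nat.findGreatest (Cut G) i
    have ha : Cut G a := Nat.findGreatest_spec (P := Cut G) (Nat.zero_le i) (cut_zero G)
    have hai : a ≤ i := Nat.findGreatest_le i
    by_cases hjb : b ≤ j
    · rw [ent_sub, ent_one, if_neg (by omega), sub_zero]
      exact hb g hg.1 i j hib hjb
    have hbd : b ≤ d := Nat.find_le ⟨hi, cut_top G⟩
    have B : IsBlock G a (b - a) :=
      { le := by omega
        pos := by omega
        left := ha
        right := by rwa [show a + (b - a) = b by omega]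
        none := fun t ht ht' hc => by
          rcases Nat.lt_or_ge i t with h | h
          · exact Nat.find_min hex (show t < b by omega) ⟨h, hc⟩
          · exact Nat.findGreatest_is_greatest ht h hc }
    have e := congrArg (fun A => ent A (i - a) (j - a)) (hg.2 a (b - a) B)
    rw [show ent (blk a (b - a) g.val) (i - a) (j - a) = ent g.val i j by
      rw [ent_blk _ _ _ (by omega) (by omega), show a + (i - a) = i by omega, show a + (j - a) = j by omega],
      ent_one] at e
    rw [ent_sub, e, ent_one]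
    by_cases h : i = j
    · rw [if_pos ⟨by omega, by omega⟩, if_pos ⟨h, hi⟩, sub_self]
    · rw [if_neg (by omega), if_neg (fun h' => h h'.1), sub_zero]
  have hNp : IsPGroup p N := fun g => ⟨d, Subtype.ext (pow_eq_one_of_nilpotent
    ((show Deg 1 ((g : GLd p d).val - 1) from huni g g.2).pow d |>.eq_zero (by omega)))⟩
  have h0 := hN N (fun g hg => hg.1) hNp fun g hg v hv =>
    ⟨mul_mem (mul_mem hg hv.1) (inv_mem hg), fun a d' B => by
      rw [Units.val_mul, blk_mul (B.left _ (inv_mem hg)) (B.right _ (mul_mem hg hv.1)), Units.val_mul,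
        blk_mul (B.left _ hv.1) (B.right g hg), hv.2 a d' B, mul_one,
        ← blk_mul (B.left _ (inv_mem hg)) (B.right g hg), g.mul_inv, blk_one B.le]⟩
  exact hy1 (Subgroup.mem_bot.1 (h0 ▸ (show y ∈ N from ⟨hy, fun a d' B => hall a d' B⟩)))

/-- A central element with vanishing first diagonal. -/
theorem exists_central_of {G T : Subgroup (GLd p d)} {x y : GLd p d} (H : Setting G T x) (hy : y ∈ T)
    (hc : ∀ τ ∈ T, τ * y = y * τ) (hne : y ≠ 1) (h1 : ent y.val 1 0 = 0) :
    ∃ e, Central G T x y e := by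
  classical
  have hsh : Commute (y.val - 1) (sh p d 1) := by
    have h := commute_sub_one (hc _ H.x_mem)
    rw [H.x_eq, add_mul, mul_add, one_mul, mul_one] at h
    exact (add_left_cancel h).symm
  have hex : ∃ δ, δ < d ∧ ent (y.val - 1) δ 0 ≠ 0 := by
    by_contra h
    push Not at h
    refine hne (Units.ext ?_)
    rw [Units.val_one, ← sub_eq_zero]
    refine ext_ent fun i j hi hj => ?_
    rw [ent_zero]
    rcases Nat.lt_or_ge i j with hij | hij
    · exact deg_zero_of_commute hsh i j (by omega)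
    · obtain ⟨δ, rfl⟩ := Nat.exists_eq_add_of_le hij
      rw [ent_of_commute hsh j hi]
      exact h δ (by omega)
  obtain ⟨hed, hlead⟩ := Nat.find_spec hex
  have hlow : ∀ δ, δ < Nat.find hex → ent (y.val - 1) δ 0 = 0 := fun δ h => by
    by_contra hne
    exact Nat.find_min hex h ⟨by omega, hne⟩
  refine ⟨Nat.find hex, ⟨H, hy, hc, fun i j hij => ?_, hlead, ?_, hed⟩⟩
  · by_cases hi : i < d
    swap
    · exact ent_of_row _ (le_of_not_gt hi)
    rcases Nat.lt_or_ge i j with h | h
    · exact deg_zero_of_commute hsh i j (by omega)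
    · obtain ⟨δ, rfl⟩ := Nat.exists_eq_add_of_le h
      rw [ent_of_commute hsh j hi]
      exact hlow δ (by omega)
  · by_contra hlt
    rcases (show Nat.find hex = 0 ∨ Nat.find hex = 1 by omega) with h | h <;> rw [h] at hlead
    · exact hlead ((H.uni y hy) 0 0 (by omega))
    · refine hlead ?_
      rw [ent_sub, ent_one, if_neg (by omega), sub_zero]
      exact h1

theorem uni_ext {A B : Mx p d} (hA : Uni A) (hB : Uni B)
    (h : ∀ i j, j < i → i < d → ent A i j = ent B i j) : A = B := by
  refine ext_ent fun i j hi hj => ?_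
  rcases Nat.lt_trichotomy j i with hlt | rfl | hgt
  · exact h i j hlt hi
  · rw [hA.diag hi, hB.diag hi]
  · rw [hA.deg_zero i j (by omega), hB.deg_zero i j (by omega)]

theorem card_le_uni_two {T : Subgroup (GLd p d)} (hd : d ≤ 2) (hT : ∀ τ ∈ T, Uni τ.val) :
    Nat.card T ≤ p := by
  refine le_trans (Nat.card_le_card_of_injective (fun τ : T => ent (τ : GLd p d).val 1 0)
    fun a b h => Subtype.ext (Units.ext (uni_ext (hT a a.2) (hT b b.2) fun i j hji hi => ?_))) ?_
  · obtain rfl : i = 1 := by omega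
    obtain rfl : j = 0 := by omega
    exact h
  · rw [Nat.card_zmod]

theorem card_le_uni_three {T : Subgroup (GLd p d)} (hd : d ≤ 3) (hT : ∀ τ ∈ T, Uni τ.val) :
    Nat.card T ≤ p ^ 3 := by
  refine le_trans (Nat.card_le_card_of_injective
    (fun τ : T => (ent (τ : GLd p d).val 1 0, ent (τ : GLd p d).val 2 0, ent (τ : GLd p d).val 2 1))
    fun a b h => Subtype.ext (Units.ext (uni_ext (hT a a.2) (hT b b.2) fun i j hji hi => ?_))) ?_
  · obtain ⟨h1, h2, h3⟩ : _ ∧ _ ∧ _ := ⟨congrArg Prod.fst h, congrArg (fun q => q.2.1) h,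
      congrArg (fun q => q.2.2) h⟩
    rcases (show (i = 1 ∧ j = 0) ∨ (i = 2 ∧ j = 0) ∨ (i = 2 ∧ j = 1) by omega) with
      ⟨rfl, rfl⟩ | ⟨rfl, rfl⟩ | ⟨rfl, rfl⟩
    · exact h1
    · exact h2
    · exact h3
  · rw [Nat.card_prod, Nat.card_prod, Nat.card_zmod, show p ^ 3 = p * (p * p) by ring]

/-- Three by three unitriangular matrices with vanishing first diagonal. -/
theorem card_le_uni_corner {T : Subgroup (GLd p d)} (hd : d ≤ 3) (hT : ∀ τ ∈ T, Uni τ.val)
    (h0 : ∀ τ ∈ T, ∀ q, q + 1 < d → ent τ.val (q + 1) q = 0) : Nat.card T ≤ p := by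
  refine le_trans (Nat.card_le_card_of_injective (fun τ : T => ent (τ : GLd p d).val 2 0)
    fun a b h => Subtype.ext (Units.ext (uni_ext (hT a a.2) (hT b b.2) fun i j hji hi => ?_))) ?_
  · rcases (show i = j + 1 ∨ (i = 2 ∧ j = 0) by omega) with rfl | ⟨rfl, rfl⟩
    · rw [h0 _ a.2 j hi, h0 _ b.2 j hi]
    · exact h
  · rw [Nat.card_zmod]

end Cfsg.Lib.Fusion.MaxClassNormal
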