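import Cfsg.Agent.Fusion.MaxClassNormal.Model
import Cfsg.Agent.PGroups.Basic
import Cfsg.Agent.PGroups.MaxClassOutside
import Cfsg.Agent.PGroups.MaxClassDegree

/-!
Coordinates on the Frattini quotient, the matrices of automorphisms, and the chain between two terms of
the lower central series of a `p`-group of maximal class.
-/

set_option autoImplicit false
set_option linter.unusedSectionVars false
set_option linter.style.haveILetI false
set_option maxHeartbeats 1000000

namespace Cfsg.Lib.Fusion.MaxClassNormal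

open Finset
open scoped commutatorElement

universe u

variable {p d : ℕ} [hp : Fact p.Prime]

/-- Coordinates on the Frattini quotient adapted to a family of elements. -/
structure Frame (p d : ℕ) (Q : Type u) [Group Q] where
  proj : Q →* Multiplicative (Fin d → ZMod p)
  b : Fin d → Q
  proj_b : ∀ j, proj (b j) = Multiplicative.ofAdd (Pi.single j 1)
  ker_eq : proj.ker = frattini Q

/-- A family generating modulo the Frattini subgroup of the right size gives coordinates. -/
theorem exists_frame {Q : Type u} [Group Q] [Finite Q] (hQ : IsPGroup p Q) (b : Fin d → Q)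
    (hgen : Subgroup.closure (Set.range b) ⊔ frattini Q = ⊤) (hidx : (frattini Q).index = p ^ d) :
    ∃ P : Frame p d Q, P.b = b := by
  classical
  haveI : Fact (1 < p) := ⟨hp.out.one_lt⟩
  letI : CommGroup (Q ⧸ frattini Q) :=
    { (inferInstance : Group (Q ⧸ frattini Q)) with
      mul_comm := fun a b =>
        haveI := Subgroup.Normal.quotient_commutative_iff_commutator_le.mpr
          (Cfsg.Lib.PGroups.commutator_le_frattini hQ)
        mul_comm' a b }
  set π := QuotientGroup.mk' (frattini Q)
  have hpow : ∀ q : Q ⧸ frattini Q, q ^ p = 1 := Cfsg.Lib.PGroups.pow_prime_quotient_frattini hQ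
  let ψ : Multiplicative (Fin d → ZMod p) →* Q ⧸ frattini Q :=
    { toFun := fun v => ∏ j, π (b j) ^ (v.toAdd j).val
      map_one' := Finset.prod_eq_one fun j _ => by simp
      map_mul' := fun v w => by
        rw [← Finset.prod_mul_distrib]
        refine Finset.prod_congr rfl fun j _ => ?_
        rw [toAdd_mul, Pi.add_apply, ZMod.val_add, ← pow_eq_pow_mod _ (hpow _), pow_add] }
  have hsingle : ∀ j, ψ (Multiplicative.ofAdd (Pi.single j 1)) = π (b j) := fun j => by
    show (∏ i, π (b i) ^ ((Pi.single j (1 : ZMod p) : Fin d → ZMod p) i).val) = _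
    rw [Finset.prod_eq_single j]
    · rw [Pi.single_eq_same, ZMod.val_one, pow_one]
    · exact fun i _ hi => by rw [Pi.single_eq_of_ne hi, ZMod.val_zero, pow_zero]
    · exact fun h => absurd (mem_univ j) h
  have hsurj : Function.Surjective ψ := by
    rw [← MonoidHom.range_eq_top, eq_top_iff,
      ← Subgroup.map_top_of_surjective π (QuotientGroup.mk'_surjective _), ← hgen, Subgroup.map_sup,
      MonoidHom.map_closure, sup_le_iff]
    refine ⟨(Subgroup.closure_le _).2 ?_, ?_⟩
    · rintro _ ⟨_, ⟨j, rfl⟩, rfl⟩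
      exact ⟨_, hsingle j⟩
    · rintro _ ⟨g, hg, rfl⟩
      rw [show π g = 1 from (QuotientGroup.eq_one_iff g).2 hg]
      exact one_mem _
  have hbij : Function.Bijective ψ := by
    refine (Nat.bijective_iff_surjective_and_card ψ).2 ⟨hsurj, ?_⟩
    rw [← Subgroup.index_eq_card, hidx, Nat.card_congr Multiplicative.toAdd, Nat.card_fun,
      Nat.card_eq_fintype_card (α := Fin d), Fintype.card_fin, Nat.card_zmod]
  refine ⟨⟨(MulEquiv.ofBijective ψ hbij).symm.toMonoidHom.comp π, b, fun j => ?_, ?_⟩, rfl⟩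
  · show (MulEquiv.ofBijective ψ hbij).symm (π (b j)) = _
    rw [MulEquiv.symm_apply_eq]
    exact (hsingle j).symm
  · rw [← MonoidHom.comap_ker, (MonoidHom.ker_eq_bot_iff _).2 (MulEquiv.injective _),
      MonoidHom.comap_bot, QuotientGroup.ker_mk']

namespace Frame

variable {Q : Type u} [Group Q] (P : Frame p d Q)

/-- The coordinate vector. -/
def coord (g : Q) : Fin d → ZMod p := (P.proj g).toAdd

theorem coord_mul (g h : Q) : P.coord (g * h) = P.coord g + P.coord h := by
  rw [coord, map_mul, toAdd_mul]; rfl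

theorem coord_b (j : Fin d) : P.coord (P.b j) = Pi.single j 1 := by
  rw [coord, P.proj_b, toAdd_ofAdd]

theorem coord_pow (g : Q) (c : ℕ) : P.coord (g ^ c) = c • P.coord g := by
  rw [coord, map_pow, toAdd_pow]; rfl

theorem coord_eq_zero {g : Q} : P.coord g = 0 ↔ g ∈ frattini Q := by
  rw [← P.ker_eq, MonoidHom.mem_ker, coord, toAdd_eq_zero]

/-- Homomorphisms killing the Frattini subgroup are determined on the family. -/
theorem hom_ext {M : Type*} [Monoid M] {f₁ f₂ : Q →* M} (h : ∀ j, f₁ (P.b j) = f₂ (P.b j))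
    (h1 : ∀ g ∈ frattini Q, f₁ g = 1) (h2 : ∀ g ∈ frattini Q, f₂ g = 1) (g : Q) : f₁ g = f₂ g := by
  classical
  haveI : Fact (1 < p) := ⟨hp.out.one_lt⟩
  obtain ⟨c, hc, hcg⟩ : ∃ c ∈ Subgroup.closure (Set.range P.b), P.proj c = P.proj g := by
    suffices hh : ∀ v, v ∈ (Subgroup.closure (Set.range P.b)).map P.proj from hh _
    intro v
    rw [show v = ∏ j, P.proj (P.b j) ^ (v.toAdd j).val by
      refine Multiplicative.toAdd.injective ?_
      rw [toAdd_prod]
      simp only [toAdd_pow, P.proj_b, toAdd_ofAdd]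
      conv_lhs => rw [← Finset.univ_sum_single v.toAdd]
      refine Finset.sum_congr rfl fun j _ => ?_
      rw [← Pi.single_smul, nsmul_one, ZMod.natCast_zmod_val]]
    exact Subgroup.prod_mem _ fun j _ => pow_mem
      (Subgroup.mem_map_of_mem _ (Subgroup.subset_closure (Set.mem_range_self j))) _
  have hk : c⁻¹ * g ∈ frattini Q := by
    rw [← P.ker_eq, MonoidHom.mem_ker, map_mul, map_inv, hcg, inv_mul_cancel]
  have heq : Subgroup.closure (Set.range P.b) ≤ MonoidHom.eqLocus f₁ f₂ :=
    (Subgroup.closure_le _).2 (by rintro _ ⟨j, rfl⟩; exact h j)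
  have e : f₁ (c * (c⁻¹ * g)) = f₂ (c * (c⁻¹ * g)) := by
    rw [f₁.map_mul c, f₂.map_mul c, h1 _ hk, h2 _ hk, show f₁ c = f₂ c from heq hc]
  rwa [mul_inv_cancel_left] at e

/-- The matrix of an automorphism. -/
def mat (α : MulAut Q) : Mx p d := Matrix.of fun i j => P.coord (α (P.b j)) i

theorem ent_mat (α : MulAut Q) {i j : ℕ} (hi : i < d) (hj : j < d) :
    ent (P.mat α) i j = P.coord (α (P.b ⟨j, hj⟩)) ⟨i, hi⟩ :=
  ent_fin (P.mat α) ⟨i, hi⟩ ⟨j, hj⟩

theorem coord_apply (α : MulAut Q) (g : Q) : P.coord (α g) = (P.mat α).mulVec (P.coord g) := by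
  have hfr : ∀ g ∈ frattini Q, α g ∈ frattini Q := fun g hg => by
    have h : g ∈ (frattini Q).comap α.toMonoidHom := by
      rw [Subgroup.characteristic_iff_comap_eq.1 inferInstance α]; exact hg
    exact h
  have e := P.hom_ext (f₁ := P.proj.comp α.toMonoidHom)
    (f₂ := (AddMonoidHom.toMultiplicative (P.mat α).mulVecLin.toAddMonoidHom).comp P.proj) ?_ ?_ ?_ g
  · exact congrArg Multiplicative.toAdd e
  · intro j
    show P.proj (α (P.b j)) = Multiplicative.ofAdd ((P.mat α).mulVec (P.proj (P.b j)).toAdd)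
    rw [P.proj_b, toAdd_ofAdd, Matrix.mulVec_single_one]
    rfl
  · intro g hg
    show P.proj (α g) = 1
    rw [← MonoidHom.mem_ker, P.ker_eq]
    exact hfr g hg
  · intro g hg
    show Multiplicative.ofAdd ((P.mat α).mulVec (P.proj g).toAdd) = 1
    rw [← P.ker_eq, MonoidHom.mem_ker] at hg
    rw [hg, toAdd_one, Matrix.mulVec_zero, ofAdd_zero]

/-- The representation on the Frattini quotient. -/
def rho : MulAut Q →* GLd p d :=
  MonoidHom.toHomUnits
    { toFun := P.mat
      map_one' := Matrix.ext fun i j => by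
        show P.coord (P.b j) i = _
        rw [P.coord_b, Matrix.one_apply, Pi.single_apply]
      map_mul' := fun α β => Matrix.ext fun i j => by
        show P.coord (α (β (P.b j))) i = _
        rw [P.coord_apply, Matrix.mul_apply]
        rfl }

theorem rho_val (α : MulAut Q) : (P.rho α).val = P.mat α := rfl

theorem rho_eq_one {α : MulAut Q} : P.rho α = 1 ↔ ∀ g, α g * g⁻¹ ∈ frattini Q := by
  constructor
  · intro h g
    have e : P.coord (α g) = P.coord g := by
      rw [P.coord_apply, ← P.rho_val, h, Units.val_one, Matrix.one_mulVec]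
    rw [← P.ker_eq, MonoidHom.mem_ker, map_mul, map_inv,
      show P.proj (α g) = P.proj g from Multiplicative.toAdd.injective e, mul_inv_cancel]
  · intro h
    refine Units.ext (Matrix.ext fun i j => ?_)
    have e : P.proj (α (P.b j)) = P.proj (P.b j) := by
      have := h (P.b j)
      rw [← P.ker_eq, MonoidHom.mem_ker, map_mul, map_inv, mul_inv_eq_one] at this
      exact this
    show P.coord (α (P.b j)) i = _
    rw [coord, e, ← coord, P.coord_b, Units.val_one, Matrix.one_apply, Pi.single_apply]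

end Frame

/-! ### The chain between two terms -/

section Chain

open Cfsg.Lib.PGroups MaxClassRank MaxClassThree MaxClassAgemo MaxClassDegree MaxClassOutside

variable {X : Type u} [Group X] [Finite X] [Group.IsNilpotent X] {n : ℕ} {x : X}
  (D : MaxClassAgemo.Data p n x)
include D

theorem x_not_stepCent {j : ℕ} (h1 : 1 ≤ j) (h2 : j + 1 < n - 1) : x ∉ stepCent X j := fun h => by
  obtain ⟨a, ha, ha'⟩ := SetLike.exists_of_lt (D.toBase.L_lt (show j < n - 1 by omega))
  exact D.comm_step h1 h2 ha ha' (mem_stepCent.1 h a ha)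

variable {k : ℕ} (hk : 1 ≤ k) {a₀ : X} (ha : a₀ ∈ L X k) (ha' : a₀ ∉ L X (k + 1))

omit D in
theorem chain_mem_add (ha : a₀ ∈ L X k) : ∀ j, chain x a₀ j ∈ L X (k + j)
  | 0 => ha
  | j + 1 => by
    have h := comm_mem_succ (chain_mem_add ha j) x
    rw [show chain x a₀ (j + 1) = ⁅x, chain x a₀ j⁆ from rfl, ← commutatorElement_inv]
    exact inv_mem h

include hk ha ha'

theorem chain_not_mem_add : ∀ j, k + j < n - 1 → chain x a₀ j ∉ L X (k + j + 1)
  | 0 => fun _ => ha'
  | j + 1 => fun h => by
    rw [show chain x a₀ (j + 1) = ⁅x, chain x a₀ j⁆ from rfl, ← commutatorElement_inv, inv_mem_iff]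
    exact D.comm_step (show 1 ≤ k + j by omega) (by omega) (chain_mem_add ha j)
      (chain_not_mem_add j (by omega))

theorem relIndex_step {j : ℕ} (h1 : 1 ≤ j) (hj : j < n - 1) : (L X (j + 1)).relIndex (L X j) = p := by
  have h := Subgroup.relIndex_mul_index (L_le (X := X) (Nat.le_succ j))
  rw [D.toBase.L_index h1 (by omega), D.toBase.L_index (show 1 ≤ j + 1 by omega) (by omega),
    pow_succ p (j + 1), mul_comm (p ^ (j + 1))] at h
  exact Nat.eq_of_mul_eq_mul_right (pow_pos hp.out.pos _) h

theorem pow_mem_next {j : ℕ} (hj : k + j < n - 1) : chain x a₀ j ^ p ∈ L X (k + j + 1) := by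
  haveI : ((L X (k + j + 1)).subgroupOf (L X (k + j))).Normal := Subgroup.normal_subgroupOf
  have h := ((L X (k + j + 1)).subgroupOf (L X (k + j))).pow_index_mem
    ⟨chain x a₀ j, chain_mem_add ha j⟩
  rw [show ((L X (k + j + 1)).subgroupOf (L X (k + j))).index = p from
    relIndex_step D hk ha ha' (by omega) hj] at h
  exact h

/-- The chain generates modulo a lower term. -/
theorem le_closure {m : ℕ} (hm : m ≤ n - 1) : ∀ t j, k + j + t = m →
    L X (k + j) ≤ Subgroup.closure ((fun i => chain x a₀ i) '' {i | j ≤ i ∧ k + i < m}) ⊔ L X m := by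
  intro t
  induction t with
  | zero => intro j hj; rw [show k + j = m by omega]; exact le_sup_right
  | succ t ih =>
    intro j hj g hg
    obtain ⟨c, hc⟩ := exists_pow_of_step (p := p) (L_le (Nat.le_succ (k + j)))
      (relIndex_step D hk ha ha' (by omega) (by omega)) (chain_mem_add ha j)
      (chain_not_mem_add D hk ha ha' j (by omega)) hg
    rw [show g = chain x a₀ j ^ c * ((chain x a₀ j ^ c)⁻¹ * g) by group]
    have hmem : chain x a₀ j ∈ (fun i => chain x a₀ i) '' {i | j ≤ i ∧ k + i < m} :=
      ⟨j, ⟨le_rfl, by omega⟩, rfl⟩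
    refine mul_mem (Subgroup.mem_sup_left (pow_mem (Subgroup.subset_closure hmem) c)) ?_
    refine (sup_le_sup_right (Subgroup.closure_mono ?_) _) (ih (j + 1) (by omega)
      (by rwa [show k + (j + 1) = (k + j).succ from rfl]))
    rintro _ ⟨i, ⟨hi, hi'⟩, rfl⟩
    exact ⟨i, ⟨by omega, hi'⟩, rfl⟩

end Chain

end Cfsg.Lib.Fusion.MaxClassNormal
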