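import Cfsg.Agent.Fusion.MaxClassNormal.Abelian

/-!
Averages over subgroups of order prime to `p`, the blocks between consecutive invariant flag members,
and elements acting trivially on the upper layers.
-/

set_option autoImplicit false
set_option linter.unusedSectionVars false
set_option linter.style.haveILetI false
set_option maxHeartbeats 1000000

namespace Cfsg.Lib.Fusion.MaxClassNormal

open Finset

variable {p d : ℕ} [hp : Fact p.Prime]

/-- The projection onto the fixed space of a subgroup of order prime to `p`. -/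
theorem exists_average (K : Subgroup (GLd p d)) (hK : ¬ p ∣ Nat.card K) :
    ∃ P : Mx p d, (∀ u ∈ K, u.val * P = P) ∧ P * P = P ∧
      (∀ g : GLd p d, (∀ u ∈ K, g * u * g⁻¹ ∈ K) → Commute g.val P) ∧
      ∀ i, (∀ u ∈ K, ent u.val i i = 1) → ent P i i = 1 := by
  classical
  haveI := Fintype.ofFinite K
  set c : ZMod p := ((Fintype.card K : ℕ) : ZMod p)
  have hc : c ≠ 0 := fun h => hK (by
    rw [Nat.card_eq_fintype_card]; exact (ZMod.natCast_eq_zero_iff _ _).1 h)
  set P : Mx p d := c⁻¹ • ∑ u : K, (u : GLd p d).val with hP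
  have hleft : ∀ u ∈ K, u.val * P = P := fun u hu => by
    rw [hP, Matrix.mul_smul, Finset.mul_sum]
    congr 1
    exact Fintype.sum_equiv (Equiv.mulLeft (⟨u, hu⟩ : K)) _ _ fun v => by
      rw [Equiv.coe_mulLeft, Subgroup.coe_mul, Units.val_mul]
  refine ⟨P, hleft, ?_, fun g hg => ?_, fun i hi => ?_⟩
  · nth_rewrite 1 [hP]
    rw [Matrix.smul_mul, Finset.sum_mul, Finset.sum_congr rfl fun u _ => hleft _ (SetLike.coe_mem u),
      Finset.sum_const, Finset.card_univ, ← Nat.cast_smul_eq_nsmul (ZMod p), smul_smul,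
      inv_mul_cancel₀ hc, one_smul]
  · show g.val * P = P * g.val
    rw [hP, Matrix.mul_smul, Matrix.smul_mul, Finset.mul_sum, Finset.sum_mul]
    congr 1
    refine Fintype.sum_bijective (fun u : K => (⟨_, hg _ u.2⟩ : K))
      (Finite.injective_iff_bijective.1 fun u v h =>
        Subtype.ext (mul_left_cancel (mul_right_cancel (congrArg Subtype.val h)))) _ _ fun u => ?_
    rw [← Units.val_mul, ← Units.val_mul, inv_mul_cancel_right]
  · rw [hP, ent_smul, ent_sum, Finset.sum_congr rfl fun u _ => hi _ (SetLike.coe_mem u),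
      Finset.sum_const, Finset.card_univ, nsmul_one, inv_mul_cancel₀ hc]

/-- A flag member invariant under all of the group. -/
def Cut (K : Subgroup (GLd p d)) (t : ℕ) : Prop := ∀ g ∈ K, Inv t g.val

theorem relIndex_map_dvd {G H : Type*} [Group G] [Group H] (f : G →* H) (A : Subgroup G) :
    (A.map f).relIndex f.range ∣ A.index := by
  rw [MonoidHom.range_eq_map, Subgroup.relIndex_map_map, top_sup_eq, Subgroup.relIndex_top_right]
  exact Subgroup.index_dvd_of_le le_sup_left

/-- The block between two consecutive invariant flag members. -/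
theorem setting_block {K T : Subgroup (GLd p d)} {x : GLd p d} {a d' : ℕ} (hd : a + d' ≤ d)
    (hdp : d ≤ p) (h2 : 2 ≤ d') (hTK : T ≤ K) (hx : x ∈ T) (hxe : x.val = 1 + sh p d 1)
    (huni : ∀ τ ∈ T, Uni τ.val) (hsyl : ¬ p ∣ T.relIndex K) (ha : Cut K a) (hb : Cut K (a + d'))
    (hno : ∀ t, a < t → t < a + d' → ¬ Cut K t) :
    let φ := blkHom K a d' hd (fun g hg => ⟨ha g hg, hb g hg⟩)
    Setting φ.range ((T.subgroupOf K).map φ) (φ ⟨x, hTK hx⟩) := by
  intro φ
  have hv : ∀ g : ↥K, (φ g).val = blk a d' (g : GLd p d).val := fun _ => rfl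
  refine
    { two := h2
      le := by omega
      x_mem := ⟨⟨x, hTK hx⟩, hx, rfl⟩
      x_eq := ?_
      le_G := ?_
      uni := ?_
      syl := fun h => hsyl (h.trans (relIndex_map_dvd φ _))
      irr := fun t ht ht' => ?_ }
  · rw [hv]
    refine ext_ent fun i j hi hj => ?_
    rw [ent_blk _ _ _ hi hj, hxe, ent_add, ent_add, ← blk_one (p := p) (d := d) hd,
      ← blk_sh (p := p) (d := d) (t := 1) hd, ent_blk _ _ _ hi hj, ent_blk _ _ _ hi hj]
  · rintro _ ⟨g, -, rfl⟩
    exact ⟨g, rfl⟩
  · rintro _ ⟨g, hg, rfl⟩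
    show Deg 1 _
    rw [hv, ← blk_one (p := p) (d := d) hd, ← blk_sub]
    exact (huni _ hg).blk
  · by_contra hall
    push Not at hall
    refine hno (a + t) (by omega) (by omega) fun g hg i j hi hj => ?_
    by_cases hia : i < a
    · exact ha g hg i j hia (by omega)
    by_cases hjb : a + d' ≤ j
    · exact hb g hg i j (by omega) hjb
    have h := hall _ ⟨⟨g, hg⟩, rfl⟩ (i - a) (j - a) (by omega) (by omega)
    rwa [hv, ent_blk _ _ _ (by omega) (by omega), show a + (i - a) = i by omega,
      show a + (j - a) = j by omega] at h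

namespace Central

variable {G T : Subgroup (GLd p d)} {x y : GLd p d} {e : ℕ} (H : Central G T x y e)
include H

/-- A matrix commuting with `y` and killing the upper layers has square zero. -/
theorem mul_self_eq_zero (h2 : d ≤ 2 * e) {M : Mx p d}
    (hc : M * (y.val - 1) = (y.val - 1) * M) (hrow : ∀ i j, i < e → ent M i j = 0) : M * M = 0 := by
  have hYM : (y.val - 1) * M = 0 := ext_ent fun i j hi _ => by
    rw [ent_zero]
    refine ent_mul_eq_zero _ _ _ _ fun q _ => ?_
    rcases Nat.lt_or_ge q e with hq | hq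
    · rw [hrow q j hq, mul_zero]
    · rw [H.deg i q (by omega), zero_mul]
  refine ext_ent fun i j _ _ => ?_
  rw [ent_zero]
  refine ent_mul_eq_zero _ _ _ _ fun q _ => ?_
  rcases Nat.lt_or_ge q e with hq | hq
  · rw [hrow q j hq, mul_zero]
  · rw [right_cancel (b₀ := 0) H.deg (fun _ _ h => H.lead_ne h)
      (fun b _ => by rw [hc, hYM, ent_zero]) q (by omega), zero_mul]

/-- A normal `p`-subgroup of the centralizer lies in `T`. -/
theorem normal_le {N : Subgroup (GLd p d)} (hNC : N ≤ cGrp G y) (hN : IsPGroup p N)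
    (hn : ∀ g ∈ cGrp G y, ∀ u ∈ N, g * u * g⁻¹ ∈ N) : N ≤ T := by
  have hnorm : T ≤ Subgroup.normalizer (N : Set (GLd p d)) := fun τ hτ =>
    Subgroup.mem_normalizer_iff.2 fun r => ⟨hn τ (H.le_C hτ) r, fun hr => by
      have := hn τ⁻¹ (inv_mem (H.le_C hτ)) _ hr
      simpa [mul_assoc] using this⟩
  exact le_sup_right.trans (H.le_of_pgroup
    (IsPGroup.to_sup_of_normal_right' H.isPGroup hN hnorm) le_sup_left
    (sup_le H.le_G (hNC.trans inf_le_left)))

/-- A `p`-element of the centralizer lies in `T`, once the centralizer keeps the flag. -/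
theorem mem_T_of_pElem (hC : ∀ c ∈ cGrp G y, Deg 0 c.val) {u : GLd p d} (hu : u ∈ cGrp G y) {m : ℕ}
    (hm : u ^ p ^ m = 1) : u ∈ T := by
  obtain ⟨c, hc, hcu⟩ := H.exists_conj_mem hu hm
  have := H.conj_mem' (mem_cGrp.1 hc).1 (hC c hc) hcu
  rwa [show c⁻¹ * (c * u * c⁻¹) * c = u by group] at this

theorem conj_pow_p {τ g : GLd p d} (hτ : τ ∈ T) : (g * τ * g⁻¹) ^ p ^ 1 = 1 := by
  rw [pow_one, conj_pow, H.pow_p hτ, mul_one, mul_inv_cancel]

end Central

end Cfsg.Lib.Fusion.MaxClassNormal
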