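import Cfsg.Agent.Fusion.MaxClassNormal.Symbols
import Cfsg.Agent.Fusion.MaxClassNormal.Layers

/-!
The dimension `2 e - 1` with at least three levels: the centralizer of the centre keeps the flag, the
centre is weakly closed, and a sum over the cosets fixes a line.
-/

set_option autoImplicit false
set_option linter.unusedSectionVars false
set_option linter.style.haveILetI false
set_option maxHeartbeats 1000000

namespace Cfsg.Lib.Fusion.MaxClassNormal

open Finset

variable {p d : ℕ} [hp : Fact p.Prime]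

/-- The levels `k - 4`, `k - 3`, `k - 2`, `k - 1` of a group with at most four levels. -/
structure Tail (G T : Subgroup (GLd p d)) (x h s₂ s₁ y : GLd p d) (e : ℕ) : Prop
    extends Levels G T x s₂ s₁ y e where
  top : h = 1 ∨ Next G T x h s₂ s₁ y e
  decomp : ∀ τ ∈ T, ∃ a b c f g : ℕ, τ = x ^ a * h ^ b * s₂ ^ c * s₁ ^ f * y ^ g

namespace Tail

variable {G T : Subgroup (GLd p d)} {x h s₂ s₁ y : GLd p d} {e : ℕ} (H : Tail G T x h s₂ s₁ y e)
include H

theorem four : 4 ≤ e := H.toLevels.e_four

theorem h_mem : h ∈ T := H.top.elim (fun e => e ▸ one_mem T) (fun N => N.h_mem)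

theorem deg_h : Deg (e - 3) (h.val - 1) := by
  rcases H.top with h1 | N
  · rw [h1, Units.val_one, sub_self]
    exact Deg.zero _
  · exact N.deg_h

theorem pow_one_of {u : GLd p d} (hu : u ∈ T) {i : ℕ} (h0 : (i : ZMod p) = 0) : u ^ i = 1 := by
  obtain ⟨c, rfl⟩ := (ZMod.natCast_eq_zero_iff i p).1 h0
  rw [pow_mul, H.pow_p hu, one_pow]

theorem subdiag_of_deg {u : GLd p d} (hd : Deg 2 (u.val - 1)) (q : ℕ) : ent u.val (q + 1) q = 0 := by
  have := hd (q + 1) q (by omega)
  rwa [ent_sub, ent_one, if_neg (by omega), sub_zero] at this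

theorem deg2_h : Deg 2 (h.val - 1) := by
  rcases H.top with h1 | N
  · rw [h1, Units.val_one, sub_self]
    exact Deg.zero _
  · exact N.deg_h.mono (by have := N.e_five; omega)

theorem subdiag (a b c f g q : ℕ) (hq : q + 1 < d) :
    ent (x ^ a * h ^ b * s₂ ^ c * s₁ ^ f * y ^ g).val (q + 1) q = (a : ZMod p) := by
  have he := H.four
  have hu : ∀ {u : GLd p d}, u ∈ T → ∀ m : ℕ, Uni (u.val ^ m) := fun {u} hu m =>
    deg_pow_sub_one (H.uni u hu) m
  simp only [Units.val_mul, Units.val_pow_eq_pow_val]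
  rw [subdiag_mul (((hu H.x_mem a).mul (hu H.h_mem b)).mul (hu H.s2_mem c) |>.mul (hu H.s1_mem f))
      (hu H.y_mem g),
    subdiag_mul (((hu H.x_mem a).mul (hu H.h_mem b)).mul (hu H.s2_mem c)) (hu H.s1_mem f),
    subdiag_mul ((hu H.x_mem a).mul (hu H.h_mem b)) (hu H.s2_mem c),
    subdiag_mul (hu H.x_mem a) (hu H.h_mem b),
    subdiag_pow (H.uni _ H.x_mem), subdiag_pow (H.uni _ H.h_mem), subdiag_pow (H.uni _ H.s2_mem),
    subdiag_pow (H.uni _ H.s1_mem), subdiag_pow (H.uni _ H.y_mem),
    H.subdiag_of_deg H.deg2_h, H.subdiag_of_deg (H.toLevels.deg_s2.mono (by omega)),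
    H.subdiag_of_deg (H.toLevels.deg_s1.mono (by omega)), H.subdiag_of_deg (H.deg.mono H.he),
    H.x_eq, ent_add, ent_one, if_neg (by omega), ent_sh, if_pos ⟨rfl, hq⟩]
  simp

theorem hsub : ∀ τ ∈ T, ∀ q, q + 1 < d → ent τ.val (q + 1) q = ent τ.val 1 0 := by
  intro τ hτ q hq
  obtain ⟨a, b, c, f, g, rfl⟩ := H.decomp τ hτ
  rw [H.subdiag a b c f g q hq]
  exact (H.subdiag a b c f g 0 (by omega)).symm

/-- The leading diagonal of an element of `T`. -/
theorem form {τ : GLd p d} (hτ : τ ∈ T) :
    Single (τ.val - 1) ∨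
    (Next G T x h s₂ s₁ y e ∧ Deg (e - 3) (τ.val - 1) ∧ ∃ β : ZMod p, β ≠ 0 ∧
      ∀ j, ent (τ.val - 1) (j + (e - 3)) j = β * ent (h.val - 1) (j + (e - 3)) j) ∨
    (Deg (e - 2) (τ.val - 1) ∧ ∃ β : ZMod p, β ≠ 0 ∧
      ∀ j, ent (τ.val - 1) (j + (e - 2)) j = β * ent (s₂.val - 1) (j + (e - 2)) j) ∨
    (Deg (e - 1) (τ.val - 1) ∧ ∃ β : ZMod p, β ≠ 0 ∧
      ∀ j, ent (τ.val - 1) (j + (e - 1)) j = β * ent (s₁.val - 1) (j + (e - 1)) j) ∨
    ∃ g : ℕ, τ = y ^ g := by
  have he := H.four
  obtain ⟨a, b, c, f, g, rfl⟩ := H.decomp τ hτ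
  rcases eq_or_ne (a : ZMod p) 0 with ha | ha
  swap
  · refine Or.inl ⟨H.uni _ hτ, fun q hq => ?_⟩
    rw [ent_sub, ent_one, if_neg (by omega), sub_zero, H.subdiag a b c f g q hq]
    exact ha
  right
  rw [H.pow_one_of H.x_mem ha, one_mul]
  have hd : ∀ {u : GLd p d} {w : ℕ}, Deg w (u.val - 1) → ∀ m, Deg w (u.val ^ m - 1) := fun h m =>
    deg_pow_sub_one h m
  have h1 := hd H.toLevels.deg_s1 f
  have h0 := hd H.deg g
  have h2 := hd H.toLevels.deg_s2 c
  have h3 := hd H.deg_h b
  simp only [Units.val_mul, Units.val_pow_eq_pow_val]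
  by_cases hb : h ^ b = 1
  · rw [show (h.val ^ b : Mx p d) = 1 by rw [← Units.val_pow_eq_pow_val, hb, Units.val_one], one_mul,
      hb, one_mul]
    right
    rcases eq_or_ne (c : ZMod p) 0 with hc | hc
    · rw [show (s₂.val ^ c : Mx p d) = 1 by
        rw [← Units.val_pow_eq_pow_val, H.pow_one_of H.s2_mem hc, Units.val_one], one_mul,
        H.pow_one_of H.s2_mem hc, one_mul]
      right
      rcases eq_or_ne (f : ZMod p) 0 with hf | hf
      · exact Or.inr ⟨g, by rw [H.pow_one_of H.s1_mem hf, one_mul]⟩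
      · refine Or.inl ⟨deg_mul_sub_one h1 (h0.mono (by omega)), _, hf, fun j => ?_⟩
        rw [lead_mul_one (by omega) h1 (h0.mono (by omega)), lead_pow_one (by omega) H.toLevels.deg_s1,
          h0 (j + (e - 1)) j (by omega), add_zero]
    · refine Or.inl ⟨deg_mul_sub_one (deg_mul_sub_one h2 (h1.mono (by omega))) (h0.mono (by omega)),
        _, hc, fun j => ?_⟩
      rw [lead_mul_one (by omega) (deg_mul_sub_one h2 (h1.mono (by omega))) (h0.mono (by omega)),
        lead_mul_one (by omega) h2 (h1.mono (by omega)), lead_pow_one (by omega) H.toLevels.deg_s2,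
        h0 (j + (e - 2)) j (by omega), h1 (j + (e - 2)) j (by omega), add_zero, add_zero]
  · rcases H.top with h' | N
    · exact absurd (by rw [h', one_pow]) hb
    have hb' : (b : ZMod p) ≠ 0 := fun h0 => hb (H.pow_one_of H.h_mem h0)
    refine Or.inl ⟨N, deg_mul_sub_one (deg_mul_sub_one (deg_mul_sub_one h3 (h2.mono (by omega)))
      (h1.mono (by omega))) (h0.mono (by omega)), _, hb', fun j => ?_⟩
    rw [lead_mul_one (by omega) (deg_mul_sub_one (deg_mul_sub_one h3 (h2.mono (by omega)))
        (h1.mono (by omega))) (h0.mono (by omega)),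
      lead_mul_one (by omega) (deg_mul_sub_one h3 (h2.mono (by omega))) (h1.mono (by omega)),
      lead_mul_one (by omega) h3 (h2.mono (by omega)), lead_pow_one (by omega) H.deg_h,
      h0 (j + (e - 3)) j (by omega), h1 (j + (e - 3)) j (by omega), h2 (j + (e - 3)) j (by omega),
      add_zero, add_zero, add_zero]

/-- Elements of `T` killing the rows above the middle one. -/
theorem deg_of_rows {τ : GLd p d} (hτ : τ ∈ T) (hr : ∀ i j, i < e - 1 → ent (τ.val - 1) i j = 0) :
    Deg (e - 1) (τ.val - 1) := by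
  have he := H.four
  have hde := H.dim
  rcases H.form hτ with hs | ⟨N, -, β, hβ, hl⟩ | ⟨-, β, hβ, hl⟩ | ⟨hd, -⟩ | ⟨g, rfl⟩
  · exact absurd (hr 1 0 (by omega)) (hs.2 0 (by omega))
  · have := hl 0
    rw [Nat.zero_add, hr _ _ (by omega)] at this
    exact absurd this.symm (mul_ne_zero hβ N.c3_ne)
  · have := hl 0
    rw [Nat.zero_add, hr _ _ (by omega), H.toLevels.c2_zero] at this
    exact absurd this.symm (mul_ne_zero hβ (mul_ne_zero H.toLevels.lam_ne H.toLevels.gam_ne))
  · exact hd
  · rw [Units.val_pow_eq_pow_val]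
    exact (deg_pow_sub_one H.deg g).mono (by omega)

/-- The centralizer of the centre keeps the flag. -/
theorem lower_C : ∀ c ∈ cGrp G y, Deg 0 c.val := by
  classical
  have he := H.four
  have hde := H.dim
  have hep := H.toLevels.e_lt
  set C := cGrp G y
  let R : ℕ → ℕ → Prop := fun i j => j < e - 1 ∧ e - 1 ≤ i
  let P : Mx p d → Prop := fun M => ∀ i j, i < e → ¬ R i j → ent M i j = 0
  have hmulP : ∀ A B, P (A - 1) → P (B - 1) → P (A * B - 1) := fun A B hA hB i j hi hij => by
    rw [show A * B - 1 = (A - 1) * (B - 1) + ((A - 1) + (B - 1)) by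
      simp only [sub_mul, mul_sub, one_mul, mul_one]; abel, ent_add, ent_add, hA i j hi hij,
      hB i j hi hij, add_zero, add_zero]
    refine ent_mul_eq_zero _ _ _ _ fun q _ => ?_
    by_cases h1 : R i q
    · rw [hB q j (by have := h1.1; omega) fun h2 => by have := h1.1; have := h2.2; omega, mul_zero]
    · rw [hA i q hi h1, zero_mul]
  let N : Subgroup (GLd p d) :=
    { carrier := {c | c ∈ C ∧ P (c.val - 1)}
      one_mem' := ⟨C.one_mem, fun i j _ _ => by rw [Units.val_one, sub_self, ent_zero]⟩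
      mul_mem' := fun {a b} ha hb => ⟨C.mul_mem ha.1 hb.1, by rw [Units.val_mul]; exact hmulP _ _ ha.2 hb.2⟩
      inv_mem' := fun {a} ha => ⟨C.inv_mem ha.1, prop_inv (P := fun A => P (A - 1))
        (fun i j _ _ => by rw [sub_self, ent_zero]) hmulP ha.2⟩ }
  have hN : ∀ g ∈ C, ∀ u ∈ N, g * u * g⁻¹ ∈ N := by
    rintro g hg u ⟨huC, hu⟩
    refine ⟨C.mul_mem (C.mul_mem hg huC) (C.inv_mem hg), fun i j hi hij => ?_⟩
    have hde' := H.inv_de hg
    rw [show d - e = e - 1 by omega] at hde'
    rw [show (g * u * g⁻¹).val - 1 = g.val * ((u.val - 1) * (↑g⁻¹ : Mx p d)) by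
      rw [Units.val_mul, Units.val_mul, sub_mul, one_mul, mul_sub, Units.mul_inv, mul_assoc]]
    refine ent_mul_eq_zero _ _ _ _ fun q _ => ?_
    by_cases hq : e ≤ q
    · rw [H.inv_e hg i q hi hq, zero_mul]
    rw [ent_mul, Finset.mul_sum]
    refine Finset.sum_eq_zero fun q' _ => ?_
    by_cases h1 : R q q'
    · obtain ⟨h1a, h1b⟩ := h1
      rcases Nat.lt_or_ge i (e - 1) with hib | hib
      · rw [hde' i q hib h1b, zero_mul]
      · rcases Nat.lt_or_ge j (e - 1) with hjb | hjb
        · exact absurd ⟨hjb, hib⟩ hij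
        · rw [inv_inv_block hde' q' j h1a hjb, mul_zero, mul_zero]
    · rw [hu q q' (by omega) h1, zero_mul, mul_zero]
  have hNp : IsPGroup p N := by
    rintro ⟨c, hcC, hc⟩
    have hrow : ∀ i j, i < e → ent ((c.val - 1) * (c.val - 1)) i j = 0 := fun i j hi => by
      refine ent_mul_eq_zero _ _ _ _ fun q _ => ?_
      by_cases h1 : R i q
      · rw [hc q j (by have := h1.1; omega) fun h2 => by have := h1.1; have := h2.2; omega, mul_zero]
      · rw [hc i q hi h1, zero_mul]
    have hzero : (c.val - 1) ^ 4 = 0 := by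
      have hcy : Commute (c.val - 1) (y.val - 1) :=
        (show Commute c.val (y.val - 1) from commute_sub_one (mem_cGrp.1 hcC).2).sub_left
          (Commute.one_left _)
      rw [show 4 = 2 + 2 from rfl, pow_add, pow_two]
      exact H.mul_self_eq_zero (by omega) (hcy.mul_left hcy).eq hrow
    exact ⟨4, Subtype.ext (pow_eq_one_of_nilpotent hzero)⟩
  have hNT : N ≤ T := H.normal_le (fun c hc => hc.1) hNp hN
  have hNdeg : ∀ u ∈ N, Deg (e - 1) (u.val - 1) := fun u hu =>
    H.deg_of_rows (hNT hu) fun i j hi => hu.2 i j (by omega) fun h2 => by have := h2.2; omega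
  have hs1N : s₁ ∈ N := ⟨H.le_C H.s1_mem, fun i j hi hij =>
    H.toLevels.deg_s1 i j (by
      by_contra hcon
      exact hij ⟨by omega, by omega⟩)⟩
  intro c hcC
  set A := s₁.val - 1
  set Y := y.val - 1
  have hA1 : ∃ A', Deg (e - 1) A' ∧ c.val * A = A' * c.val := ⟨(c * s₁ * c⁻¹).val - 1,
    hNdeg _ (hN c hcC s₁ hs1N), by
      rw [sub_mul, one_mul, Units.val_mul, Units.val_mul, Units.inv_mul_cancel_right, mul_sub, mul_one]⟩
  have hA2 : ∃ A'', Deg (e - 1) A'' ∧ A * c.val = c.val * A'' := ⟨(c⁻¹ * s₁ * c).val - 1,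
    hNdeg _ (by simpa using hN c⁻¹ (inv_mem hcC) s₁ hs1N), by
      rw [mul_sub, mul_one, ← Units.val_mul, show c * (c⁻¹ * s₁ * c) = s₁ * c by group,
        Units.val_mul, sub_mul, one_mul]⟩
  obtain ⟨A', hA'd, hcA⟩ := hA1
  obtain ⟨A'', hA''d, hAc⟩ := hA2
  have hcY : c.val * Y = Y * c.val := commute_sub_one (mem_cGrp.1 hcC).2
  have hAl : ∀ j, j + (e - 1) < d → ent A (j + (e - 1)) j = H.lam * (2 * (j : ZMod p) + 1 - (e : ZMod p)) :=
    fun j hj => H.toLevels.c1_eq hj
  -- image under `y`
  have himg : ∀ t, Inv t c.val → Inv (t + e) c.val := fun t ht r b hr hb => by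
    refine right_cancel (b₀ := t) H.deg (fun q _ hq => H.lead_ne hq) (fun b' hb' => ?_) b hb
    show ent (c.val * Y) r b' = 0
    rw [hcY]
    refine ent_mul_eq_zero _ _ _ _ fun q _ => ?_
    rcases Nat.lt_or_ge q t with hq | hq
    · rw [ht q b' hq hb', mul_zero]
    · rw [H.deg r q (by omega), zero_mul]
  have hdown : ∀ j, 1 ≤ j → j ≤ e - 1 → ent A (j + (e - 1)) j ≠ 0 → Inv j c.val → Inv (j - 1) c.val := by
    intro j hj1 hje hne hinv
    have hbig : Inv (j + (e - 1)) c.val := by
      intro r b hr hb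
      have hY0 : ∀ b', j + e ≤ b' → ent c.val r b' = 0 := fun b' hb' =>
        right_cancel (b₀ := j) H.deg (fun q _ hq => H.lead_ne hq) (fun b'' hb'' => by
          show ent (c.val * Y) r b'' = 0
          rw [hcY]
          refine ent_mul_eq_zero _ _ _ _ fun q _ => ?_
          rcases Nat.lt_or_ge q j with hq | hq
          · rw [hinv q b'' hq hb'', mul_zero]
          · rw [H.deg r q (by omega), zero_mul]) b' hb'
      rcases Nat.lt_or_ge b (j + e) with hb' | hb'
      swap
      · exact hY0 b hb'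
      obtain rfl : b = j + (e - 1) := by omega
      have e1 : ent (c.val * A) r j = 0 := by
        rw [hcA]
        refine ent_mul_eq_zero _ _ _ _ fun q _ => ?_
        rcases Nat.lt_or_ge q j with hq | hq
        · rw [hinv q j hq le_rfl, mul_zero]
        · rw [hA'd r q (by omega), zero_mul]
      rw [ent_mul_single c.val A r j (a₀ := j + (e - 1)) fun q _ hq => by
        rcases Nat.lt_or_gt_of_ne hq with h' | h'
        · rw [H.toLevels.deg_s1 q j h', mul_zero]
        · rw [hY0 q (by omega), zero_mul]] at e1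
      exact (mul_eq_zero.1 e1).resolve_right hne
    intro r b hr hb
    refine left_cancel (r₀ := j - 1 + e) (M := c.val) H.deg (fun q _ hq => H.lead_ne hq)
      (fun r' hr' => ?_) r (by omega) (by omega)
    show ent (Y * c.val) r' b = 0
    rw [← hcY]
    refine ent_mul_eq_zero _ _ _ _ fun q _ => ?_
    rcases Nat.lt_or_ge q (b + e) with hq | hq
    · rw [H.deg q b hq, mul_zero]
    · rw [hbig r' q (by omega) (by omega), zero_mul]
  have hup : ∀ i, i + 2 ≤ e → ent A (i + (e - 1)) i ≠ 0 → Inv i c.val → Inv (i + 1) c.val := by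
    intro i hi hne hinv
    have hbig := himg i hinv
    intro r b hr hb
    have hY0 : ∀ q, q + e < i + e → q + e < d → ent c.val q b = 0 := fun q hq hq' =>
      left_cancel (r₀ := i + e) (M := c.val) H.deg (fun q _ hq => H.lead_ne hq) (fun r' hr' => by
        show ent (Y * c.val) r' b = 0
        rw [← hcY]
        refine ent_mul_eq_zero _ _ _ _ fun q' _ => ?_
        rcases Nat.lt_or_ge q' (b + e) with hq'' | hq''
        · rw [H.deg q' b hq'', mul_zero]
        · rw [hbig r' q' hr' (by omega), zero_mul]) q hq hq'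
    rcases Nat.lt_or_ge r i with hr' | hr'
    · exact hY0 r (by omega) (by omega)
    obtain rfl : r = i := by omega
    have e1 : ent (A * c.val) (r + (e - 1)) b = 0 := by
      rw [hAc]
      refine ent_mul_eq_zero _ _ _ _ fun q _ => ?_
      rcases Nat.lt_or_ge q (b + (e - 1)) with hq | hq
      · rw [hA''d q b hq, mul_zero]
      · rw [hbig (r + (e - 1)) q (by omega) (by omega), zero_mul]
    rw [ent_mul_single A c.val (r + (e - 1)) b (a₀ := r) fun q _ hq => by
      rcases Nat.lt_or_gt_of_ne hq with h' | h'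
      · rw [hY0 q (by omega) (by omega), mul_zero]
      · rw [H.toLevels.deg_s1 (r + (e - 1)) q (by omega), zero_mul]] at e1
    exact (mul_eq_zero.1 e1).resolve_left hne
  have hone : ∀ i j, i < j → j ≤ e - 1 → ent A (i + (e - 1)) i = 0 → ent A (j + (e - 1)) j = 0 →
      False := by
    intro i j hij hj hi0 hj0
    rw [hAl i (by omega)] at hi0
    rw [hAl j (by omega)] at hj0
    have h1 : H.lam * (2 * ((j - i : ℕ) : ZMod p)) = 0 := by
      rw [Nat.cast_sub hij.le]; linear_combination hj0 - hi0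
    exact mul_ne_zero H.toLevels.lam_ne
      (mul_ne_zero H.toLevels.two_ne (natCast_ne_zero (by omega) (by omega))) h1
  have hsmall : ∀ t, t ≤ e - 1 → Inv t c.val := by
    intro t ht
    by_cases hall : ∀ j, t < j → j ≤ e - 1 → ent A (j + (e - 1)) j ≠ 0
    · have key : ∀ m, t + m ≤ e - 1 → Inv (t + m) c.val → Inv t c.val := by
        intro m
        induction m with
        | zero => exact fun _ h => h
        | succ m ih =>
          intro hm h
          refine ih (by omega) ?_
          have := hdown (t + (m + 1)) (by omega) hm (hall _ (by omega) hm) h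
          rwa [show t + (m + 1) - 1 = t + m by omega] at this
      refine key (e - 1 - t) (by omega) ?_
      have := H.inv_de hcC
      rwa [show t + (e - 1 - t) = d - e by omega]
    · push Not at hall
      obtain ⟨j₀, hj₀, hj₀', hz⟩ := hall
      have key : ∀ i, i ≤ t → Inv i c.val := by
        intro i
        induction i with
        | zero => exact fun _ => inv_zero _
        | succ i ih =>
          intro hi
          exact hup i (by omega) (fun h0 => hone i j₀ (by omega) hj₀' h0 hz) (ih (by omega))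
      exact key t le_rfl
  refine deg_zero_iff.2 fun t => ?_
  rcases Nat.lt_or_ge t e with h1 | h1
  · exact hsmall t (by omega)
  rcases Nat.lt_or_ge t d with h2 | h2
  swap
  · exact inv_of_le _ h2
  have := himg (t - e) (hsmall (t - e) (by omega))
  rwa [show t - e + e = t by omega] at this

theorem e_even (hp2 : p ≠ 2) : Even e := by
  have he := H.four
  have hde := H.dim
  obtain ⟨t, htC, ht2, ht1, hmid⟩ := H.exists_involution hp2 (by omega)
  have h0 := H.lower_C t htC
  have htG := (mem_cGrp.1 htC).1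
  obtain ⟨a, ha, hdiag⟩ := H.exists_ratio H.hsub htG h0
  set t0 := ent t.val 0 0
  have ht0 : t0 ≠ 0 := diag_ne_zero h0 (show 0 < d by omega)
  have hae : a ^ e = 1 := by
    have hc := commute_sub_one (mem_cGrp.1 htC).2
    have e2 : ent (t.val * (y.val - 1)) e 0 = ent ((y.val - 1) * t.val) e 0 := by rw [hc]
    rw [ent_mul_lead h0 H.deg e 0 (by omega), ent_mul_lead H.deg h0 e 0 (by omega)] at e2
    simp only [Nat.add_zero, Nat.zero_add] at e2
    rw [hdiag e H.hed] at e2
    refine mul_right_cancel₀ (mul_ne_zero ht0 H.lead) ?_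
    linear_combination e2
  have hsq : ∀ q, q < d → (a ^ q * t0) * (a ^ q * t0) = 1 := by
    intro q hq
    have e2 : ent (t.val * t.val) q q = 1 := by
      rw [← Units.val_mul, ht2, Units.val_one, ent_one, if_pos ⟨rfl, hq⟩]
    rw [ent_mul_lead h0 h0 q q (by omega)] at e2
    simp only [Nat.add_zero] at e2
    rwa [hdiag q hq] at e2
  have ha2 : a ^ 2 = 1 := by
    have h1 := hsq 0 (by omega)
    have h2 := hsq 1 (by omega)
    rw [pow_zero, one_mul] at h1
    linear_combination h2 - a ^ 2 * h1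
  rcases sq_eq_one_iff.1 ha2 with rfl | rfl
  · exfalso
    have hmid' := hmid (e - 1) (e - 1) (by omega) (by omega)
    rw [ent_sub, ent_one, if_pos ⟨rfl, by omega⟩, hdiag _ (by omega), one_pow, one_mul, sub_eq_zero] at hmid'
    have hu : Uni t.val := uni_of h0 fun j hj => by rw [hdiag j hj, one_pow, one_mul, hmid']
    have htp : t ^ p = 1 := Units.ext (by
      rw [Units.val_pow_eq_pow_val, hu.pow_prime H.le, Units.val_one])
    have := pow_gcd_eq_one.2 ⟨htp, show t ^ 2 = 1 by rw [pow_two]; exact ht2⟩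
    rw [(Nat.coprime_primes hp.out Nat.prime_two).2 hp2, pow_one] at this
    exact ht1 this
  · rcases Nat.even_or_odd e with h | h
    · exact h
    · exfalso
      rw [h.neg_one_pow] at hae
      exact H.toLevels.two_ne (by linear_combination -hae)

theorem c1_ne (hp2 : p ≠ 2) {j : ℕ} (hj : j + (e - 1) < d) :
    ent (s₁.val - 1) (j + (e - 1)) j ≠ 0 := by
  obtain ⟨m, hm⟩ := H.e_even hp2
  have hde := H.dim
  have hep := H.toLevels.e_lt
  rw [H.toLevels.c1_eq hj]
  refine mul_ne_zero H.toLevels.lam_ne fun h0 => ?_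
  rcases Nat.lt_or_ge (2 * j + 1) e with h | h
  · refine natCast_ne_zero (p := p) (m := e - (2 * j + 1)) (by omega) (by omega) ?_
    rw [Nat.cast_sub h.le]
    push_cast
    linear_combination -h0
  · refine natCast_ne_zero (p := p) (m := 2 * j + 1 - e) (by omega) (by omega) ?_
    rw [Nat.cast_sub h]
    push_cast
    exact h0

/-- The centre is weakly closed in `T`. -/
theorem weak (hp2 : p ≠ 2) {g : GLd p d} (hu : g⁻¹ * y * g ∈ T) :
    ∃ b : ℕ, g⁻¹ * y * g = y ^ b := by
  have he := H.four
  have hde := H.dim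
  set u := g⁻¹ * y * g with hudef
  set U := u.val - 1
  have hU : U = (↑g⁻¹ : Mx p d) * (y.val - 1) * g.val := by
    show (g⁻¹ * y * g).val - 1 = _
    rw [Units.val_mul, Units.val_mul, mul_sub, sub_mul, mul_one, Units.inv_mul]
  have hUU : U * U = 0 := by
    rw [hU, show (↑g⁻¹ : Mx p d) * (y.val - 1) * g.val * (↑g⁻¹ * (y.val - 1) * g.val) =
      ↑g⁻¹ * ((y.val - 1) * (g.val * ↑g⁻¹) * (y.val - 1)) * g.val by simp only [mul_assoc],
      Units.mul_inv, mul_one, (H.deg.mul H.deg).eq_zero (by omega), mul_zero, zero_mul]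
  have hsq : ∀ {w : ℕ} (j : ℕ), Deg w U → j + (w + w) < d →
      ent U (j + (w + w)) (j + w) * ent U (j + w) j = 0 := fun {w} j hd hlt => by
    rw [← ent_mul_lead hd hd (j + (w + w)) j rfl, hUU, ent_zero]
  have h2ne := H.toLevels.two_ne
  rcases H.form hu with hs | ⟨N, hd, β, hβ, hl⟩ | ⟨hd, β, hβ, hl⟩ | ⟨hd, β, hβ, hl⟩ | h
  · exfalso
    have := hsq 0 hs.1 (by omega)
    exact mul_ne_zero (hs.2 1 (by omega)) (hs.2 0 (by omega)) this
  · exfalso
    have he5 := N.e_five
    have := hsq (w := e - 3) 2 hd (by omega)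
    rw [show 2 + (e - 3 + (e - 3)) = e - 1 + (e - 3) by omega, show 2 + (e - 3) = e - 1 by omega,
      hl (e - 1)] at this
    have h2 := hl 2
    rw [show 2 + (e - 3) = e - 1 by omega] at h2
    rw [h2, N.c3_two.1, N.c3_two.2] at this
    have hne : 3 * H.gam / 2 + (e : ZMod p) - 1 ≠ 0 := by
      intro h0
      field_simp at h0
      have h1 := H.toLevels.gam_eq
      have h3 : ((e : ZMod p) - 1) * ((e : ZMod p) - 5) = 0 := by
        linear_combination -3 * h1 + 2 * ((e : ZMod p) - 2) * h0
      rcases mul_eq_zero.1 h3 with h4 | h4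
      · exact H.toLevels.e_sub_one_ne h4
      · obtain ⟨m, hm⟩ := H.e_even hp2
        refine natCast_ne_zero (p := p) (m := e - 5) (by omega) (by have := H.toLevels.e_lt; omega) ?_
        rw [Nat.cast_sub (by omega : 5 ≤ e)]
        exact_mod_cast h4
    exact mul_ne_zero (mul_ne_zero hβ (mul_ne_zero H.toLevels.lam_ne hne))
      (mul_ne_zero hβ (neg_ne_zero.2 (mul_ne_zero H.toLevels.lam_ne hne))) this
  · exfalso
    have := hsq (w := e - 2) 1 hd (by omega)
    rw [show 1 + (e - 2 + (e - 2)) = e - 1 + (e - 2) by omega, show 1 + (e - 2) = e - 1 by omega,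
      hl (e - 1)] at this
    have h2 := hl 1
    rw [show 1 + (e - 2) = e - 1 by omega] at h2
    have h3 := H.toLevels.c2_eq 1 (by omega)
    rw [show 1 + (e - 2) = e - 1 by omega] at h3
    rw [h2, H.toLevels.c2_eq (e - 1) (by omega), h3, Nat.cast_sub (by omega : 1 ≤ e), Nat.cast_one] at this
    have hne := H.toLevels.gam_add_ne
    refine mul_ne_zero (mul_ne_zero hβ (mul_ne_zero H.toLevels.lam_ne ?_))
      (mul_ne_zero hβ (mul_ne_zero H.toLevels.lam_ne ?_)) this
    · intro h0; exact hne (by linear_combination h0)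
    · intro h0; exact hne (by linear_combination h0)
  · exfalso
    have := hsq (w := e - 1) 0 hd (by omega)
    simp only [Nat.zero_add] at this
    rw [hl (e - 1), show ent U (e - 1) 0 = β * ent (s₁.val - 1) (e - 1) 0 by
      simpa using hl 0] at this
    exact mul_ne_zero (mul_ne_zero hβ (H.c1_ne hp2 (by omega)))
      (mul_ne_zero hβ (by simpa using H.c1_ne hp2 (j := 0) (by omega))) this
  · exact h

/-- No conjugate of `T` by an element moving the flag contains the centre. -/
theorem y_free (hp2 : p ≠ 2) {g : GLd p d} (hg : g ∈ G) (hg0 : ¬ Deg 0 g.val) :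
    g⁻¹ * y * g ∉ T := fun hu => by
  obtain ⟨b, hb⟩ := H.weak hp2 hu
  have hbne : (b : ZMod p) ≠ 0 := fun h0 => by
    rw [H.pow_one_of H.y_mem h0] at hb
    exact H.y_ne_one (by
      calc y = g * (g⁻¹ * y * g) * g⁻¹ := by group
        _ = 1 := by rw [hb, mul_one, mul_inv_cancel])
  refine hg0 (H.lower_of_x ?_)
  refine H.mem_T_of_pElem H.lower_C (mem_cGrp.2
    ⟨mul_mem (mul_mem (inv_mem hg) H.x_memG) hg, ?_⟩)
    (m := 1) (by simpa using H.conj_pow_p (g := g⁻¹) H.x_mem)
  have hc : Commute (g⁻¹ * x * g) (y ^ b) := by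
    show g⁻¹ * x * g * y ^ b = y ^ b * (g⁻¹ * x * g)
    rw [← hb]
    calc g⁻¹ * x * g * (g⁻¹ * y * g) = g⁻¹ * (x * y) * g := by group
      _ = g⁻¹ * (y * x) * g := by rw [H.comm x H.x_mem]
      _ = g⁻¹ * y * g * (g⁻¹ * x * g) := by group
  have hco : Nat.Coprime b (orderOf y) := by
    rw [H.orderOf_y, Nat.coprime_comm, hp.out.coprime_iff_not_dvd]
    exact fun hd => hbne ((ZMod.natCast_eq_zero_iff b p).2 hd)
  obtain ⟨m, hm⟩ := exists_pow_eq_self_of_coprime hco
  have := hc.pow_right m
  rwa [hm] at this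

theorem pow_congr {u : GLd p d} (hu : u ∈ T) {i j : ℕ} (h0 : (i : ZMod p) = (j : ZMod p)) :
    u ^ i = u ^ j := by
  rcases eq_or_ne u 1 with rfl | hne
  · rw [one_pow, one_pow]
  rw [pow_eq_pow_iff_modEq, orderOf_eq_prime (H.pow_p hu) hne]
  exact (ZMod.natCast_eq_natCast_iff i j p).1 h0

theorem swap_pow (a b : ℕ) : x ^ a * s₁ ^ b = s₁ ^ b * y ^ (a * b) * x ^ a := by
  have hxy : Commute x y := H.comm x H.x_mem
  have hsy : Commute s₁ y := H.comm s₁ H.s1_mem
  have h1 : ∀ a : ℕ, x ^ a * s₁ = s₁ * y ^ a * x ^ a := by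
    intro a
    induction a with
    | zero => simp
    | succ a ih =>
      calc x ^ (a + 1) * s₁ = x * (x ^ a * s₁) := by rw [pow_succ']; group
        _ = (x * s₁) * y ^ a * x ^ a := by rw [ih]; simp only [mul_assoc]
        _ = s₁ * y * (x * y ^ a) * x ^ a := by rw [H.rel1, ← hsy.eq]; simp only [mul_assoc]
        _ = s₁ * y * (y ^ a * x) * x ^ a := by rw [(hxy.pow_right a).eq]
        _ = s₁ * y ^ (a + 1) * x ^ (a + 1) := by
          rw [pow_succ' y, pow_succ' x]; simp only [mul_assoc]
  induction b with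
  | zero => simp
  | succ b ih =>
    calc x ^ a * s₁ ^ (b + 1) = (x ^ a * s₁ ^ b) * s₁ := by rw [pow_succ, mul_assoc]
      _ = s₁ ^ b * y ^ (a * b) * (x ^ a * s₁) := by rw [ih]; simp only [mul_assoc]
      _ = s₁ ^ b * (y ^ (a * b) * s₁) * y ^ a * x ^ a := by rw [h1]; simp only [mul_assoc]
      _ = s₁ ^ b * (s₁ * y ^ (a * b)) * y ^ a * x ^ a := by rw [(hsy.symm.pow_left _).eq]
      _ = s₁ ^ (b + 1) * y ^ (a * (b + 1)) * x ^ a := by
        rw [pow_succ, Nat.mul_succ, pow_add]; simp only [mul_assoc]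

/-- The impossibility. -/
theorem impossible (hp2 : p ≠ 2) : False := by
  classical
  have he := H.four
  have hde := H.dim
  have hxy : Commute x y := H.comm x H.x_mem
  have hsy : Commute s₁ y := H.comm s₁ H.s1_mem
  haveI := Fintype.ofFinite (Cosets G T)
  haveI : NeZero p := ⟨hp.out.ne_zero⟩
  have hcol : ∀ τ ∈ T, ∀ q, ent τ.val q (d - 1) = if q = d - 1 then 1 else 0 := by
    intro τ hτ q
    rcases lt_trichotomy q (d - 1) with h1 | h1 | h1
    · rw [if_neg h1.ne, (H.uni τ hτ).deg_zero q (d - 1) (by omega)]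
    · subst h1
      rw [if_pos rfl, (H.uni τ hτ).diag (by omega)]
    · rw [if_neg h1.ne', ent_of_row _ (by omega)]
  have hwell : ∀ g : GLd p d, ∀ τ ∈ T, ∀ b, ent (g * τ).val b (d - 1) = ent g.val b (d - 1) := by
    intro g τ hτ b
    rw [Units.val_mul, ent_mul_single g.val τ.val b (d - 1) (a₀ := d - 1) fun q _ hq => by
      rw [hcol τ hτ, if_neg hq, mul_zero], hcol τ hτ, if_pos rfl, mul_one]
  -- elements of `⟨x, y⟩` and of `⟨x, s₁, y⟩`
  have hlow : ∀ {s : GLd p d}, s ∈ T → ∀ g : GLd p d, Deg 0 (s * g).val → Deg 0 g.val :=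
    fun {s} hs g h => by
      have := (deg_zero_inv (H.uni s hs).deg_zero).mul h
      rwa [Units.val_mul, Units.inv_mul_cancel_left, Nat.add_zero] at this
  have hinv0 : ∀ g, ∀ τ ∈ T, Deg 0 (g * τ).val = Deg 0 g.val := fun g τ hτ =>
    propext ⟨fun h => by
      have := h.mul (deg_zero_inv (H.uni τ hτ).deg_zero)
      rwa [Units.val_mul, mul_assoc, Units.mul_inv, mul_one, Nat.add_zero] at this, fun h => by
      rw [Units.val_mul]; exact h.mul (H.uni τ hτ).deg_zero⟩
  let Hi : GLd p d → Prop := fun g => ∀ b, b < e - 2 → ent g.val b (d - 1) = 0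
  have hHi : ∀ g, ∀ τ ∈ T, Hi (g * τ) = Hi g := fun g τ hτ => by
    simp only [Hi, hwell g τ hτ]
  have hHileft : ∀ {s : GLd p d}, s ∈ T → ∀ g, Hi g → Hi (s * g) := fun {s} hs g hg b hb => by
    rw [Units.val_mul]
    refine ent_mul_eq_zero _ _ _ _ fun q _ => ?_
    rcases Nat.lt_or_ge b q with h1 | h1
    · rw [(H.uni s hs).deg_zero b q (by omega), zero_mul]
    · rw [hg q (by omega), mul_zero]
  have hclsT : ∀ (l : ℕ) (w : Fin l → ℕ) (c : Fin l) (u : GLd p d), 1 ≤ w c → u ∈ T →
      Deg (w c) (u.val - 1) → Cls w gr1 0 (fun ι : Var p l => (u ^ (ι c).val).val) := by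
    intro l w c u hw hu hdeg
    simp only [Units.val_pow_eq_pow_val]
    exact cls_pow hw hdeg ((H.uni u hu).pow_prime H.le)
  -- the sum for a row vector
  have key : ∀ φ : Fin d → ZMod p,
      ∑ q : Cosets G T, (∑ b, φ b * ent (rep q).val b (d - 1)) ^ (p - 1) =
        ((univ.filter fun q : Cosets G T => Deg 0 (rep q).val).card : ZMod p) *
          φ ⟨d - 1, by omega⟩ ^ (p - 1) := by
    intro φ
    set F : GLd p d → ZMod p := fun g => (∑ b, φ b * ent g.val b (d - 1)) ^ (p - 1)
    have hF : ∀ g, ∀ τ ∈ T, F (g * τ) = F g := fun g τ hτ => by simp only [F, hwell g τ hτ]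
    show ∑ q : Cosets G T, F (rep q) = _
    rw [← Finset.sum_filter_add_sum_filter_not univ (fun q : Cosets G T => Deg 0 (rep q).val)]
    have hval : ∀ q : Cosets G T, Deg 0 (rep q).val → F (rep q) = φ ⟨d - 1, by omega⟩ ^ (p - 1) := by
      intro q h0
      show (∑ b : Fin d, φ b * ent (rep q).val b (d - 1)) ^ (p - 1) = _
      rw [Finset.sum_eq_single (⟨d - 1, by omega⟩ : Fin d), mul_pow,
        ZMod.pow_card_sub_one_eq_one (diag_ne_zero h0 (show d - 1 < d by omega)), mul_one]
      · intro b _ hb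
        rw [h0 b (d - 1) (by
          have := b.2
          have : (b : ℕ) ≠ d - 1 := fun h => hb (Fin.ext h)
          omega), mul_zero]
      · exact fun h => absurd (mem_univ _) h
    rw [Finset.sum_congr rfl (fun q hq => hval q (mem_filter.1 hq).2), Finset.sum_const, nsmul_eq_mul,
      add_eq_left, ← Finset.sum_filter_add_sum_filter_not _ (fun q : Cosets G T => Hi (rep q))]
    have hmap : ∀ (s : GLd p d) (hsT : s ∈ T) (q : Cosets G T),
        (Deg 0 (rep ((⟨s, H.le_G hsT⟩ : ↥G) • q)).val → Deg 0 (rep q).val) ∧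
        (Hi (rep ((⟨s, H.le_G hsT⟩ : ↥G) • q)) ↔ Hi (rep q)) := fun s hsT q => by
      rw [apply_smul (fun g => Deg 0 g.val) hinv0, apply_smul Hi hHi]
      refine ⟨hlow hsT _, fun h => ?_, hHileft hsT _⟩
      have := hHileft (inv_mem hsT) _ h
      simpa [← mul_assoc] using this
    have h1 : ∑ q ∈ (univ.filter fun q : Cosets G T => ¬ Deg 0 (rep q).val).filter
        (fun q => Hi (rep q)), F (rep q) = 0 := by
      refine sum_cosets_eq_zero F hF (fun k : ZMod p × ZMod p => x ^ k.1.val * y ^ k.2.val)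
        (fun k => mul_mem (pow_mem H.x_memG _) (pow_mem (H.le_G H.y_mem) _)) ?_
        ⟨0, by simp [ZMod.val_zero]⟩ ?_ _ ?_ ?_ ?_
      · intro k k' hk
        simp only at hk
        have e1 := H.subdiag_xy k.1.val k.2.val
        rw [hk, H.subdiag_xy, ZMod.natCast_zmod_val, ZMod.natCast_zmod_val] at e1
        refine Prod.ext e1.symm (ZMod.val_injective p (pow_injOn_Iio_orderOf (by
          rw [Set.mem_Iio, H.orderOf_y]; exact k.2.val_lt) (by
          rw [Set.mem_Iio, H.orderOf_y]; exact k'.2.val_lt) ?_))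
        rw [e1] at hk
        exact mul_left_cancel hk
      · exact fun k k' => ⟨k + k', by
          rw [Commute.mul_mul_mul_comm (hxy.symm.pow_pow _ _), ← pow_add, ← pow_add,
            H.pow_congr H.x_mem (show ((k.1.val + k'.1.val : ℕ) : ZMod p) = (((k + k').1.val : ℕ) : ZMod p) by
              simp),
            H.pow_congr H.y_mem (show ((k.2.val + k'.2.val : ℕ) : ZMod p) = (((k + k').2.val : ℕ) : ZMod p) by
              simp)]⟩
      · intro q hq k
        simp only [mem_filter, mem_univ, true_and] at hq ⊢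
        have hm := hmap _ (mul_mem (pow_mem H.x_mem k.1.val) (pow_mem H.y_mem k.2.val)) q
        exact ⟨fun h => hq.1 (hm.1 h), hm.2.2 hq.2⟩
      · intro q hq k hk
        simp only [mem_filter, mem_univ, true_and] at hq
        obtain ⟨h1, h2⟩ := H.xy_free hq.1 (H.y_free hp2 (rep_mem q) hq.1) k.1.val_lt k.2.val_lt hk
        show x ^ k.1.val * y ^ k.2.val = 1
        rw [h1, h2, pow_zero, pow_zero, mul_one]
      · intro q hq
        simp only [mem_filter, mem_univ, true_and] at hq
        set g := rep q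
        set v : Fin d → ZMod p := fun b => ent g.val b (d - 1)
        have hX := hclsT 2 ![1, e] 0 x le_rfl H.x_mem (H.uni x H.x_mem)
        have hY := hclsT 2 ![1, e] 1 y (by simp; omega) H.y_mem H.deg
        have hXY := hX.mul hY
        rw [add_zero] at hXY
        have hpol : Pol (![1, e] : Fin 2 → ℕ) (((p - 1 : ℕ) : ℤ) * (e : ℤ))
            (fun ι : Var p 2 => (∑ b, φ b * ((x ^ (ι 0).val).val * (y ^ (ι 1).val).val).mulVec v b) ^ (p - 1)) := by
          refine Pol.pow ?_ (p - 1)
          rw [show (fun ι : Var p 2 => ∑ b, φ b *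
              ((x ^ (ι 0).val).val * (y ^ (ι 1).val).val).mulVec v b) =
            ∑ b, φ b • fun ι : Var p 2 => ((x ^ (ι 0).val).val * (y ^ (ι 1).val).val).mulVec v b by
              funext ι; simp [Finset.sum_apply]]
          refine Pol.sum fun b _ => ((pol_mulVec hXY (t := e - 2) (v := v) (fun c hc => hq.2 c hc) b).mono ?_).smul _
          have := b.2
          omega
        have h0 := sum_two_var hpol (by
          show ((p - 1 : ℕ) : ℤ) * (e : ℤ) < (((p - 1) * (1 + e) : ℕ) : ℤ)
          rw [Nat.cast_mul]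
          exact mul_lt_mul_of_pos_left (by omega) (by have := hp.out.two_le; omega))
        rw [← h0, ← Fintype.sum_prod_type']
        refine Finset.sum_congr rfl fun k _ => ?_
        show (∑ b : Fin d, φ b * ent (x ^ k.1.val * y ^ k.2.val * g).val b (d - 1)) ^ (p - 1) = _
        refine congrArg (· ^ (p - 1)) (Finset.sum_congr rfl fun b _ => congrArg (φ b * ·) ?_)
        simp only [Matrix.cons_val_zero, Matrix.cons_val_one, Units.val_mul]
        rw [ent_mul, Matrix.mulVec, dotProduct,
          ← Fin.sum_univ_eq_sum_range (fun c => ent ((x ^ k.1.val).val * (y ^ k.2.val).val) b c *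
            ent g.val c (d - 1)) d]
        exact Finset.sum_congr rfl fun c _ => by rw [ent_fin]
    have h2 : ∑ q ∈ (univ.filter fun q : Cosets G T => ¬ Deg 0 (rep q).val).filter
        (fun q => ¬ Hi (rep q)), F (rep q) = 0 := by
      refine sum_cosets_eq_zero F hF
        (fun k : ZMod p × ZMod p × ZMod p => x ^ k.1.val * s₁ ^ k.2.1.val * y ^ k.2.2.val)
        (fun k => mul_mem (mul_mem (pow_mem H.x_memG _) (pow_mem (H.le_G H.s1_mem) _))
          (pow_mem (H.le_G H.y_mem) _)) ?_ ⟨0, by simp [ZMod.val_zero]⟩ ?_ _ ?_ ?_ ?_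
      · intro k k' hk
        simp only at hk
        have hs : ∀ (i f j : ℕ), ent (x ^ i * s₁ ^ f * y ^ j).val 1 0 = (i : ZMod p) := fun i f j => by
          have := H.subdiag i 0 0 f j 0 (by omega)
          simpa using this
        have e1 := hs k.1.val k.2.1.val k.2.2.val
        rw [hk, hs, ZMod.natCast_zmod_val, ZMod.natCast_zmod_val] at e1
        rw [e1, mul_assoc, mul_assoc] at hk
        have hk2 := mul_left_cancel hk
        have hl : ∀ (f j : ℕ), ent ((s₁ ^ f * y ^ j).val - 1) (0 + (e - 1)) 0 =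
            (f : ZMod p) * ent (s₁.val - 1) (0 + (e - 1)) 0 := fun f j => by
          simp only [Units.val_mul, Units.val_pow_eq_pow_val]
          rw [lead_mul_one (by omega) (deg_pow_sub_one H.toLevels.deg_s1 f)
            ((deg_pow_sub_one H.deg j).mono (by omega)), lead_pow_one (by omega) H.toLevels.deg_s1,
            deg_pow_sub_one H.deg j (0 + (e - 1)) 0 (by omega), add_zero]
        have e2 := hl k.2.1.val k.2.2.val
        rw [hk2, hl, ZMod.natCast_zmod_val, ZMod.natCast_zmod_val] at e2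
        have e3 := mul_right_cancel₀ (H.c1_ne hp2 (j := 0) (by omega)) e2
        rw [e3] at hk2
        refine Prod.ext e1.symm (Prod.ext e3.symm (ZMod.val_injective p (pow_injOn_Iio_orderOf (by
          rw [Set.mem_Iio, H.orderOf_y]; exact k.2.2.val_lt) (by
          rw [Set.mem_Iio, H.orderOf_y]; exact k'.2.2.val_lt) ?_)))
        exact mul_left_cancel hk2
      · intro k k'
        set i := k.1.val; set f := k.2.1.val; set j := k.2.2.val
        set i' := k'.1.val; set f' := k'.2.1.val; set j' := k'.2.2.val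
        have h3 : s₁ ^ f * x ^ i' = x ^ i' * s₁ ^ f * y ^ ((p - 1) * (i' * f)) := by
          rw [H.swap_pow i' f]
          have hp1 : y ^ (i' * f) * y ^ ((p - 1) * (i' * f)) = 1 := by
            rw [← pow_add, show i' * f + (p - 1) * (i' * f) = p * (i' * f) by
              conv_rhs => rw [show p = p - 1 + 1 by have := hp.out.pos; omega, Nat.succ_mul]
              omega, pow_mul, H.pow_p H.y_mem, one_pow]
          symm
          calc s₁ ^ f * y ^ (i' * f) * x ^ i' * y ^ ((p - 1) * (i' * f))
              = s₁ ^ f * y ^ (i' * f) * (x ^ i' * y ^ ((p - 1) * (i' * f))) := by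
                simp only [mul_assoc]
            _ = s₁ ^ f * (y ^ (i' * f) * y ^ ((p - 1) * (i' * f))) * x ^ i' := by
              rw [(hxy.pow_pow i' ((p - 1) * (i' * f))).eq]; simp only [mul_assoc]
            _ = s₁ ^ f * x ^ i' := by rw [hp1, mul_one]
        refine ⟨(k.1 + k'.1, k.2.1 + k'.2.1, (((p - 1) * (i' * f) + (j + j') : ℕ) : ZMod p)), ?_⟩
        simp only
        rw [show x ^ (k.1 + k'.1).val = x ^ (i + i') from H.pow_congr H.x_mem (by
            simp [i, i', ZMod.natCast_zmod_val]),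
          show s₁ ^ (k.2.1 + k'.2.1).val = s₁ ^ (f + f') from H.pow_congr H.s1_mem (by
            simp [f, f', ZMod.natCast_zmod_val]),
          show y ^ (((p - 1) * (i' * f) + (j + j') : ℕ) : ZMod p).val =
              y ^ ((p - 1) * (i' * f) + (j + j')) from H.pow_congr H.y_mem (by
            rw [ZMod.natCast_zmod_val])]
        calc x ^ i * s₁ ^ f * y ^ j * (x ^ i' * s₁ ^ f' * y ^ j')
            = x ^ i * s₁ ^ f * (y ^ j * x ^ i') * s₁ ^ f' * y ^ j' := by simp only [mul_assoc]
          _ = x ^ i * s₁ ^ f * (x ^ i' * y ^ j) * s₁ ^ f' * y ^ j' := by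
            rw [(hxy.symm.pow_pow j i').eq]
          _ = x ^ i * (s₁ ^ f * x ^ i') * (y ^ j * s₁ ^ f') * y ^ j' := by simp only [mul_assoc]
          _ = x ^ i * (x ^ i' * s₁ ^ f * y ^ ((p - 1) * (i' * f))) * (s₁ ^ f' * y ^ j) * y ^ j' := by
            rw [h3, (hsy.symm.pow_pow j f').eq]
          _ = x ^ i * x ^ i' * s₁ ^ f * (y ^ ((p - 1) * (i' * f)) * s₁ ^ f') * y ^ j * y ^ j' := by
            simp only [mul_assoc]
          _ = x ^ i * x ^ i' * s₁ ^ f * (s₁ ^ f' * y ^ ((p - 1) * (i' * f))) * y ^ j * y ^ j' := by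
            rw [(hsy.symm.pow_pow ((p - 1) * (i' * f)) f').eq]
          _ = _ := by simp only [pow_add, mul_assoc]
      · intro q hq k
        simp only [mem_filter, mem_univ, true_and] at hq ⊢
        have hm := hmap _ (mul_mem (mul_mem (pow_mem H.x_mem k.1.val) (pow_mem H.s1_mem k.2.1.val))
          (pow_mem H.y_mem k.2.2.val)) q
        exact ⟨fun h => hq.1 (hm.1 h), fun h => hq.2 (hm.2.1 h)⟩
      · intro q hq k hk
        simp only [mem_filter, mem_univ, true_and] at hq
        set g := rep q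
        set τ := x ^ k.1.val * s₁ ^ k.2.1.val * y ^ k.2.2.val with hτdef
        have hτT : τ ∈ T := mul_mem (mul_mem (pow_mem H.x_mem _) (pow_mem H.s1_mem _)) (pow_mem H.y_mem _)
        have hi : (k.1.val : ZMod p) = 0 := by
          by_contra hne
          refine hq.1 (H.lower_of_single (u := τ) ⟨H.uni _ hτT, fun q' hq' => ?_⟩ hk)
          rw [ent_sub, ent_one, if_neg (by omega), sub_zero]
          have := H.subdiag k.1.val 0 0 k.2.1.val k.2.2.val q' hq'
          simp only [pow_zero, mul_one] at this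
          rw [this]
          exact hne
        have hk1 : k.1.val = 0 := by
          rw [ZMod.natCast_zmod_val] at hi
          rw [hi, ZMod.val_zero]
        have hfix : ∀ b, ent ((τ.val - 1) * g.val) b (d - 1) = 0 := fun b => by
          rw [sub_mul, one_mul, ent_sub, ← Units.val_mul,
            show τ * g = g * (g⁻¹ * τ * g) by group, hwell g _ hk, sub_self]
        have hex : ∃ t, t < e - 2 ∧ ent g.val t (d - 1) ≠ 0 := by
          by_contra hcon
          push Not at hcon
          exact hq.2 fun b hb => hcon b hb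
        obtain ⟨ht, htne⟩ := Nat.find_spec hex
        have hmin : ∀ b, b < Nat.find hex → ent g.val b (d - 1) = 0 := fun b hb => by
          by_contra hne
          exact Nat.find_min hex hb ⟨by omega, hne⟩
        set t := Nat.find hex
        have hτ' : τ = s₁ ^ k.2.1.val * y ^ k.2.2.val := by
          rw [hτdef, hk1, pow_zero, one_mul]
        have hdτ : Deg (e - 1) (τ.val - 1) := by
          rw [hτ', Units.val_mul, Units.val_pow_eq_pow_val, Units.val_pow_eq_pow_val]
          exact deg_mul_sub_one (deg_pow_sub_one H.toLevels.deg_s1 _)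
            ((deg_pow_sub_one H.deg _).mono (by omega))
        have hf : (k.2.1.val : ZMod p) = 0 := by
          have := hfix (t + (e - 1))
          rw [ent_mul_single _ _ _ _ (a₀ := t) fun c _ hc => by
            rcases Nat.lt_or_gt_of_ne hc with h' | h'
            · rw [hmin c h', mul_zero]
            · rw [hdτ _ _ (by omega), zero_mul]] at this
          have h4 := (mul_eq_zero.1 this).resolve_right htne
          rw [hτ', Units.val_mul, Units.val_pow_eq_pow_val, Units.val_pow_eq_pow_val,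
            lead_mul_one (by omega) (deg_pow_sub_one H.toLevels.deg_s1 _)
              ((deg_pow_sub_one H.deg _).mono (by omega)),
            lead_pow_one (by omega) H.toLevels.deg_s1,
            deg_pow_sub_one H.deg _ (t + (e - 1)) t (by omega), add_zero] at h4
          exact (mul_eq_zero.1 h4).resolve_right (H.c1_ne hp2 (by omega))
        have hτy : τ = x ^ 0 * y ^ k.2.2.val := by
          rw [hτ', H.pow_one_of H.s1_mem hf, one_mul, pow_zero, one_mul]
        rw [hτy] at hk
        obtain ⟨-, h2⟩ := H.xy_free hq.1 (H.y_free hp2 (rep_mem q) hq.1) hp.out.pos k.2.2.val_lt hk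
        rw [hτy, h2, pow_zero, pow_zero, mul_one]
      · intro q hq
        set g := rep q
        set v : Fin d → ZMod p := fun b => ent g.val b (d - 1)
        have hX := hclsT 3 ![1, e - 1, e] 0 x le_rfl H.x_mem (H.uni x H.x_mem)
        have hS := hclsT 3 ![1, e - 1, e] 1 s₁ (by simp; omega) H.s1_mem H.toLevels.deg_s1
        have hY := hclsT 3 ![1, e - 1, e] 2 y (by simp; omega) H.y_mem H.deg
        have hXY := (hX.mul hS).mul hY
        simp only [add_zero] at hXY
        have hpol : Pol (![1, e - 1, e] : Fin 3 → ℕ) (((p - 1 : ℕ) : ℤ) * ((d - 1 : ℕ) : ℤ))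
            (fun ι : Var p 3 => (∑ b, φ b * ((x ^ (ι 0).val).val * (s₁ ^ (ι 1).val).val *
              (y ^ (ι 2).val).val).mulVec v b) ^ (p - 1)) := by
          refine Pol.pow ?_ (p - 1)
          rw [show (fun ι : Var p 3 => ∑ b, φ b * ((x ^ (ι 0).val).val * (s₁ ^ (ι 1).val).val *
              (y ^ (ι 2).val).val).mulVec v b) =
            ∑ b, φ b • fun ι : Var p 3 => ((x ^ (ι 0).val).val * (s₁ ^ (ι 1).val).val *
              (y ^ (ι 2).val).val).mulVec v b by
              funext ι; simp [Finset.sum_apply]]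
          refine Pol.sum fun b _ => ((pol_mulVec hXY (t := 0) (v := v)
            (fun c hc => absurd hc (Nat.not_lt_zero _)) b).mono ?_).smul _
          have := b.2
          omega
        have h0 := sum_three_var hpol (by
          show ((p - 1 : ℕ) : ℤ) * ((d - 1 : ℕ) : ℤ) < (((p - 1) * (1 + (e - 1) + e) : ℕ) : ℤ)
          rw [Nat.cast_mul]
          exact mul_lt_mul_of_pos_left (by omega) (by have := hp.out.two_le; omega))
        rw [← h0]
        simp only [Fintype.sum_prod_type]
        refine Finset.sum_congr rfl fun i _ => Finset.sum_congr rfl fun f _ =>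
          Finset.sum_congr rfl fun j _ => ?_
        show (∑ b : Fin d, φ b * ent (x ^ i.val * s₁ ^ f.val * y ^ j.val * g).val b (d - 1)) ^ (p - 1) = _
        refine congrArg (· ^ (p - 1)) (Finset.sum_congr rfl fun b _ => congrArg (φ b * ·) ?_)
        simp only [Matrix.cons_val_zero, Matrix.cons_val_one, Matrix.cons_val, Units.val_mul]
        rw [ent_mul, Matrix.mulVec, dotProduct,
          ← Fin.sum_univ_eq_sum_range (fun c => ent ((x ^ i.val).val * (s₁ ^ f.val).val * (y ^ j.val).val) b c *
            ent g.val c (d - 1)) d]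
        exact Finset.sum_congr rfl fun c _ => by rw [ent_fin]
    rw [h1, h2, add_zero]
  -- invariance: the last flag member would be invariant
  obtain ⟨h', hh', hne⟩ := H.irr (d - 1) (by omega) (by omega)
  refine hne fun a b ha hb => ?_
  by_cases hbd : b < d
  swap
  · exact ent_of_col _ (le_of_not_gt hbd)
  obtain rfl : b = d - 1 := by omega
  have e1 := key fun c => ent h'.val a c
  have e2 := key fun c => if (c : ℕ) = a then 1 else 0
  have hinv := sum_translate (T := T) (fun g : GLd p d => (ent g.val a (d - 1)) ^ (p - 1))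
    (fun g τ hτ => by simp only [hwell g τ hτ]) ⟨h', hh'⟩
  have e3 : ∀ q : Cosets G T, ∑ c : Fin d, ent h'.val a c * ent (rep q).val c (d - 1) =
      ent (h' * rep q).val a (d - 1) := fun q => by
    rw [Units.val_mul, ent_mul,
      ← Fin.sum_univ_eq_sum_range (fun c => ent h'.val a c * ent (rep q).val c (d - 1)) d]
  have e4 : ∀ q : Cosets G T, ∑ c : Fin d, (if (c : ℕ) = a then (1 : ZMod p) else 0) *
      ent (rep q).val c (d - 1) = ent (rep q).val a (d - 1) := fun q => by
    rw [Finset.sum_eq_single (⟨a, by omega⟩ : Fin d), if_pos rfl, one_mul]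
    · exact fun c _ hc => by rw [if_neg fun h => hc (Fin.ext h), zero_mul]
    · exact fun h => absurd (mem_univ _) h
  simp only [e3] at e1
  simp only [e4] at e2
  rw [hinv, e2] at e1
  have h5 := mul_left_cancel₀ H.card_lower e1
  simp only [if_neg (show ¬ d - 1 = a by omega), zero_pow (show p - 1 ≠ 0 by
    have := hp.out.two_le; omega)] at h5
  exact (pow_eq_zero_iff (show p - 1 ≠ 0 by have := hp.out.two_le; omega)).1 h5.symm

end Tail

end Cfsg.Lib.Fusion.MaxClassNormal
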