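import Cfsg.Agent.Fusion.MaxClassNormal.Shift

/-!
Functions of several variables over the prime field of bounded weighted difference degree, matrices
of such functions, and the vanishing of their sums; sums over sets with free actions.
-/

set_option autoImplicit false
set_option linter.unusedSectionVars false
set_option linter.style.haveILetI false

namespace Cfsg.Lib.Fusion.MaxClassNormal

open Finset

variable {p l : ℕ}

/-- Tuples of variables. -/
abbrev Var (p l : ℕ) := Fin l → ZMod p

/-- The difference in one variable. -/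
def dif (i : Fin l) (f : Var p l → ZMod p) : Var p l → ZMod p :=
  fun ι => f (ι + Pi.single i 1) - f ι

/-- Iterated differences. -/
def difs : List (Fin l) → (Var p l → ZMod p) → Var p l → ZMod p
  | [], f => f
  | i :: L, f => difs L (dif i f)

theorem difs_add : ∀ (L : List (Fin l)) (f g : Var p l → ZMod p),
    difs L (f + g) = difs L f + difs L g
  | [], _, _ => rfl
  | i :: L, f, g => by
    show difs L (dif i (f + g)) = difs L (dif i f) + difs L (dif i g)
    rw [← difs_add L]
    congr 1
    funext ι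
    simp only [dif, Pi.add_apply]
    ring

theorem difs_smul : ∀ (L : List (Fin l)) (c : ZMod p) (f : Var p l → ZMod p),
    difs L (c • f) = c • difs L f
  | [], _, _ => rfl
  | i :: L, c, f => by
    show difs L (dif i (c • f)) = c • difs L (dif i f)
    rw [← difs_smul L]
    congr 1
    funext ι
    simp only [dif, Pi.smul_apply, smul_eq_mul]
    ring

theorem difs_zero : ∀ L : List (Fin l), difs L (0 : Var p l → ZMod p) = 0
  | [] => rfl
  | i :: L => by
    show difs L (dif i 0) = 0
    rw [show dif i (0 : Var p l → ZMod p) = 0 by funext ι; simp [dif]]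
    exact difs_zero L

/-- Weighted difference degree at most `m`. -/
def Pol (w : Fin l → ℕ) (m : ℤ) (f : Var p l → ZMod p) : Prop :=
  ∀ L : List (Fin l), m < ((L.map w).sum : ℕ) → difs L f = 0

namespace Pol

variable {w : Fin l → ℕ} {m m' : ℤ} {f g : Var p l → ZMod p}

theorem mono (h : Pol w m f) (hm : m ≤ m') : Pol w m' f := fun L hL => h L (lt_of_le_of_lt hm hL)

theorem eq_zero (h : Pol w m f) (hm : m < 0) : f = 0 := h [] (by simpa using hm)

theorem zero (m : ℤ) : Pol w m (0 : Var p l → ZMod p) := fun L _ => difs_zero L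

theorem add (h : Pol w m f) (h' : Pol w m g) : Pol w m (f + g) := fun L hL => by
  rw [difs_add, h L hL, h' L hL, add_zero]

theorem smul (h : Pol w m f) (c : ZMod p) : Pol w m (c • f) := fun L hL => by
  rw [difs_smul, h L hL, smul_zero]

theorem sum {ι : Type*} {s : Finset ι} {F : ι → Var p l → ZMod p} (h : ∀ x ∈ s, Pol w m (F x)) :
    Pol w m (∑ x ∈ s, F x) :=
  Finset.sum_induction F (Pol w m) (fun _ _ => Pol.add) (zero m) h

theorem dif (h : Pol w m f) (i : Fin l) : Pol w (m - w i) (MaxClassNormal.dif i f) := fun L hL =>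
  h (i :: L) (by simp only [List.map_cons, List.sum_cons, Nat.cast_add]; omega)

theorem of_dif (h0 : m < 0 → f = 0) (h : ∀ i, Pol w (m - w i) (MaxClassNormal.dif i f)) :
    Pol w m f
  | [], hL => h0 (by simpa using hL)
  | i :: L, hL => h i L (by
      simp only [List.map_cons, List.sum_cons, Nat.cast_add] at hL
      omega)

theorem const (c : ZMod p) (hm : 0 ≤ m) : Pol w m (fun _ => c) :=
  of_dif (fun h => absurd h (not_lt.2 hm)) fun i => by
    rw [show MaxClassNormal.dif i (fun _ : Var p l => c) = 0 by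
      funext ι; simp [MaxClassNormal.dif]]
    exact zero _

theorem mul_aux : ∀ (L : List (Fin l)) (a b : ℤ) (f g : Var p l → ZMod p),
    Pol w a f → Pol w b g → a + b < ((L.map w).sum : ℕ) → difs L (f * g) = 0
  | [], a, b, f, g, hf, hg, h => by
    rcases lt_or_ge a 0 with ha | ha
    · show f * g = 0
      rw [hf.eq_zero ha, zero_mul]
    · show f * g = 0
      rw [hg.eq_zero (by simp at h; omega), mul_zero]
  | i :: L, a, b, f, g, hf, hg, h => by
    simp only [List.map_cons, List.sum_cons, Nat.cast_add] at h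
    show difs L (MaxClassNormal.dif i (f * g)) = 0
    rw [show MaxClassNormal.dif i (f * g) = MaxClassNormal.dif i f * g +
        (f * MaxClassNormal.dif i g + MaxClassNormal.dif i f * MaxClassNormal.dif i g) by
      funext ι; simp only [MaxClassNormal.dif, Pi.mul_apply, Pi.add_apply]; ring]
    rw [difs_add, difs_add, mul_aux L _ _ _ _ (hf.dif i) hg (by omega),
      mul_aux L _ _ _ _ hf (hg.dif i) (by omega),
      mul_aux L _ _ _ _ (hf.dif i) (hg.dif i) (by omega)]
    simp

theorem mul {a b : ℤ} (hf : Pol w a f) (hg : Pol w b g) : Pol w (a + b) (f * g) := fun L hL =>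
  mul_aux L a b f g hf hg hL

theorem prod {ι : Type*} {s : Finset ι} {F : ι → Var p l → ZMod p} {a : ι → ℤ}
    (h : ∀ x ∈ s, Pol w (a x) (F x)) : Pol w (∑ x ∈ s, a x) (∏ x ∈ s, F x) := by
  classical
  induction s using Finset.induction_on with
  | empty => exact const 1 (le_of_eq (Finset.sum_empty).symm)
  | insert x t hx ih =>
    rw [Finset.sum_insert hx, Finset.prod_insert hx]
    exact (h x (Finset.mem_insert_self x t)).mul (ih fun y hy => h y (Finset.mem_insert_of_mem hy))

theorem pow (hf : Pol w m f) : ∀ k : ℕ, Pol w (k * m) (f ^ k)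
  | 0 => by rw [pow_zero]; exact const 1 (by simp)
  | k + 1 => by
    rw [pow_succ, show ((k + 1 : ℕ) : ℤ) * m = (k : ℤ) * m + m by push_cast; ring]
    exact (pow hf k).mul hf

end Pol

/-! ### Sums over a variable -/

theorem cast_choose_pred [hp : Fact p.Prime] : ∀ k, k < p →
    ((p - 1).choose k : ZMod p) = (-1) ^ k
  | 0, _ => by simp
  | k + 1, h => by
    have h1 := cast_choose_pred k (by omega)
    have e : p.choose (k + 1) = (p - 1).choose k + (p - 1).choose (k + 1) := by
      conv_lhs => rw [show p = p - 1 + 1 by omega]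
      exact Nat.choose_succ_succ _ _
    have h0 : ((p.choose (k + 1) : ℕ) : ZMod p) = 0 := by
      rw [ZMod.natCast_eq_zero_iff]
      exact hp.out.dvd_choose_self (Nat.succ_ne_zero k) h
    rw [e, Nat.cast_add, h1] at h0
    rw [pow_succ, mul_neg, mul_one]
    exact (neg_eq_of_add_eq_zero_right h0).symm

/-- The sum over the translates in one variable. -/
def sumVar [NeZero p] (c : Fin l) (f : Var p l → ZMod p) : Var p l → ZMod p :=
  fun ι => ∑ k : ZMod p, f (ι + Pi.single c k)

theorem difs_replicate (c : Fin l) : ∀ (n : ℕ) (f : Var p l → ZMod p),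
    difs (List.replicate n c) f = (fwdDiff (Pi.single c (1 : ZMod p)))^[n] f
  | 0, _ => rfl
  | n + 1, f => by
    rw [List.replicate_succ, Function.iterate_succ_apply]
    exact difs_replicate c n _

theorem difs_append : ∀ (A B : List (Fin l)) (f : Var p l → ZMod p),
    difs (A ++ B) f = difs B (difs A f)
  | [], _, _ => rfl
  | i :: A, B, f => difs_append A B (dif i f)

theorem sumVar_eq [hp : Fact p.Prime] (c : Fin l) (f : Var p l → ZMod p) :
    sumVar c f = difs (List.replicate (p - 1) c) f := by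
  funext ι
  rw [difs_replicate, fwdDiff_iter_eq_sum_shift, show p - 1 + 1 = p by have := hp.out.pos; omega]
  show ∑ k : ZMod p, f (ι + Pi.single c k) = _
  refine (Finset.sum_bij (fun k _ => ((k : ℕ) : ZMod p)) (fun k _ => mem_univ _) ?_ ?_ ?_).symm
  · intro a ha b hb h
    have h2 := congrArg ZMod.val h
    rwa [ZMod.val_natCast, ZMod.val_natCast, Nat.mod_eq_of_lt (mem_range.1 ha),
      Nat.mod_eq_of_lt (mem_range.1 hb)] at h2
  · exact fun b _ => ⟨b.val, mem_range.2 b.val_lt, ZMod.natCast_zmod_val b⟩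
  · intro k hk
    have hk' : k < p := mem_range.1 hk
    rw [show k • (Pi.single c (1 : ZMod p) : Var p l) = Pi.single c (k : ZMod p) by
      rw [← Pi.single_smul, nsmul_eq_mul, mul_one]]
    rw [zsmul_eq_mul]
    push_cast
    rw [cast_choose_pred k hk', ← pow_add, show p - 1 - k + k = p - 1 by omega]
    rcases hp.out.eq_two_or_odd' with h2 | h2
    · subst h2
      norm_num
    · obtain ⟨t, ht⟩ := h2
      rw [Even.neg_one_pow ⟨t, by omega⟩, one_mul]

theorem Pol.sumVar [hp : Fact p.Prime] {w : Fin l → ℕ} {m : ℤ} {f : Var p l → ZMod p}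
    (h : Pol w m f) (c : Fin l) :
    Pol w (m - ((p - 1) * w c : ℕ)) (MaxClassNormal.sumVar c f) := by
  rw [sumVar_eq]
  intro L hL
  rw [← difs_append]
  refine h _ ?_
  rw [List.map_append, List.sum_append, List.map_replicate, List.sum_replicate, smul_eq_mul]
  push_cast at hL ⊢
  omega

theorem sum_one_var [hp : Fact p.Prime] {w : Fin 1 → ℕ} {m : ℤ} {f : Var p 1 → ZMod p}
    (h : Pol w m f) (hm : m < ((p - 1) * w 0 : ℕ)) : ∑ i : ZMod p, f ![i] = 0 := by
  have h0 := congrFun ((h.sumVar 0).eq_zero (by omega)) 0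
  simp only [MaxClassNormal.sumVar, zero_add, Pi.zero_apply] at h0
  rw [← h0]
  refine Finset.sum_congr rfl fun i _ => congrArg f ?_
  funext j
  fin_cases j
  simp

theorem sum_two_var [hp : Fact p.Prime] {w : Fin 2 → ℕ} {m : ℤ} {f : Var p 2 → ZMod p}
    (h : Pol w m f) (hm : m < ((p - 1) * (w 0 + w 1) : ℕ)) :
    ∑ i : ZMod p, ∑ j : ZMod p, f ![i, j] = 0 := by
  have h0 := congrFun (((h.sumVar 1).sumVar 0).eq_zero (by rw [Nat.mul_add] at hm; omega)) 0
  simp only [MaxClassNormal.sumVar, zero_add, Pi.zero_apply] at h0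
  rw [← h0]
  refine Finset.sum_congr rfl fun i _ => Finset.sum_congr rfl fun j _ => congrArg f ?_
  funext k
  fin_cases k <;> simp

theorem sum_three_var [hp : Fact p.Prime] {w : Fin 3 → ℕ} {m : ℤ} {f : Var p 3 → ZMod p}
    (h : Pol w m f) (hm : m < ((p - 1) * (w 0 + w 1 + w 2) : ℕ)) :
    ∑ i : ZMod p, ∑ s : ZMod p, ∑ j : ZMod p, f ![i, s, j] = 0 := by
  have h0 := congrFun ((((h.sumVar 2).sumVar 1).sumVar 0).eq_zero
    (by rw [Nat.mul_add, Nat.mul_add] at hm; omega)) 0
  simp only [MaxClassNormal.sumVar, zero_add, Pi.zero_apply] at h0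
  rw [← h0]
  refine Finset.sum_congr rfl fun i _ => Finset.sum_congr rfl fun s _ =>
    Finset.sum_congr rfl fun j _ => congrArg f ?_
  funext k
  fin_cases k <;> simp

/-! ### Matrices of functions -/

variable {I : Type*}

/-- Entries of difference degree at most the grade difference less `β`. -/
def Cls (w : Fin l → ℕ) (gr : I → ℤ) (β : ℤ) (F : Var p l → Matrix I I (ZMod p)) : Prop :=
  ∀ u v, Pol w (gr u - gr v - β) fun ι => F ι u v

theorem Cls.mul [Fintype I] {w : Fin l → ℕ} {gr : I → ℤ} {a b : ℤ}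
    {F G : Var p l → Matrix I I (ZMod p)} (hF : Cls w gr a F) (hG : Cls w gr b G) :
    Cls w gr (a + b) fun ι => F ι * G ι := fun u v => by
  rw [show (fun ι => (F ι * G ι) u v) = ∑ c, (fun ι => F ι u c) * (fun ι => G ι c v) by
    funext ι; simp [Matrix.mul_apply, Finset.sum_apply]]
  exact Pol.sum fun c _ => ((hF u c).mul (hG c v)).mono (le_of_eq (by ring))

theorem Cls.const {w : Fin l → ℕ} {gr : I → ℤ} {β : ℤ} {A : Matrix I I (ZMod p)}
    (h : ∀ u v, gr u - gr v < β → A u v = 0) :
    Cls w gr β (fun _ : Var p l => A) := fun u v => by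
  rcases lt_or_ge (gr u - gr v) β with hlt | hge
  · rw [show (fun _ : Var p l => A u v) = 0 by funext ι; exact h u v hlt]
    exact Pol.zero _
  · exact Pol.const _ (by omega)

variable {d : ℕ}

/-- The grade of a coordinate. -/
def gr1 (a : Fin d) : ℤ := ((a : ℕ) : ℤ)

/-- Powers of a matrix of degree `w` over the identity. -/
theorem cls_pow [hp : Fact p.Prime] {w : Fin l → ℕ} {c : Fin l} {u : Mx p d} (hw : 1 ≤ w c)
    (hu : Deg (w c) (u - 1)) (hup : u ^ p = 1) :
    Cls w gr1 0 fun ι : Var p l => u ^ (ι c).val := by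
  have hper : ∀ k : ℕ, u ^ (k % p) = u ^ k := fun k => by
    conv_rhs => rw [← Nat.mod_add_div k p, pow_add, pow_mul, hup, one_pow, mul_one]
  suffices key : ∀ (n : ℕ) (a b : Fin d), (a : ℤ) - b < n →
      Pol w ((a : ℤ) - b) fun ι : Var p l => (u ^ (ι c).val) a b by
    intro a b
    exact (key (a + 1) a b (by omega)).mono (by simp [gr1])
  have hzero : ∀ (a b : Fin d) (k : ℕ), (a : ℤ) - b < 0 → (u ^ k) a b = 0 := fun a b k hab => by
    have h := deg_pow_sub_one hu k a b (by omega)
    rwa [ent_sub, ent_one, if_neg (by omega), sub_zero, ent_fin] at h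
  intro n
  induction n with
  | zero =>
    intro a b hab
    rw [show (fun ι : Var p l => (u ^ (ι c).val) a b) = 0 by
      funext ι; exact hzero a b _ (by simpa using hab)]
    exact Pol.zero _
  | succ n ih =>
    intro a b hab
    refine Pol.of_dif (fun h => funext fun ι => hzero a b _ h) fun i => ?_
    by_cases hi : i = c
    swap
    · rw [show MaxClassNormal.dif i (fun ι : Var p l => (u ^ (ι c).val) a b) = 0 by
        funext ι; simp [MaxClassNormal.dif, Ne.symm hi]]
      exact Pol.zero _
    subst hi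
    rw [show MaxClassNormal.dif i (fun ι : Var p l => (u ^ (ι i).val) a b) =
        ∑ q : Fin d, (u - 1) a q • fun ι : Var p l => (u ^ (ι i).val) q b by
      funext ι
      simp only [MaxClassNormal.dif, Pi.add_apply, Pi.single_eq_same, Finset.sum_apply,
        Pi.smul_apply, smul_eq_mul]
      rw [← Matrix.mul_apply, sub_mul, one_mul, ← pow_succ', Matrix.sub_apply, ZMod.val_add,
        hper, ZMod.val_one]]
    refine Pol.sum fun q _ => ?_
    by_cases hq : (a : ℕ) < (q : ℕ) + w i
    · have h0 := hu a q hq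
      rw [ent_fin] at h0
      rw [h0, zero_smul]
      exact Pol.zero _
    · exact (((ih q b (by omega)).mono (by omega))).smul _

/-- Applying such matrices to a vector with vanishing first coordinates. -/
theorem pol_mulVec {w : Fin l → ℕ} {F : Var p l → Mx p d} (hF : Cls w gr1 0 F) {t : ℕ}
    {v : Fin d → ZMod p} (hv : ∀ b : Fin d, (b : ℕ) < t → v b = 0) (a : Fin d) :
    Pol w ((a : ℤ) - t) fun ι => (F ι).mulVec v a := by
  rw [show (fun ι => (F ι).mulVec v a) = ∑ b, v b • fun ι => F ι a b by
    funext ι; simp [Matrix.mulVec, dotProduct, Finset.sum_apply, mul_comm]]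
  refine Pol.sum fun b _ => ?_
  rcases Nat.lt_or_ge (b : ℕ) t with hb | hb
  · rw [hv b hb, zero_smul]
    exact Pol.zero _
  · exact ((hF a b).mono (by simp [gr1]; omega)).smul _

/-! ### Products of slots -/

variable {r : ℕ}

/-- Tuples of coordinates. -/
abbrev Idx (d r : ℕ) := Fin r → Fin d

/-- The grade of a tuple. -/
def grk (u : Idx d r) : ℤ := ∑ m, gr1 (u m)

/-- The Kronecker product over the slots. -/
def kron (A : Fin r → Mx p d) : Matrix (Idx d r) (Idx d r) (ZMod p) :=
  Matrix.of fun u v => ∏ m, A m (u m) (v m)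

theorem kron_mul (A B : Fin r → Mx p d) : kron A * kron B = kron fun m => A m * B m := by
  refine Matrix.ext fun u v => ?_
  simp only [kron, Matrix.mul_apply, Matrix.of_apply, ← Finset.prod_mul_distrib]
  exact (Fintype.prod_sum (fun m c => A m (u m) c * B m c (v m))).symm

theorem kron_one : kron (fun _ : Fin r => (1 : Mx p d)) = 1 := by
  refine Matrix.ext fun u v => ?_
  simp only [kron, Matrix.of_apply, Matrix.one_apply]
  by_cases h : u = v
  · rw [if_pos h]
    exact Finset.prod_eq_one fun m _ => if_pos (congrFun h m)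
  · rw [if_neg h]
    obtain ⟨m, hm⟩ := Function.ne_iff.1 h
    exact Finset.prod_eq_zero (mem_univ m) (if_neg hm)

theorem Cls.kron {w : Fin l → ℕ} {β : ℤ} {F : Fin r → Var p l → Mx p d}
    (h : ∀ m, Cls w gr1 β (F m)) :
    Cls w grk ((r : ℤ) * β) fun ι => MaxClassNormal.kron fun m => F m ι := fun u v => by
  rw [show (fun ι => MaxClassNormal.kron (fun m => F m ι) u v) =
      ∏ m, fun ι => F m ι (u m) (v m) by
    funext ι; simp [MaxClassNormal.kron, Finset.prod_apply]]
  refine (Pol.prod fun m _ => h m (u m) (v m)).mono (le_of_eq ?_)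
  simp [grk, Finset.sum_sub_distrib]

/-! ### Sums over free orbits -/

theorem sum_eq_zero_of_free {Γ Ω K R : Type*} [Group Γ] [MulAction Γ Ω] [Fintype K]
    [AddCommMonoid R] (H : Subgroup Γ) (a : K → Γ) (ha : ∀ g, g ∈ H ↔ ∃ k, a k = g)
    (hinj : Function.Injective a) (s : Finset Ω) (f : Ω → R)
    (hmap : ∀ q ∈ s, ∀ g ∈ H, g • q ∈ s) (hfree : ∀ q ∈ s, ∀ g ∈ H, g • q = q → g = 1)
    (hzero : ∀ q ∈ s, ∑ k, f (a k • q) = 0) : ∑ q ∈ s, f q = 0 := by
  classical
  induction s using Finset.strongInduction with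
  | _ s ih =>
    rcases s.eq_empty_or_nonempty with rfl | ⟨q, hq⟩
    · exact Finset.sum_empty
    have hin : ∀ k, a k ∈ H := fun k => (ha _).2 ⟨k, rfl⟩
    have hki : Function.Injective fun k => a k • q := fun k k' e => hinj (by
      have h1 := hfree q hq _ (H.mul_mem (H.inv_mem (hin k')) (hin k))
        (by rw [mul_smul]; exact inv_smul_eq_iff.2 e)
      exact (inv_mul_eq_one.1 h1).symm)
    set o := Finset.univ.image fun k => a k • q
    have hos : o ⊆ s := fun x hx => by
      obtain ⟨k, -, rfl⟩ := Finset.mem_image.1 hx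
      exact hmap q hq _ (hin k)
    rw [← Finset.sum_sdiff hos, Finset.sum_image fun x _ y _ e => hki e, hzero q hq, add_zero]
    obtain ⟨k₀, hk₀⟩ := (ha 1).1 H.one_mem
    have hqo : q ∈ o := Finset.mem_image.2 ⟨k₀, mem_univ _, by rw [hk₀, one_smul]⟩
    refine ih (s \ o) (Finset.sdiff_ssubset hos ⟨q, hqo⟩) (fun x hx g hg => ?_)
      (fun x hx => hfree x (Finset.mem_sdiff.1 hx).1)
      (fun x hx => hzero x (Finset.mem_sdiff.1 hx).1)
    obtain ⟨hxs, hxo⟩ := Finset.mem_sdiff.1 hx
    refine Finset.mem_sdiff.2 ⟨hmap x hxs g hg, fun h => hxo ?_⟩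
    obtain ⟨k, -, hk⟩ := Finset.mem_image.1 h
    obtain ⟨k', hk'⟩ := (ha _).1 (H.mul_mem (H.inv_mem hg) (hin k))
    exact Finset.mem_image.2 ⟨k', mem_univ _, by rw [hk', mul_smul, hk, inv_smul_smul]⟩

end Cfsg.Lib.Fusion.MaxClassNormal
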