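import Cfsg.Agent.Fusion.MaxClassNormal.Site
import Cfsg.Agent.Fusion.OrderPFive.Site
import Cfsg.Agent.Fusion.MaxClassSmallShape
import Cfsg.Agent.Fusion.MaxClassSmallSetting
import Cfsg.Agent.Fusion.MaxClassBasic

/-!
An essential subgroup of index `p` in a group of maximal class is one of the two exceptional two-step
centralizers, or extraspecial of order `p ^ 3`.
-/

set_option autoImplicit false
set_option linter.unusedSectionVars false
set_option linter.style.haveILetI false
set_option maxHeartbeats 1000000

namespace Cfsg.Lib.Fusion.MaxClassNormal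

open Cfsg Cfsg.FusionSystem Cfsg.Lib.Fusion
open Cfsg.Lib.PGroups MaxClassRank MaxClassThree MaxClassAgemo MaxClassDegree MaxClassOutside
open scoped commutatorElement

universe u

variable {p n : ℕ} [hp : Fact p.Prime]

section Group

variable {X : Type u} [Group X] [Finite X] [Group.IsNilpotent X] (B : Base p n X)
include B

theorem L_one_le {P : Subgroup X} [P.Normal] (hP : P.index = p) : L X 1 ≤ P := by
  haveI : IsCyclic (X ⧸ P) := isCyclic_of_prime_card (p := p) (by rw [← P.index_eq_card, hP])
  rw [show L X 1 = ⁅L X 0, ⊤⁆ from Subgroup.lowerCentralSeries_succ _ 0, Subgroup.commutator_le]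
  intro g _ h _
  rw [← QuotientGroup.eq_one_iff]
  show QuotientGroup.mk' P ⁅g, h⁆ = 1
  rw [map_commutatorElement, commutatorElement_eq_one_iff_mul_comm]
  exact IsCyclic.commGroup.mul_comm _ _

/-- Two different subgroups of index `p` meet in the derived subgroup. -/
theorem inf_eq_L_one {P Q : Subgroup X} (hP : P.index = p) (hQ : Q.index = p) (hne : P ≠ Q)
    (hP1 : L X 1 ≤ P) (hQ1 : L X 1 ≤ Q) : P ⊓ Q = L X 1 := by
  have hle : L X 1 ≤ P ⊓ Q := le_inf hP1 hQ1
  have hL : (L X 1).relIndex P = p := by
    have h := Subgroup.relIndex_mul_index hP1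
    rw [hP, B.L_index le_rfl (by have := B.three; omega), pow_succ, pow_one] at h
    exact Nat.eq_of_mul_eq_mul_right hp.out.pos h
  have h := Subgroup.relIndex_mul_relIndex (L X 1) (P ⊓ Q) P hle inf_le_left
  rw [hL] at h
  rcases (Nat.dvd_prime hp.out).1 (Dvd.intro _ h) with h1 | h1
  · exact le_antisymm (Subgroup.relIndex_eq_one.1 h1) hle
  · exfalso
    rw [h1] at h
    have hPQ : P ≤ Q :=
      (Subgroup.relIndex_eq_one.1 ((mul_eq_left₀ hp.out.ne_zero).1 h)).trans inf_le_right
    refine hne (le_antisymm hPQ (Subgroup.relIndex_eq_one.1 ?_))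
    have h2 := Subgroup.relIndex_mul_index hPQ
    rw [hP, hQ] at h2
    exact (mul_eq_right₀ hp.out.ne_zero).1 h2

/-- A normal subgroup below a term and outside the next is that term. -/
theorem eq_L_of_normal {N : Subgroup X} [N.Normal] {i : ℕ} (h1 : 1 ≤ i) (hi : i ≤ n - 1)
    (hle : N ≤ L X i) (hnot : ¬ N ≤ L X (i + 1)) : N = L X i := by
  obtain ⟨r, hr⟩ := B.isP.index N
  have hir : i + 1 ≤ r := by
    have h := Subgroup.index_dvd_of_le hle
    rw [B.L_index h1 hi, hr] at h
    exact (Nat.pow_dvd_pow_iff_le_right hp.out.one_lt).1 h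
  have e := Cfsg.Lib.MaxClass.normal_eq_lcs n X B.card (by have := B.three; omega) B.cls N r (by omega) hr
  rcases Nat.lt_or_ge i (r - 1) with h | h
  · exact absurd (e.le.trans (L_le h)) hnot
  · exact le_antisymm hle ((L_le h).trans e.ge)

theorem upper_two_eq (hn : 4 ≤ n) : Subgroup.upperCentralSeries X 2 = L X (n - 3) := by
  have h := (Subgroup.upperCentralSeries X 2).card_mul_index
  rw [MaxClassBasic.card_two B.card hn B.cls, B.card, show n = 2 + (n - 2) by omega, pow_add] at h
  have e := Cfsg.Lib.MaxClass.normal_eq_lcs n X B.card (by omega) B.cls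
    (Subgroup.upperCentralSeries X 2) (n - 2) (by omega)
    (Nat.eq_of_mul_eq_mul_left (pow_pos hp.out.pos _) h)
  rwa [show n - 2 - 1 = n - 3 by omega] at e

variable {P : Subgroup X} [hPn : P.Normal] (hP : P.index = p) (hM : P ≠ stepCent X 1)
  (hC : P ≠ stepCent X (n - 3))
include hP hM hC

theorem inf_stepCent {j : ℕ} (h1 : 1 ≤ j) (h2 : j + 3 ≤ n) : P ⊓ stepCent X j = L X 1 := by
  refine inf_eq_L_one B hP (index_stepCent B h1 (by omega)) ?_ (L_one_le B hP)
    (derived_le_stepCent j)
  rcases Nat.lt_or_ge (j + 3) n with h | h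
  · rw [stepCent_eq n X B j h1 (by omega)]
    exact hM
  · rw [show j = n - 3 by omega]
    exact hC

/-- The commutator of the derived subgroup of `P` is the term two. -/
theorem comm_self (hn : 4 ≤ n) : ⁅P, P⁆ = L X 2 := by
  have hle : ⁅P, P⁆ ≤ L X 2 := by
    set π := QuotientGroup.mk' (L X 2)
    have h2P : L X 2 ≤ P := (L_le (by omega)).trans (L_one_le B hP)
    have hcard : Nat.card (P.map π) = p ^ 2 := by
      rw [← Subgroup.relIndex_ker, QuotientGroup.ker_mk']
      have h := Subgroup.relIndex_mul_index h2P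
      rw [hP, B.L_index (show 1 ≤ 2 by omega) (by omega), pow_succ p 2] at h
      exact Nat.eq_of_mul_eq_mul_right hp.out.pos h
    haveI := IsPGroup.isMulCommutative_of_card_eq_prime_sq (p := p) hcard
    rw [Subgroup.commutator_le]
    intro a ha b hb
    rw [← QuotientGroup.eq_one_iff]
    show π ⁅a, b⁆ = 1
    rw [map_commutatorElement, commutatorElement_eq_one_iff_mul_comm]
    exact congrArg Subtype.val (mul_comm' (⟨π a, Subgroup.mem_map_of_mem π ha⟩ : P.map π)
      ⟨π b, Subgroup.mem_map_of_mem π hb⟩)
  refine eq_L_of_normal B (by omega) (by omega) hle fun h => ?_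
  have hg : ∀ g ∈ P, g ∈ stepCent X 1 := fun g hg => mem_stepCent.2 fun a ha =>
    h (Subgroup.commutator_mem_commutator (L_one_le B hP ha) hg)
  have := inf_stepCent B hP hM hC le_rfl (show 1 + 3 ≤ n by omega)
  rw [inf_eq_left.2 hg] at this
  have h1 := B.L_index le_rfl (show 1 ≤ n - 1 by omega)
  rw [← this, hP] at h1
  exact absurd (Nat.pow_right_injective hp.out.two_le ((pow_one p).trans h1)) (by norm_num)

/-- Commutation with `P` moves down one step. -/
theorem comm_step_P {j : ℕ} (h1 : 1 ≤ j) (h2 : j + 2 ≤ n) : ⁅L X j, P⁆ = L X (j + 1) := by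
  have hle : ⁅L X j, P⁆ ≤ L X (j + 1) := by
    rw [show L X (j + 1) = ⁅L X j, ⊤⁆ from Subgroup.lowerCentralSeries_succ _ j]
    exact Subgroup.commutator_mono le_rfl le_top
  rcases Nat.eq_or_lt_of_le h2 with h | h
  · rw [B.L_eq_bot (i := j + 1) (by omega)] at hle ⊢
    exact le_bot_iff.1 hle
  refine eq_L_of_normal B (by omega) (by omega) hle fun hbad => ?_
  have hg : ∀ g ∈ P, g ∈ stepCent X j := fun g hg => mem_stepCent.2 fun a ha =>
    hbad (Subgroup.commutator_mem_commutator ha hg)
  have := inf_stepCent B hP hM hC h1 (show j + 3 ≤ n by omega)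
  rw [inf_eq_left.2 hg] at this
  have h1' := B.L_index le_rfl (show 1 ≤ n - 1 by omega)
  rw [← this, hP] at h1'
  exact absurd (Nat.pow_right_injective hp.out.two_le ((pow_one p).trans h1')) (by norm_num)

end Group

variable {Ω : Type u} [Group Ω] {S : Subgroup Ω} [Finite S] [Group.IsNilpotent S] {F : FusionSystem S}
  {E : Subgroup Ω}

/-- An essential subgroup of index `p` different from the two centralizers. -/
theorem shape_index_p (hS : IsPGroup p S) (hF : F.IsSaturated p) (hp2 : p ≠ 2) (B : Base p n S)
    (hn : 4 ≤ n) (hE : F.IsEssential p E) [hEn : (E.subgroupOf S).Normal]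
    (hidx : (E.subgroupOf S).index = p) (hM : E.subgroupOf S ≠ stepCent S 1)
    (hC : E.subgroupOf S ≠ stepCent S (n - 3)) :
    n = 4 ∧ Nat.card E = p ^ 3 ∧ IsExtraspecial p E ∧ Monoid.exponent E = p := by
  classical
  have hES : E ≤ S := hE.1.1
  haveI := finite_of_le hES
  set ι := Subgroup.inclusion hES with hι
  have hιinj : Function.Injective ι := Subgroup.inclusion_injective hES
  have hrange : ι.range = E.subgroupOf S := Subgroup.inclusion_range hES
  have hcardE : Nat.card E = p ^ (n - 1) := by
    have h := (E.subgroupOf S).card_mul_index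
    rw [hidx, B.card, MaxClassSmall.card_subgroupOf hES, show n = n - 1 + 1 by omega, pow_succ] at h
    exact Nat.eq_of_mul_eq_mul_right hp.out.pos h
  have hP1 := L_one_le B hidx
  rcases Nat.eq_or_lt_of_le hn with rfl | h5
  · -- order `p ^ 4`
    refine ⟨rfl, hcardE, ?_⟩
    by_contra h
    obtain ⟨-, hab, -⟩ := MaxClassSmallShape.shape hS hp2 hE (fun h' => by
      rcases h' with ⟨h', -⟩ | ⟨-, h'⟩
      · rw [hcardE] at h'
        exact absurd (Nat.pow_right_injective hp.out.two_le h') (by norm_num)
      · exact h h') (by rw [hcardE]; exact Nat.pow_lt_pow_right hp.out.one_lt (by omega))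
    have hg : ∀ g ∈ E.subgroupOf S, g ∈ stepCent S 1 := fun g hg => mem_stepCent.2 fun a ha => by
      rw [commutatorElement_eq_one_iff_mul_comm.2 (Subtype.ext (hab (a : Ω) (hP1 ha) g hg))]
      exact one_mem _
    have := inf_stepCent B hidx hM hC le_rfl (show 1 + 3 ≤ 4 by omega)
    rw [inf_eq_left.2 hg] at this
    have h1 := B.L_index le_rfl (show 1 ≤ 4 - 1 by omega)
    rw [← this, hidx] at h1
    exact absurd (Nat.pow_right_injective hp.out.two_le ((pow_one p).trans h1)) (by norm_num)
  -- larger order: a characteristic flag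
  exfalso
  set C : ℕ → Subgroup E := fun i => (L S (n - 1 - i)).comap ι with hCdef
  have hLle : ∀ j, 1 ≤ j → L S j ≤ ι.range := fun j hj => hrange ▸ (L_le hj).trans hP1
  have hmap : ∀ j, 1 ≤ j → ((L S j).comap ι).map ι = L S j := fun j hj =>
    Subgroup.map_comap_eq_self (hLle j hj)
  have hcard : ∀ i, i ≤ n - 1 → Nat.card (C i) = p ^ i := by
    intro i hi
    rcases Nat.lt_or_ge i (n - 1) with h | h
    · rw [Nat.card_congr (Subgroup.equivMapOfInjective (C i) ι hιinj).toEquiv, hCdef,
        hmap _ (by omega), B.L_card (by omega) (by omega), show n - 1 - (n - 1 - i) = i by omega]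
    · rw [hCdef, show i = n - 1 by omega]
      simp only [Nat.sub_self]
      rw [show L S 0 = ⊤ from Subgroup.lowerCentralSeries_zero _, Subgroup.comap_top, Subgroup.card_top,
        hcardE]
  have hchain : OrderPFive.IsChain C (n - 1) :=
    { bot := by
        show (L S (n - 1 - 0)).comap ι = ⊥
        rw [B.L_eq_bot (by omega), MonoidHom.comap_bot, (MonoidHom.ker_eq_bot_iff ι).2 hιinj]
      top := by
        show (L S (n - 1 - (n - 1))).comap ι = ⊤
        rw [Nat.sub_self, show L S 0 = ⊤ from Subgroup.lowerCentralSeries_zero _, Subgroup.comap_top]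
      mono := fun i _ => Subgroup.comap_mono (L_le (by omega)) }
  have hflag : OrderPFive.IsFlag p C (n - 1) := fun i hi =>
    ⟨fun j _ h hh => (inferInstance : ((L S (n - 1 - i)).comap ι).Normal).conj_mem h hh j,
      by rw [hcard (i + 1) (by omega), hcard i (by omega), pow_succ']⟩
  -- every automorphism keeps the terms
  have hK : ∀ (α : MulAut E) j, j ≤ n - 1 → ∀ e : E, ι e ∈ L S j → ι (α e) ∈ L S j := by
    intro α
    have hge : ∀ j, 2 ≤ j → j ≤ n - 1 → ((L S j).comap ι).map α.toMonoidHom = (L S j).comap ι := by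
      intro j hj
      induction j, hj using Nat.le_induction with
      | base =>
        intro _
        have e2 : (L S 2).comap ι = ⁅(⊤ : Subgroup E), ⊤⁆ := by
          refine Subgroup.map_injective hιinj ?_
          rw [hmap 2 (by omega), Subgroup.map_commutator, ← MonoidHom.range_eq_map, hrange,
            comm_self B hidx hM hC hn]
        rw [e2, Subgroup.map_commutator, Subgroup.map_top_of_surjective α.toMonoidHom α.surjective]
      | succ j hj ih =>
        intro hj'
        have e : (L S (j + 1)).comap ι = ⁅(L S j).comap ι, ⊤⁆ := by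
          refine Subgroup.map_injective hιinj ?_
          rw [hmap _ (by omega), Subgroup.map_commutator, hmap _ (by omega),
            ← MonoidHom.range_eq_map, hrange, comm_step_P B hidx hM hC (by omega) (by omega)]
        rw [e, Subgroup.map_commutator, ih (by omega),
          Subgroup.map_top_of_surjective α.toMonoidHom α.surjective]
    have hge' : ∀ j, 2 ≤ j → j ≤ n - 1 → ∀ e : E, ι e ∈ L S j → ι (α e) ∈ L S j := fun j h1 h2 e he => by
      have : α e ∈ ((L S j).comap ι).map α.toMonoidHom := ⟨e, he, rfl⟩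
      rwa [hge j h1 h2] at this
    intro j hj e he
    rcases (show j = 0 ∨ j = 1 ∨ 2 ≤ j by omega) with rfl | rfl | h
    · rw [show L S 0 = ⊤ from Subgroup.lowerCentralSeries_zero _]; exact Subgroup.mem_top _
    · rw [← inf_stepCent B hidx hM hC (show 1 ≤ 2 by omega) (show 2 + 3 ≤ n by omega)]
      refine ⟨(α e).2, mem_stepCent.2 fun a ha => ?_⟩
      obtain ⟨a, rfl⟩ := hLle 2 (by omega) ha
      obtain ⟨b, rfl⟩ := α.surjective a
      have hb : ι b ∈ L S 2 := by
        have : α b ∈ ((L S 2).comap ι).map α.toMonoidHom := by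
          rw [hge 2 le_rfl (by omega)]; exact ha
        obtain ⟨c, hc, hcb⟩ := this
        rwa [show c = b from α.injective hcb] at hc
      rw [← map_commutatorElement, ← map_commutatorElement]
      refine hge' 4 (by omega) (by omega) _ ?_
      rw [map_commutatorElement]
      exact mem_stepCent.1 (derived_le_stepCent 2 he) _ hb
    · exact hge' j h hj e he
  have hkeep : ∀ α : MulAut E, OrderPFive.Keep C (n - 1) α := fun α i _ e he => hK α _ (by omega) e he
  have hfa := (fullyNormalized_props hS hF hE.2.1).2.1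
  refine OrderPFive.not_normalize_of_essential hS hF hE fun α hα =>
    OrderPFive.normalize_of_keep hS hfa hchain (fun β hβ => ?_) hα (hkeep α)
  exact OrderPFive.triv_of_flag hS hES hchain hflag hβ (hkeep β)

end Cfsg.Lib.Fusion.MaxClassNormal
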