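import Cfsg.Agent.Fusion.MaxClassNormal.Abelian
import Cfsg.Agent.PGroups.MaxClassDegree

/-!
A representation of a `p`-group of maximal class modulo a term of the lower central series as a Sylow
subgroup of lower unitriangular matrices in an irreducible group; the bound on the dimension.
-/

set_option autoImplicit false
set_option linter.unusedSectionVars false
set_option linter.style.haveILetI false
set_option maxHeartbeats 1000000

namespace Cfsg.Lib.Fusion.MaxClassNormal

open Finset
open Cfsg.Lib.PGroups MaxClassRank MaxClassThree MaxClassAgemo MaxClassDegree MaxClassOutside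
open scoped commutatorElement

universe u

/-- A power of an element generating a step of prime index. -/
theorem exists_pow_of_step {p : ℕ} [Fact p.Prime] {X : Type u} [Group X] [Finite X] {H K : Subgroup X}
    [H.Normal] (hHK : H ≤ K) (hrel : H.relIndex K = p) {v : X} (hv : v ∈ K) (hv' : v ∉ H) {g : X}
    (hg : g ∈ K) : ∃ c : ℕ, (v ^ c)⁻¹ * g ∈ H := by
  have h1 := Subgroup.relIndex_mul_relIndex H (H ⊔ Subgroup.zpowers v) K le_sup_left
    (sup_le hHK (Subgroup.zpowers_le.2 hv))
  rw [hrel] at h1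
  rcases (Nat.dvd_prime (Fact.out : p.Prime)).1 (Dvd.intro _ h1) with h | h
  · exact absurd (Subgroup.relIndex_eq_one.1 h
      (Subgroup.mem_sup_right (Subgroup.mem_zpowers v))) hv'
  · rw [h] at h1
    have hle := Subgroup.relIndex_eq_one.1 ((mul_eq_left₀ (Fact.out : p.Prime).ne_zero).1 h1)
    obtain ⟨u, hu, w, hw, rfl⟩ := Subgroup.mem_sup_of_normal_left.1 (hle hg)
    obtain ⟨c, hc⟩ := ((isOfFinOrder_of_finite v).mem_powers_iff_mem_zpowers).2 hw
    refine ⟨c, ?_⟩
    simp only at hc
    rw [hc, ← mul_assoc]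
    simpa using (inferInstance : H.Normal).conj_mem u hu w⁻¹

variable {p d n k : ℕ} [hp : Fact p.Prime] {X : Type u} [Group X] [Finite X] [Group.IsNilpotent X]

/-- The matrices of a group of maximal class modulo the term `k`. -/
structure Model (p d n k : ℕ) [Fact p.Prime] {X : Type u} [Group X] (G : Subgroup (GLd p d))
    (ω : X →* GLd p d) (x e₀ : X) : Prop where
  data : MaxClassAgemo.Data p n x
  hk : 2 ≤ k
  hkn : k + 2 ≤ n
  d3 : 3 ≤ d
  e_mem : e₀ ∈ stepCent X 1
  e_not : e₀ ∉ L X 1
  hker : ω.ker = L X k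
  setting : Setting G ω.range (ω x)
  stepM : ∀ g, g ∈ stepCent X 1 → ∀ q, q + 2 < d → ent (ω g).val (q + 1) q = 0
  stepN : ∀ g, g ∉ stepCent X 1 → ∀ q, q + 2 < d → ent (ω g).val (q + 1) q ≠ 0

namespace Model

variable {G : Subgroup (GLd p d)} {ω : X →* GLd p d} {x e₀ : X} (M : Model p d n k G ω x e₀)
include M

theorem base : Base p n X := M.data.toBase

theorem four_le : 4 ≤ n := by have := M.hk; have := M.hkn; omega

theorem x_notM : x ∉ stepCent X 1 := fun h => by
  have := M.four_le
  obtain ⟨a, ha, ha'⟩ := SetLike.exists_of_lt (M.base.L_lt (show 1 < n - 1 by omega))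
  exact M.data.comm_step le_rfl (by omega) ha ha' (mem_stepCent.1 h a ha)

theorem step_le {j : ℕ} (h1 : 1 ≤ j) (h2 : j + 4 ≤ n) : stepCent X 1 ≤ stepCent X j :=
  (stepCent_eq n X M.base j h1 h2).ge

theorem chain_notin {i : ℕ} (hi : i < k) : chain x e₀ i ∉ L X (i + 1) :=
  chain_not_mem M.data M.four_le M.x_notM M.e_mem M.e_not i (by have := M.hkn; omega)

theorem chain_notin_k {i : ℕ} (hi : i < k) : chain x e₀ i ∉ L X k :=
  fun h => M.chain_notin hi (L_le (by omega) h)

theorem ω_ne_one {i : ℕ} (hi : i < k) : ω (chain x e₀ i) ≠ 1 := fun h =>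
  M.chain_notin_k hi (by rw [← M.hker]; exact h)

theorem mem_range (g : X) : ω g ∈ ω.range := ⟨g, rfl⟩

theorem map_eq_one {g : X} (h : g ∈ L X k) : ω g = 1 := by rw [← M.hker] at h; exact h

theorem chain_comm {i j : ℕ} (hij : k ≤ i + j + 2) : ⁅chain x e₀ i, chain x e₀ j⁆ ∈ L X k := by
  have hkn := M.hkn
  by_cases h1 : k ≤ i + j + 1
  · exact L_le h1 (comm_mem_mul (chain_mem x e₀ i) (chain_mem x e₀ j))
  rcases Nat.eq_zero_or_pos i with rfl | hi
  · rcases Nat.eq_zero_or_pos j with rfl | hj
    · rw [commutatorElement_self]; exact one_mem _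
    · rw [← commutatorElement_inv]
      exact inv_mem (L_le (by omega) (mem_stepCent.1 (M.step_le hj (by omega) M.e_mem) _
        (chain_mem x e₀ j)))
  · rcases Nat.eq_zero_or_pos j with rfl | hj
    · exact L_le (by omega) (mem_stepCent.1 (M.step_le hi (by omega) M.e_mem) _ (chain_mem x e₀ i))
    · exact L_le (by omega) (lcs_comm_deep M.base M.x_notM (show k - 2 + 4 ≤ n by omega)
        (fun t h1 h2 => M.step_le h1 (by omega)) i j hi hj (by omega)
        (Subgroup.commutator_mem_commutator (chain_mem x e₀ i) (chain_mem x e₀ j)))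

theorem commute_chain {i j : ℕ} (hij : k ≤ i + j + 2) :
    Commute (ω (chain x e₀ i)) (ω (chain x e₀ j)) := by
  rw [← commutatorElement_eq_one_iff_commute, ← map_commutatorElement]
  exact M.map_eq_one (M.chain_comm hij)

theorem central_chain (g : X) : ω g * ω (chain x e₀ (k - 1)) = ω (chain x e₀ (k - 1)) * ω g := by
  have := M.hk
  refine (Commute.symm ?_).eq
  rw [← commutatorElement_eq_one_iff_commute, ← map_commutatorElement]
  exact M.map_eq_one (L_le (by omega) (comm_mem_succ (chain_mem x e₀ (k - 1)) g))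

theorem exists_exp_top (g : X) : ∃ a : ℕ, (x ^ a)⁻¹ * g ∈ stepCent X 1 := by
  haveI := stepCent_normal (X := X) 1
  have := M.four_le
  refine exists_pow_of_step (p := p) le_top ?_ (Subgroup.mem_top x) M.x_notM (Subgroup.mem_top g)
  rw [Subgroup.relIndex_top_right, index_stepCent M.base le_rfl (by omega)]

theorem exists_exp_zero {g : X} (hg : g ∈ stepCent X 1) : ∃ b : ℕ, (e₀ ^ b)⁻¹ * g ∈ L X 1 := by
  have := M.four_le
  refine exists_pow_of_step (p := p) (derived_le_stepCent 1) ?_ M.e_mem M.e_not hg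
  have h := Subgroup.relIndex_mul_index (derived_le_stepCent (X := X) 1)
  rw [index_stepCent M.base le_rfl (by omega), M.base.L_index le_rfl (by omega), pow_succ, pow_one] at h
  exact Nat.eq_of_mul_eq_mul_right hp.out.pos h

theorem exists_exp {i : ℕ} (h1 : 1 ≤ i) (hi : i < k) {g : X} (hg : g ∈ L X i) :
    ∃ c : ℕ, (chain x e₀ i ^ c)⁻¹ * g ∈ L X (i + 1) := by
  have := M.hkn
  refine exists_pow_of_step (p := p) (L_le (Nat.le_succ i)) ?_ (chain_mem x e₀ i) (M.chain_notin hi) hg
  have h := Subgroup.relIndex_mul_index (L_le (X := X) (Nat.le_succ i))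
  rw [M.base.L_index h1 (by omega), M.base.L_index (show 1 ≤ i + 1 by omega) (by omega),
    pow_succ p (i + 1), mul_comm (p ^ (i + 1))] at h
  exact Nat.eq_of_mul_eq_mul_right (pow_pos hp.out.pos _) h

theorem exists_central : ∃ e, Central G ω.range (ω x) (ω (chain x e₀ (k - 1))) e := by
  classical
  have hk := M.hk
  set y := ω (chain x e₀ (k - 1))
  have hy : y ∈ ω.range := M.mem_range _
  have hcomm : ∀ τ ∈ ω.range, τ * y = y * τ := by
    rintro _ ⟨g, rfl⟩
    exact M.central_chain g
  have hsh : Commute (y.val - 1) (sh p d 1) := by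
    have h := commute_sub_one (hcomm _ (M.mem_range x))
    rw [M.setting.x_eq, add_mul, mul_add, one_mul, mul_one] at h
    exact (add_left_cancel h).symm
  have hex : ∃ δ, δ < d ∧ ent (y.val - 1) δ 0 ≠ 0 := by
    by_contra h
    push Not at h
    refine M.ω_ne_one (show k - 1 < k by omega) (Units.ext ?_)
    rw [Units.val_one, ← sub_eq_zero]
    refine ext_ent fun i j hi hj => ?_
    rw [ent_zero]
    rcases Nat.lt_or_ge i j with hij | hij
    · exact deg_zero_of_commute hsh i j (by omega)
    · obtain ⟨δ, rfl⟩ := Nat.exists_eq_add_of_le hij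
      rw [ent_of_commute hsh j hi]
      exact h δ (by omega)
  obtain ⟨hed, hlead⟩ := Nat.find_spec hex
  have hlow : ∀ δ, δ < Nat.find hex → ent (y.val - 1) δ 0 = 0 := fun δ h => by
    by_contra hne
    exact Nat.find_min hex h ⟨by omega, hne⟩
  refine ⟨Nat.find hex, ⟨M.setting, hy, hcomm, fun i j hij => ?_, hlead, ?_, hed⟩⟩
  · by_cases hi : i < d
    swap
    · exact ent_of_row _ (le_of_not_gt hi)
    rcases Nat.lt_or_ge i j with h | h
    · exact deg_zero_of_commute hsh i j (by omega)
    · obtain ⟨δ, rfl⟩ := Nat.exists_eq_add_of_le h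
      rw [ent_of_commute hsh j hi]
      exact hlow δ (by omega)
  · by_contra hlt
    rcases (show Nat.find hex = 0 ∨ Nat.find hex = 1 by omega) with h | h <;> rw [h] at hlead
    · exact hlead ((M.setting.uni y hy) 0 0 (by omega))
    · refine hlead ?_
      have := M.d3
      rw [ent_sub, ent_one, if_neg (by omega), sub_zero]
      exact M.stepM _ (derived_le_stepCent 1 (L_le (by omega) (chain_mem x e₀ (k - 1)))) 0 (by omega)

theorem conj_x : ω (chain x e₀ (k - 2)) * ω x * (ω (chain x e₀ (k - 2)))⁻¹ =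
    (ω (chain x e₀ (k - 1)))⁻¹ * ω x := by
  have h : chain x e₀ (k - 1) = ⁅x, chain x e₀ (k - 2)⁆ := by
    rw [show k - 1 = k - 2 + 1 by have := M.hk; omega]; rfl
  rw [h, map_commutatorElement, commutatorElement_def]
  group

variable {e : ℕ} (C : Central G ω.range (ω x) (ω (chain x e₀ (k - 1))) e)
include C

/-- The image of the shift under conjugation by the element of level `k - 2`. -/
theorem conj_sh (i : ℕ) :
    (ω (chain x e₀ (k - 2))).val * sh p d i * (↑(ω (chain x e₀ (k - 2)))⁻¹ : Mx p d) =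
      (((ω (chain x e₀ (k - 1)))⁻¹ * ω x).val - 1) ^ i := by
  set s := ω (chain x e₀ (k - 2))
  induction i with
  | zero => rw [sh_zero, mul_one, Units.mul_inv, pow_zero]
  | succ i ih =>
    rw [pow_succ, ← ih, ← M.conj_x, Units.val_mul, Units.val_mul, C.x_eq, mul_add, mul_one, add_mul,
      Units.mul_inv, add_sub_cancel_left, ← sh_mul]
    simp only [mul_assoc]
    simp only [s, Units.inv_mul_cancel_left]

theorem phi_pow : ∀ i, 1 ≤ i →
    Deg (i + e - 1) ((((ω (chain x e₀ (k - 1)))⁻¹ * ω x).val - 1) ^ i - sh p d i) ∧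
      (i + e - 1 < d → ent ((((ω (chain x e₀ (k - 1)))⁻¹ * ω x).val - 1) ^ i - sh p d i) (i + e - 1) 0 =
        -((i : ZMod p) * ent ((ω (chain x e₀ (k - 1))).val - 1) e 0)) := by
  set y := ω (chain x e₀ (k - 1))
  set P : Mx p d := (y⁻¹ * ω x).val - 1
  have he := C.he
  have hd := M.d3
  have hyi : Deg e ((↑y⁻¹ : Mx p d) - 1) :=
    prop_inv (P := fun A => Deg e (A - 1)) (by rw [sub_self]; exact Deg.zero _)
      (fun _ _ => deg_mul_sub_one) C.deg
  have hx0 : Deg 0 (ω x).val := (C.uni _ C.x_mem).deg_zero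
  have h1eq : P - sh p d 1 = ((↑y⁻¹ : Mx p d) - 1) * (ω x).val := by
    rw [sub_mul, one_mul, C.x_eq]
    simp only [P, Units.val_mul, C.x_eq]
    abel
  have h1 : Deg e (P - sh p d 1) := by rw [h1eq]; exact hyi.mul hx0
  have hinv : ent ((↑y⁻¹ : Mx p d) - 1) e 0 = -ent (y.val - 1) e 0 := by
    have h := congrArg (fun A => ent A e 0) (show (y.val - 1) * ((↑y⁻¹ : Mx p d) - 1) +
      ((y.val - 1) + ((↑y⁻¹ : Mx p d) - 1)) = 0 by
        rw [sub_mul, mul_sub, Units.mul_inv, mul_one, one_mul]; abel)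
    simp only [ent_add, ent_zero] at h
    rw [(C.deg.mul hyi) e 0 (by omega), zero_add] at h
    exact eq_neg_of_add_eq_zero_right h
  have h1l : ent (P - sh p d 1) e 0 = -ent (y.val - 1) e 0 := by
    rw [h1eq, ent_mul_lead hyi hx0 e 0 (by omega)]
    simp only [Nat.add_zero]
    rw [hinv, (C.uni _ C.x_mem).diag (by omega), mul_one]
  have hP1 : Deg 1 P := by
    have := (h1.mono (show 1 ≤ e by omega)).add (deg_sh 1)
    rwa [sub_add_cancel] at this
  have hPc : Commute P (sh p d 1) := by
    have hc : (y⁻¹ * ω x) * ω x = ω x * (y⁻¹ * ω x) := by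
      rw [← mul_assoc (ω x), (Commute.inv_left (C.comm _ C.x_mem).symm).eq]
    have hc' : (ω x) * (y⁻¹ * ω x) = (y⁻¹ * ω x) * ω x := hc.symm
    have := commute_sub_one hc'
    rw [C.x_eq, add_mul, mul_add, one_mul, mul_one] at this
    exact (add_left_cancel this).symm
  intro i hi
  induction i, hi using Nat.le_induction with
  | base =>
    rw [pow_one, Nat.cast_one, one_mul, show 1 + e - 1 = e by omega]
    exact ⟨h1, fun _ => h1l⟩
  | succ i hi ih =>
    have hstep : P ^ (i + 1) - sh p d (i + 1) =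
        (P ^ i - sh p d i) * P + sh p d i * (P - sh p d 1) := by
      rw [pow_succ, ← sh_mul i 1]; noncomm_ring
    rw [hstep, show i + 1 + e - 1 = i + e by omega]
    refine ⟨((ih.1.mul hP1).mono (by omega)).add ((deg_sh i).mul h1), fun hlt => ?_⟩
    rw [ent_add, ent_mul_lead ih.1 hP1 (i + e) 0 (by omega),
      ent_mul_lead (deg_sh i) h1 (i + e) 0 (by omega)]
    have e1 : ent (P ^ i - sh p d i) (i + e) (0 + 1) =
        ent (P ^ i - sh p d i) (i + e - 1) 0 := by
      have hc : Commute (P ^ i - sh p d i) (sh p d 1) :=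
        (hPc.pow_left i).sub_left (commute_sh (Commute.refl (sh p d 1)) i).symm
      have := ent_of_commute (δ := i + e - 1) hc 1 (by omega)
      rw [show 1 + (i + e - 1) = i + e by omega] at this
      exact this
    have e2 : ent P (0 + 1) 0 = 1 := by
      have h := h1 1 0 (by omega)
      rw [ent_sub, ent_sh, if_pos ⟨rfl, by omega⟩, sub_eq_zero] at h
      exact h
    rw [e1, e2, ih.2 (by omega), ent_sh, if_pos ⟨by omega, hlt⟩, mul_one, one_mul, Nat.zero_add, h1l,
      Nat.cast_succ]
    ring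

/-- Deep shifts are fixed by the element of level `k - 2`. -/
theorem commute_chain_sh {i : ℕ} (hi : 1 ≤ i) (h : d ≤ i + e - 1) :
    Commute (ω (chain x e₀ (k - 2))).val (sh p d i) := by
  have h1 := M.conj_sh C i
  rw [sub_eq_zero.1 ((M.phi_pow C i hi).1.eq_zero h)] at h1
  have := congrArg (fun A => A * (ω (chain x e₀ (k - 2))).val) h1
  simp only [mul_assoc, Units.inv_mul, mul_one] at this
  exact this

/-- The dimension is at most `2 e - 1`. -/
theorem dim_le : d < 2 * e := by
  by_contra hlt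
  have he := C.he
  have hd := C.le
  set y := ω (chain x e₀ (k - 1))
  set s := ω (chain x e₀ (k - 2))
  set Y : Mx p d := y.val - 1 with hY
  have hsum : Y = ∑ i ∈ range d, ent Y i 0 • sh p d i := by
    refine ext_ent fun a b ha _ => ?_
    rw [ent_sum]
    rcases Nat.lt_or_ge a b with hab | hab
    · rw [C.deg a b (by omega)]
      exact (Finset.sum_eq_zero fun i _ => by
        rw [ent_smul, ent_sh, if_neg (by omega), mul_zero]).symm
    · obtain ⟨δ, rfl⟩ := Nat.exists_eq_add_of_le hab
      rw [ent_of_commute C.y_commute b ha, Finset.sum_eq_single δ]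
      · rw [ent_smul, ent_sh, if_pos ⟨rfl, ha⟩, mul_one]
      · exact fun i _ hi => by rw [ent_smul, ent_sh, if_neg (fun h => hi (by omega)), mul_zero]
      · exact fun hδ => absurd (Finset.mem_range.2 (by omega)) hδ
  have hconj : s.val * Y * (↑s⁻¹ : Mx p d) = Y := by
    rw [hY, commute_sub_one (C.comm s (M.mem_range _)), mul_assoc, Units.mul_inv, mul_one]
  have hzero : ∑ i ∈ range d, ent Y i 0 • ((((y⁻¹ * ω x).val - 1) ^ i) - sh p d i) = 0 := by
    simp only [smul_sub, Finset.sum_sub_distrib, ← hsum]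
    rw [sub_eq_zero]
    conv_rhs => rw [← hconj, hsum, Finset.mul_sum, Finset.sum_mul]
    refine Finset.sum_congr rfl fun i _ => ?_
    rw [Matrix.mul_smul, Matrix.smul_mul, M.conj_sh C i]
  have h := congrArg (fun A => ent A (2 * e - 1) 0) hzero
  simp only [ent_sum, ent_zero] at h
  rw [Finset.sum_eq_single e] at h
  · rw [ent_smul, show 2 * e - 1 = e + e - 1 by omega, (M.phi_pow C e (by omega)).2 (by omega)] at h
    have hecast : (e : ZMod p) ≠ 0 := fun h0 => by
      have := Nat.le_of_dvd (by omega) ((ZMod.natCast_eq_zero_iff e p).1 h0)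
      omega
    exact mul_ne_zero C.lead (neg_ne_zero.2 (mul_ne_zero hecast C.lead)) h
  · intro i hi hne
    rcases Nat.lt_or_gt_of_ne hne with hlt' | hgt
    · rw [ent_smul, show ent Y i 0 = 0 from C.deg i 0 (by omega), zero_mul]
    · rw [ent_smul, (M.phi_pow C i (by omega)).1 _ _ (by omega), mul_zero]
  · exact fun h0 => absurd (Finset.mem_range.2 (by omega)) h0

end Model

end Cfsg.Lib.Fusion.MaxClassNormal
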