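import Cfsg.Agent.Fusion.MaxClassNormal.StepTwo
import Cfsg.Agent.Fusion.MaxClassNormal.Deep

/-!
No group of maximal class modulo a term of its lower central series acts as the Sylow subgroup of an
irreducible group in dimension at least four.
-/

set_option autoImplicit false
set_option linter.unusedSectionVars false
set_option linter.style.haveILetI false
set_option maxHeartbeats 1000000

namespace Cfsg.Lib.Fusion.MaxClassNormal

open Finset
open Cfsg.Lib.PGroups MaxClassRank MaxClassThree MaxClassAgemo MaxClassDegree MaxClassOutside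
open scoped commutatorElement

universe u

variable {p d n k : ℕ} [hp : Fact p.Prime] {X : Type u} [Group X] [Finite X] [Group.IsNilpotent X]

namespace Model

variable {G : Subgroup (GLd p d)} {ω : X →* GLd p d} {x e₀ : X} (M : Model p d n k G ω x e₀)
include M

theorem rel_chain (i : ℕ) :
    ω x * ω (chain x e₀ i) = ω (chain x e₀ (i + 1)) * ω (chain x e₀ i) * ω x := by
  rw [show chain x e₀ (i + 1) = ⁅x, chain x e₀ i⁆ from rfl, map_commutatorElement,
    commutatorElement_def]
  group

theorem chain_mem_step : ∀ i, chain x e₀ i ∈ stepCent X 1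
  | 0 => M.e_mem
  | i + 1 => derived_le_stepCent 1 (L_le (by omega) (chain_mem x e₀ (i + 1)))

theorem sub_zero_chain (i : ℕ) : ent ((ω (chain x e₀ i)).val - 1) 1 0 = 0 := by
  have := M.d3
  rw [ent_sub, ent_one, if_neg (by omega), sub_zero]
  exact M.stepM _ (M.chain_mem_step i) 0 (by omega)

variable {e : ℕ} (C : Central G ω.range (ω x) (ω (chain x e₀ (k - 1))) e)
include C

theorem levels (hk : 3 ≤ k) (hde : d + 1 = 2 * e) (he3 : 3 ≤ e) :
    Levels G ω.range (ω x) (ω (chain x e₀ (k - 3))) (ω (chain x e₀ (k - 2)))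
      (ω (chain x e₀ (k - 1))) e where
  toCentral := C
  dim := hde
  e3 := he3
  s1_mem := M.mem_range _
  s2_mem := M.mem_range _
  rel1 := by have := M.rel_chain (k - 2); rwa [show k - 2 + 1 = k - 1 by omega] at this
  rel2 := by have := M.rel_chain (k - 3); rwa [show k - 3 + 1 = k - 2 by omega] at this
  comm21 := (M.commute_chain (by omega)).eq
  sub2 := M.sub_zero_chain _

theorem next (hk : 4 ≤ k) (hde : d + 1 = 2 * e) (he3 : 3 ≤ e) :
    Next G ω.range (ω x) (ω (chain x e₀ (k - 4))) (ω (chain x e₀ (k - 3)))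
      (ω (chain x e₀ (k - 2))) (ω (chain x e₀ (k - 1))) e where
  toLevels := M.levels C (by omega) hde he3
  h_mem := M.mem_range _
  relh := by have := M.rel_chain (k - 4); rwa [show k - 4 + 1 = k - 3 by omega] at this
  commh := (M.commute_chain (by omega)).eq
  subh := M.sub_zero_chain _

omit C in
/-- The model is impossible. -/
theorem false_of (hp5 : 5 ≤ p) (hd : d ≠ 3) : False := by
  obtain ⟨e, C⟩ := M.exists_central
  have hd3 := M.d3
  have hdim := M.dim_le C
  rcases Nat.lt_or_ge (d + 1) (2 * e) with h2 | h2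
  · refine C.false_of_big (by omega) (by omega) ?_
    rintro _ ⟨g, rfl⟩
    by_cases hg : g ∈ stepCent X 1
    · exact Or.inl (M.stepM g hg)
    · exact Or.inr (M.stepN g hg)
  have hde : d + 1 = 2 * e := by omega
  have he3 : 3 ≤ e := by omega
  have hrem : ∀ g : X, ∃ a b : ℕ, (e₀ ^ b)⁻¹ * ((x ^ a)⁻¹ * g) ∈ L X 1 := fun g => by
    obtain ⟨a, ha⟩ := M.exists_exp_top g
    obtain ⟨b, hb⟩ := M.exists_exp_zero ha
    exact ⟨a, b, hb⟩
  rcases (show k = 2 ∨ 3 ≤ k by have := M.hk; omega) with rfl | hk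
  · refine Three.impossible (G := G) (T := ω.range) (x := ω x) (s := ω e₀)
      (y := ω (chain x e₀ (2 - 1))) (e := e)
      ⟨C, hde, he3, M.mem_range _, ?_, ?_, ?_, ?_⟩ hp5
    · rw [C.comm (ω e₀) (M.mem_range _)]
      exact M.rel_chain 0
    · intro q
      by_cases hq : q + 2 < d
      · exact M.stepM e₀ M.e_mem q hq
      by_cases hq' : q + 1 < d
      swap
      · exact ent_of_row _ (by omega)
      obtain ⟨j, rfl⟩ := Nat.exists_eq_succ_of_ne_zero (show q ≠ 0 by omega)
      have h := rel_const C.x_eq (M.rel_chain 0) (C.uni _ (M.mem_range _)) C.deg (δ := 1) (j := j)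
        (by omega) (by omega)
      rw [ent_sub, ent_sub, ent_one, if_neg (by omega), ent_one, if_neg (by omega), sub_zero,
        sub_zero] at h
      rw [Nat.succ_eq_add_one]
      exact h.trans (M.stepM e₀ M.e_mem j (by omega))
    · exact fun i hi => M.commute_chain_sh C (by omega) (by omega)
    · rintro _ ⟨g, rfl⟩
      obtain ⟨a, b, hb⟩ := hrem g
      obtain ⟨c, hc⟩ := M.exists_exp le_rfl (by omega) hb
      refine ⟨a, b, c, ?_⟩
      have h := M.map_eq_one hc
      rw [map_mul, map_mul, map_mul, map_inv, map_inv, map_inv, map_pow, map_pow, map_pow,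
        inv_mul_eq_iff_eq_mul, mul_one, inv_mul_eq_iff_eq_mul, inv_mul_eq_iff_eq_mul] at h
      rw [h, mul_assoc]
  rcases (show k = 3 ∨ k = 4 ∨ 5 ≤ k by omega) with rfl | rfl | hk5
  · refine Tail.impossible (h := 1) (s₂ := ω (chain x e₀ (3 - 3))) (s₁ := ω (chain x e₀ (3 - 2)))
      ⟨M.levels C le_rfl hde he3, Or.inl rfl, ?_⟩ (by omega)
    rintro _ ⟨g, rfl⟩
    obtain ⟨a, b, hb⟩ := hrem g
    obtain ⟨c, hc⟩ := M.exists_exp le_rfl (by omega) hb
    obtain ⟨f, hf⟩ := M.exists_exp (show 1 ≤ 2 by omega) (by omega) hc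
    refine ⟨a, 0, b, c, f, ?_⟩
    have h := M.map_eq_one hf
    rw [map_mul, map_mul, map_mul, map_mul, map_inv, map_inv, map_inv, map_inv, map_pow, map_pow,
      map_pow, map_pow, inv_mul_eq_iff_eq_mul, mul_one, inv_mul_eq_iff_eq_mul, inv_mul_eq_iff_eq_mul,
      inv_mul_eq_iff_eq_mul] at h
    rw [h, pow_zero, mul_one]
    simp only [mul_assoc]
    rfl
  · refine Tail.impossible ⟨(M.next C le_rfl hde he3).toLevels, Or.inr (M.next C le_rfl hde he3), ?_⟩
      (by omega)
    rintro _ ⟨g, rfl⟩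
    obtain ⟨a, b, hb⟩ := hrem g
    obtain ⟨c, hc⟩ := M.exists_exp le_rfl (by omega) hb
    obtain ⟨f, hf⟩ := M.exists_exp (show 1 ≤ 2 by omega) (by omega) hc
    obtain ⟨i, hi⟩ := M.exists_exp (show 1 ≤ 3 by omega) (by omega) hf
    refine ⟨a, b, c, f, i, ?_⟩
    have h := M.map_eq_one hi
    rw [map_mul, map_mul, map_mul, map_mul, map_mul, map_inv, map_inv, map_inv, map_inv, map_inv,
      map_pow, map_pow, map_pow, map_pow, map_pow, inv_mul_eq_iff_eq_mul, mul_one,
      inv_mul_eq_iff_eq_mul, inv_mul_eq_iff_eq_mul, inv_mul_eq_iff_eq_mul,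
      inv_mul_eq_iff_eq_mul] at h
    rw [h]
    simp only [mul_assoc]
    rfl
  · exact (M.next C (by omega) hde he3).not_comm (M.commute_chain (by omega)).eq

end Model

end Cfsg.Lib.Fusion.MaxClassNormal
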