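import Cfsg.Agent.Fusion.MaxClassNormal.Quadratic

/-!
A fixed tensor summed over the cosets of the Sylow subgroup: the impossibility when the central
element moves at most half of the dimension.
-/

set_option autoImplicit false
set_option linter.unusedSectionVars false
set_option linter.style.haveILetI false
set_option maxHeartbeats 1000000

namespace Cfsg.Lib.Fusion.MaxClassNormal

open Finset

variable {p d : ℕ} [hp : Fact p.Prime]

theorem subdiag_mul {A B : Mx p d} (hA : Uni A) (hB : Uni B) {q : ℕ} :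
    ent (A * B) (q + 1) q = ent A (q + 1) q + ent B (q + 1) q := by
  rw [show A * B = (A - 1) * (B - 1) + ((A - 1) + (B - 1)) + 1 by
    simp only [sub_mul, mul_sub, one_mul, mul_one]; abel]
  have h : Deg 2 ((A - 1) * (B - 1)) := Deg.mul (a := 1) (b := 1) hA hB
  rw [ent_add, ent_add, ent_add, ent_sub, ent_sub, ent_one, if_neg (by omega),
    h (q + 1) q (by omega)]
  ring

theorem subdiag_pow {A : Mx p d} (hA : Uni A) {q : ℕ} :
    ∀ m : ℕ, ent (A ^ m) (q + 1) q = (m : ZMod p) * ent A (q + 1) q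
  | 0 => by rw [pow_zero, ent_one, if_neg (by omega), Nat.cast_zero, zero_mul]
  | m + 1 => by
    rw [pow_succ, subdiag_mul (deg_pow_sub_one hA m) hA, subdiag_pow hA m, Nat.cast_succ]
    ring

/-- A degree tuple. -/
theorem exists_tuple (e D1 : ℕ) : ∀ r D : ℕ, r * e ≤ D → D ≤ r * D1 → e ≤ D1 →
    ∃ i : Fin r → ℕ, (∀ m, e ≤ i m ∧ i m ≤ D1) ∧ ∑ m, i m = D
  | 0, D, _, h, _ => ⟨fun m => m.elim0, fun m => m.elim0, by simp at h; simp [h]⟩
  | r + 1, D, h1, h2, h3 => by
    rw [Nat.succ_mul] at h1 h2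
    obtain ⟨i, hi, hs⟩ := exists_tuple e D1 r (D - min D1 (D - r * e))
      (by omega) (by
        have : r * e ≤ r * D1 := Nat.mul_le_mul_left r h3
        omega) h3
    refine ⟨Fin.cons (min D1 (D - r * e)) i, fun m => ?_, ?_⟩
    · induction m using Fin.cases with
      | zero => rw [Fin.cons_zero]; omega
      | succ m => rw [Fin.cons_succ]; exact hi m
    · rw [Fin.sum_univ_succ]
      simp only [Fin.cons_zero, Fin.cons_succ, hs]
      omega

/-- The number of slots. -/
theorem exists_slots {e : ℕ} (hp5 : 5 ≤ p) (hd : d ≤ p) (he : 2 ≤ e) (hed : e < d)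
    (h2 : 2 * e ≤ d + 1) :
    ∃ r, 1 ≤ r ∧ (r - 1) * (d - 1) < p - 1 ∧ p - 1 ≤ r * (d - 1) ∧ r * e ≤ p - 1 := by
  classical
  have hex : ∃ r, p - 1 ≤ r * (d - 1) := ⟨p - 1, Nat.le_mul_of_pos_right _ (by omega)⟩
  obtain ⟨w, hw⟩ : Even (p - 1) := hp.out.even_sub_one (by omega)
  refine ⟨Nat.find hex, ?_⟩
  have h1 := Nat.find_spec hex
  have h0 : ∀ m, m < Nat.find hex → m * (d - 1) < p - 1 := fun m hm =>
    not_le.1 (Nat.find_min hex hm)
  generalize Nat.find hex = r at *
  have hr0 : r ≠ 0 := fun h => by subst h; simp at h1; omega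
  obtain ⟨r, rfl⟩ := Nat.exists_eq_succ_of_ne_zero hr0
  have hm := h0 r (Nat.lt_succ_self r)
  refine ⟨Nat.succ_pos r, by simpa using hm, h1, ?_⟩
  rcases (show r = 0 ∨ r = 1 ∨ 2 ≤ r by omega) with rfl | rfl | hr
  · simp at h1 ⊢
    omega
  · simp at hm ⊢
    omega
  · rcases Nat.lt_or_ge d 5 with hd5 | hd5
    · obtain rfl : e = 2 := by omega
      have h3 : r * 2 ≤ r * (d - 1) := Nat.mul_le_mul_left r (by omega)
      rw [Nat.succ_mul]
      omega
    · obtain ⟨c, rfl⟩ : ∃ c, d = c + 1 := ⟨d - 1, by omega⟩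
      rw [Nat.add_sub_cancel] at hm
      obtain ⟨r', rfl⟩ : ∃ r', r = r' + 2 := ⟨r - 2, by omega⟩
      obtain ⟨c', rfl⟩ : ∃ c', c = c' + 4 := ⟨c - 4, by omega⟩
      have hkey : 2 * ((r' + 2 + 1) * e) ≤ 2 * ((r' + 2) * (c' + 4) + 1) := by
        have h4 : (r' + 2 + 1) * (2 * e) ≤ (r' + 2 + 1) * (c' + 4 + 2) := Nat.mul_le_mul_left _ (by omega)
        nlinarith
      show (r' + 2 + 1) * e ≤ p - 1
      omega

namespace Central

variable {G T : Subgroup (GLd p d)} {x y : GLd p d} {e : ℕ} (H : Central G T x y e)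
include H

/-- The diagonal of an element keeping the flag is geometric. -/
theorem exists_ratio (hsub : ∀ τ ∈ T, ∀ q, q + 1 < d → ent τ.val (q + 1) q = ent τ.val 1 0)
    {g : GLd p d} (hg : g ∈ G) (h0 : Deg 0 g.val) :
    ∃ a : ZMod p, a ≠ 0 ∧ ∀ q, q < d → ent g.val q q = a ^ q * ent g.val 0 0 := by
  set τ := g * x * g⁻¹ with hτdef
  have hτ : τ ∈ T := H.conj_mem hg h0 H.x_mem
  refine ⟨ent τ.val 1 0, ?_, ?_⟩
  all_goals
    have hstep : ∀ q, q + 1 < d →
        ent g.val (q + 1) (q + 1) = ent τ.val 1 0 * ent g.val q q := by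
      intro q hq
      have e1 : g.val * (x.val - 1) = (τ.val - 1) * g.val := by
        rw [hτdef, Units.val_mul, Units.val_mul, mul_sub, mul_one, sub_mul, one_mul,
          Units.inv_mul_cancel_right]
      have e2 : ent (g.val * (x.val - 1)) (q + 1) q = ent ((τ.val - 1) * g.val) (q + 1) q := by rw [e1]
      rw [H.sub_one, ent_mul_sh, ent_mul_lead (H.uni τ hτ) h0 (q + 1) q rfl] at e2
      simp only [Nat.add_zero] at e2
      rw [ent_sub, ent_one, if_neg (by omega), sub_zero, hsub τ hτ q hq] at e2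
      exact e2
  · intro hz
    have h1 := hstep 0 (by have := H.two; omega)
    rw [hz, zero_mul] at h1
    exact diag_ne_zero h0 (show 1 < d by have := H.two; omega) h1
  · intro q
    induction q with
    | zero => intro _; rw [pow_zero, one_mul]
    | succ q ih => intro hq; rw [hstep q hq, ih (by omega), pow_succ]; ring

theorem orderOf_y : orderOf y = p := orderOf_eq_prime (H.pow_p H.y_mem) H.y_ne_one

theorem orderOf_x : orderOf x = p := orderOf_eq_prime H.x_pow_p fun h => by
  have h1 : ent (x.val - 1) 1 0 = 0 := by rw [h, Units.val_one, sub_self, ent_zero]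
  rw [H.sub_one, ent_sh, if_pos ⟨rfl, by have := H.two; omega⟩] at h1
  exact one_ne_zero h1

theorem pow_x_single {k : ℕ} (hk : (k : ZMod p) ≠ 0) : Single ((x ^ k).val - 1) := by
  refine ⟨H.uni _ (pow_mem H.x_mem k), fun q hq => ?_⟩
  rw [Units.val_pow_eq_pow_val, ent_sub, subdiag_pow (H.uni x H.x_mem), ent_one,
    if_neg (by omega), sub_zero, H.x_eq, ent_add, ent_one, if_neg (by omega), zero_add, ent_sh,
    if_pos ⟨rfl, hq⟩, mul_one]
  exact hk

theorem subdiag_xy (i j : ℕ) : ent (x ^ i * y ^ j).val 1 0 = (i : ZMod p) := by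
  have h2 := H.two
  rw [Units.val_mul, Units.val_pow_eq_pow_val, Units.val_pow_eq_pow_val,
    subdiag_mul (deg_pow_sub_one (H.uni x H.x_mem) i) (deg_pow_sub_one (H.uni y H.y_mem) j),
    subdiag_pow (H.uni x H.x_mem), subdiag_pow (H.uni y H.y_mem)]
  have hy : ent y.val (0 + 1) 0 = 0 := by
    have := H.deg 1 0 (by have := H.he; omega)
    rwa [ent_sub, ent_one, if_neg (by omega), sub_zero] at this
  rw [hy, mul_zero, add_zero, H.x_eq, ent_add, ent_one, if_neg (by omega), zero_add, ent_sh,
    if_pos ⟨rfl, by omega⟩, mul_one]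

/-- An element of `A = ⟨x, y⟩` in a conjugate of `T`, for a conjugator moving the flag. -/
theorem xy_free {g : GLd p d} (hg : ¬ Deg 0 g.val) (hy : g⁻¹ * y * g ∉ T) {i j : ℕ} (hi : i < p)
    (hj : j < p) (h : g⁻¹ * (x ^ i * y ^ j) * g ∈ T) : i = 0 ∧ j = 0 := by
  have hi0 : i = 0 := by
    by_contra hne
    refine hg (H.lower_of_single ⟨H.uni _ (mul_mem (pow_mem H.x_mem i) (pow_mem H.y_mem j)),
      fun q hq => ?_⟩ h)
    rw [ent_sub, ent_one, if_neg (by omega), sub_zero, Units.val_mul, Units.val_pow_eq_pow_val,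
      Units.val_pow_eq_pow_val,
      subdiag_mul (deg_pow_sub_one (H.uni x H.x_mem) i) (deg_pow_sub_one (H.uni y H.y_mem) j),
      subdiag_pow (H.uni x H.x_mem), subdiag_pow (H.uni y H.y_mem)]
    have hy : ent y.val (q + 1) q = 0 := by
      have := H.deg (q + 1) q (by have := H.he; omega)
      rwa [ent_sub, ent_one, if_neg (by omega), sub_zero] at this
    rw [hy, mul_zero, add_zero, H.x_eq, ent_add, ent_one, if_neg (by omega), zero_add, ent_sh,
      if_pos ⟨rfl, hq⟩, mul_one, Ne, ZMod.natCast_eq_zero_iff]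
    exact fun hd => absurd (Nat.le_of_dvd (Nat.pos_of_ne_zero hne) hd) (by omega)
  subst hi0
  refine ⟨rfl, ?_⟩
  by_contra hne
  rw [pow_zero, one_mul] at h
  have hco : Nat.Coprime j (orderOf y) := by
    rw [H.orderOf_y, Nat.coprime_comm, hp.out.coprime_iff_not_dvd]
    exact fun hd => absurd (Nat.le_of_dvd (Nat.pos_of_ne_zero hne) hd) (by omega)
  obtain ⟨m, hm⟩ := exists_pow_eq_self_of_coprime hco
  refine hy ?_
  have := pow_mem h m
  rw [show g⁻¹ * y ^ j * g = g⁻¹ * y ^ j * g⁻¹⁻¹ by rw [inv_inv], conj_pow, hm, inv_inv] at this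
  exact this

/-- A conjugate of a deep shift by an element normalizing `⟨y⟩` is strictly lower triangular. -/
theorem deg_one_conj {g : GLd p d} {b : ℕ} (hg : g⁻¹ * y * g = y ^ b) {i : ℕ} (hi : e ≤ i) :
    Deg 1 (g.val * sh p d i * (↑(g⁻¹) : Mx p d)) := by
  have hiter : ∀ n : ℕ, (g ^ n)⁻¹ * y * g ^ n = y ^ b ^ n := by
    intro n
    induction n with
    | zero => simp
    | succ n ih =>
      calc (g ^ (n + 1))⁻¹ * y * g ^ (n + 1) = g⁻¹ * ((g ^ n)⁻¹ * y * g ^ n) * g := by
            rw [pow_succ]; group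
        _ = g⁻¹ * y ^ b ^ n * g⁻¹⁻¹ := by rw [ih, inv_inv]
        _ = (g⁻¹ * y * g⁻¹⁻¹) ^ b ^ n := (conj_pow).symm
        _ = (y ^ b) ^ b ^ n := by rw [inv_inv, hg]
        _ = y ^ b ^ (n + 1) := by rw [← pow_mul, ← pow_succ']
  have hgi : g ^ (orderOf g - 1) = g⁻¹ := (inv_eq_of_mul_eq_one_right (by
    rw [← pow_succ', Nat.sub_add_cancel (orderOf_pos g), pow_orderOf_eq_one])).symm
  have hg' := hiter (orderOf g - 1)
  rw [hgi, inv_inv] at hg'
  set b' := b ^ (orderOf g - 1)
  have hA' : Deg e ((y ^ b').val - 1) := by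
    rw [Units.val_pow_eq_pow_val]; exact deg_pow_sub_one H.deg b'
  have hbase : g.val * (y.val - 1) = ((y ^ b').val - 1) * g.val := by
    rw [← hg', Units.val_mul, Units.val_mul, mul_sub, mul_one, sub_mul, one_mul,
      Units.inv_mul_cancel_right]
  have hpw : ∀ s : ℕ, g.val * (y.val - 1) ^ s = ((y ^ b').val - 1) ^ s * g.val := by
    intro s
    induction s with
    | zero => rw [pow_zero, pow_zero, mul_one, one_mul]
    | succ s ih => rw [pow_succ, pow_succ, ← mul_assoc, ih, mul_assoc, hbase, mul_assoc]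
  have hinv : ∀ s : ℕ, Inv (s * e) g.val := fun s =>
    inv_of_intertwine (H.deg.pow s) (hA'.pow s)
      (lead_pow_ne_zero H.deg (fun _ hq => H.lead_ne hq) s) (hpw s)
  have he := H.he
  intro u v huv
  refine ent_mul_eq_zero _ _ _ _ fun c _ => ?_
  rcases Nat.lt_or_ge c (v / e * e) with hc | hc
  · rw [inv_inv_block (hinv (v / e)) c v hc (Nat.div_mul_le_self v e), mul_zero]
  · rw [ent_mul_sh]
    have h1 : v < (v / e + 1) * e := by
      have h2 := Nat.div_add_mod v e
      have h3 := Nat.mod_lt v (show e > 0 by omega)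
      rw [Nat.succ_mul, Nat.mul_comm]
      omega
    rw [hinv (v / e + 1) u (c + i) (by omega) (by rw [Nat.succ_mul]; omega), zero_mul]

/-- The impossibility. -/
theorem false_of_small (hp5 : 5 ≤ p) (h2 : 2 * e ≤ d + 1)
    (hsub : ∀ τ ∈ T, ∀ q, q + 1 < d → ent τ.val (q + 1) q = ent τ.val 1 0)
    (hfix : ∀ τ ∈ T, ∀ i, e ≤ i → Commute τ.val (sh p d i))
    (hweak : ∀ g ∈ G, g⁻¹ * y * g ∈ T → Deg 0 g.val ∨ ∃ b : ℕ, g⁻¹ * y * g = y ^ b) : False := by
  classical
  have hd2 := H.two
  have hed := H.hed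
  have he2 := H.he
  obtain ⟨r, hr1, hr2, hr3, hr4⟩ := exists_slots hp5 H.le H.he H.hed h2
  obtain ⟨i, hi, hisum⟩ := exists_tuple e (d - 1) r (p - 1) hr4 hr3 (by omega)
  haveI := Fintype.ofFinite (Cosets G T)
  haveI : NeZero p := ⟨hp.out.ne_zero⟩
  set M : GLd p d → Fin r → Mx p d := fun g m => g.val * sh p d (i m) * (↑(g⁻¹) : Mx p d)
  set Φ : GLd p d → Matrix (Idx d r) (Idx d r) (ZMod p) := fun g => kron (M g)
  have hΦ : ∀ g, ∀ τ ∈ T, Φ (g * τ) = Φ g := fun g τ hτ => by
    refine congrArg kron (funext fun m => ?_)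
    show (g * τ).val * sh p d (i m) * (↑(g * τ)⁻¹ : Mx p d) = g.val * sh p d (i m) * (↑(g⁻¹) : Mx p d)
    rw [mul_inv_rev, Units.val_mul, Units.val_mul, mul_assoc g.val τ.val,
      (hfix τ hτ (i m) (hi m).1).eq]
    simp only [mul_assoc, Units.mul_inv_cancel_left]
  set K : GLd p d → Matrix (Idx d r) (Idx d r) (ZMod p) := fun h => kron fun _ => h.val
  set Ψ := ∑ q : Cosets G T, Φ (rep q)
  have hequiv : ∀ h ∈ G, K h * Ψ = Ψ * K h := by
    intro h hh
    have key : ∀ g, K h * Φ g = Φ (h * g) * K h := fun g => by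
      show kron _ * kron _ = kron _ * kron _
      rw [kron_mul, kron_mul]
      refine congrArg kron (funext fun m => ?_)
      show h.val * (g.val * sh p d (i m) * (↑(g⁻¹) : Mx p d)) =
        (h * g).val * sh p d (i m) * (↑(h * g)⁻¹ : Mx p d) * h.val
      rw [mul_inv_rev, Units.val_mul, Units.val_mul]
      simp only [mul_assoc, Units.inv_mul, mul_one]
    simp only [Ψ, Finset.mul_sum, key]
    rw [← Finset.sum_mul, sum_translate Φ hΦ ⟨h, hh⟩]
  set gr : Idx d r → ℤ := grk
  set z := kron fun m => sh p d (i m)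
  -- the cosets keeping the flag
  have hlow : ∀ g ∈ G, Deg 0 g.val → ∀ u v, gr u - gr v ≤ ((p - 1 : ℕ) : ℤ) → Φ g u v = z u v := by
    intro g hg h0 u v huv
    obtain ⟨a, ha, hdiag⟩ := H.exists_ratio hsub hg h0
    have hdeg : ∀ m, Deg (i m) (M g m) := fun m =>
      ((h0.mul (deg_sh (i m))).mul (deg_zero_inv h0)).mono (by omega)
    show ∏ m, M g m (u m) (v m) = ∏ m, sh p d (i m) (u m) (v m)
    by_cases hall : ∀ m, (u m : ℕ) = v m + i m
    swap
    · have hlt : ∃ m, (u m : ℕ) < v m + i m := by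
        by_contra hcon
        push Not at hcon hall
        obtain ⟨m₀, hm₀⟩ := hall
        have hlt' : ∑ m, ((i m : ℤ)) < ∑ m, (gr1 (u m) - gr1 (v m)) := by
          refine Finset.sum_lt_sum (fun m _ => ?_) ⟨m₀, mem_univ _, ?_⟩
          · have := hcon m; simp only [gr1]; omega
          · have := hcon m₀; simp only [gr1]; omega
        rw [Finset.sum_sub_distrib, ← Nat.cast_sum, hisum] at hlt'
        exact absurd hlt' (not_lt.2 huv)
      obtain ⟨m, hm⟩ := hlt
      rw [Finset.prod_eq_zero (mem_univ m) (by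
          have := hdeg m (u m) (v m) hm; rwa [ent_fin] at this),
        Finset.prod_eq_zero (mem_univ m) (by
          have := deg_sh (p := p) (d := d) (i m) (u m) (v m) hm; rwa [ent_fin] at this)]
    have hone : ∏ m, sh p d (i m) (u m) (v m) = 1 :=
      Finset.prod_eq_one fun m _ => by
        rw [← ent_fin (sh p d (i m)), ent_sh, if_pos ⟨hall m, (u m).2⟩]
    rw [hone]
    have hM : ∀ m, M g m (u m) (v m) = a ^ i m := fun m => by
      rw [← ent_fin (M g m)]
      show ent (g.val * sh p d (i m) * (↑(g⁻¹) : Mx p d)) (u m) (v m) = _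
      rw [ent_mul_lead (h0.mul (deg_sh (i m))) (deg_zero_inv h0) (u m) (v m)
        (by have := hall m; omega), Nat.add_zero, ent_mul_sh, hall m]
      have hv := (v m).2
      have hui := (u m).2
      have e1 : ent g.val (v m) (v m) * ent (↑(g⁻¹) : Mx p d) (v m) (v m) = 1 := by
        have e2 : ent (g.val * (↑(g⁻¹) : Mx p d)) (v m) (v m) = 1 := by
          rw [Units.mul_inv, ent_one, if_pos ⟨rfl, hv⟩]
        rwa [ent_mul_lead h0 (deg_zero_inv h0) _ _ (by omega), Nat.add_zero] at e2
      rw [hdiag _ hv] at e1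
      rw [hdiag _ (by have := hall m; omega)]
      calc a ^ ((v m : ℕ) + i m) * ent g.val 0 0 * ent (↑(g⁻¹) : Mx p d) (v m) (v m)
          = a ^ i m * (a ^ (v m : ℕ) * ent g.val 0 0 * ent (↑(g⁻¹) : Mx p d) (v m) (v m)) := by
            rw [pow_add]; ring
        _ = a ^ i m := by rw [e1, mul_one]
    simp only [hM, Finset.prod_pow_eq_pow_sum, hisum]
    exact ZMod.pow_card_sub_one_eq_one ha
  -- invariance of the classes of cosets
  have hinvy : ∀ g, ∀ τ ∈ T, ((g * τ)⁻¹ * y * (g * τ) ∈ T) = (g⁻¹ * y * g ∈ T) := fun g τ hτ =>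
    propext ⟨fun h => by
      have := mul_mem (mul_mem hτ h) (inv_mem hτ)
      simpa [mul_assoc] using this, fun h => by
      have := mul_mem (mul_mem (inv_mem hτ) h) hτ
      simpa [mul_assoc] using this⟩
  have hτ0 : ∀ τ ∈ T, Deg 0 τ.val := fun τ hτ => (H.uni τ hτ).deg_zero
  have hinv0 : ∀ g, ∀ τ ∈ T, Deg 0 (g * τ).val = Deg 0 g.val := fun g τ hτ =>
    propext ⟨fun h => by
      have := h.mul (deg_zero_inv (hτ0 τ hτ))
      rwa [Units.val_mul, mul_assoc, Units.mul_inv, mul_one, Nat.add_zero] at this, fun h => by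
      rw [Units.val_mul]; exact h.mul (hτ0 τ hτ)⟩
  have hleft0 : ∀ {s : GLd p d}, s ∈ T → ∀ g : GLd p d, Deg 0 (s * g).val → Deg 0 g.val :=
    fun {s} hs g h => by
      have := (deg_zero_inv (hτ0 s hs)).mul h
      rwa [Units.val_mul, Units.inv_mul_cancel_left, Nat.add_zero] at this
  have hlefty : ∀ {s : GLd p d}, s ∈ T → ∀ g : GLd p d,
      ((s * g)⁻¹ * y * (s * g) ∈ T ↔ g⁻¹ * y * g ∈ T) := fun {s} hs g => by
    rw [show (s * g)⁻¹ * y * (s * g) = g⁻¹ * (s⁻¹ * (y * s)) * g by group, ← H.comm s hs,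
      inv_mul_cancel_left]
  -- the coordinate functions
  have hcls : ∀ (l : ℕ) (w : Fin l → ℕ) (c : Fin l) (u : GLd p d), 1 ≤ w c → u ∈ T →
      Deg (w c) (u.val - 1) →
      Cls w gr1 0 (fun ι : Var p l => (u ^ (ι c).val).val) ∧
        Cls w gr1 0 (fun ι : Var p l => ((u⁻¹) ^ (ι c).val).val) := by
    intro l w c u hw hu hdeg
    simp only [Units.val_pow_eq_pow_val]
    refine ⟨cls_pow hw hdeg ((H.uni u hu).pow_prime H.le), cls_pow hw ?_
      ((H.uni _ (inv_mem hu)).pow_prime H.le)⟩
    exact prop_inv (P := fun A => Deg (w c) (A - 1)) (by rw [sub_self]; exact Deg.zero _)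
      (fun _ _ => deg_mul_sub_one) hdeg
  have hentry : ∀ u v, gr u - gr v ≤ ((p - 1 : ℕ) : ℤ) →
      Ψ u v = ((univ.filter fun q : Cosets G T => Deg 0 (rep q).val).card : ZMod p) * z u v := by
    intro u v huv
    show (∑ q : Cosets G T, Φ (rep q)) u v = _
    rw [Matrix.sum_apply, ← Finset.sum_filter_add_sum_filter_not univ
      (fun q : Cosets G T => Deg 0 (rep q).val)]
    rw [Finset.sum_congr rfl (fun q hq => hlow (rep q) (rep_mem q) (mem_filter.1 hq).2 u v huv),
      Finset.sum_const, nsmul_eq_mul, add_eq_left]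
    rw [← Finset.sum_filter_add_sum_filter_not _
      (fun q : Cosets G T => (rep q)⁻¹ * y * rep q ∈ T)]
    have hΦ' : ∀ g, ∀ τ ∈ T, Φ (g * τ) u v = Φ g u v := fun g τ hτ => by rw [hΦ g τ hτ]
    have hmapx : ∀ (s : GLd p d) (hsT : s ∈ T) (q : Cosets G T),
        (Deg 0 (rep ((⟨s, H.le_G hsT⟩ : ↥G) • q)).val → Deg 0 (rep q).val) ∧
        (((rep ((⟨s, H.le_G hsT⟩ : ↥G) • q))⁻¹ * y * rep ((⟨s, H.le_G hsT⟩ : ↥G) • q) ∈ T) ↔
          (rep q)⁻¹ * y * rep q ∈ T) := fun s hsT q => by
      rw [apply_smul (fun g => Deg 0 g.val) hinv0, apply_smul (fun g => g⁻¹ * y * g ∈ T) hinvy]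
      exact ⟨hleft0 hsT _, hlefty hsT _⟩
    have h1 : ∑ q ∈ (univ.filter fun q : Cosets G T => ¬ Deg 0 (rep q).val).filter
        (fun q => (rep q)⁻¹ * y * rep q ∈ T), Φ (rep q) u v = 0 := by
      refine sum_cosets_eq_zero (fun g => Φ g u v) hΦ' (fun k : ZMod p => x ^ k.val)
        (fun k => pow_mem H.x_memG _) ?_ ⟨0, by rw [ZMod.val_zero, pow_zero]⟩ ?_ _ ?_ ?_ ?_
      · intro k k' hk
        exact ZMod.val_injective p (pow_injOn_Iio_orderOf (by
          rw [Set.mem_Iio, H.orderOf_x]; exact k.val_lt) (by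
          rw [Set.mem_Iio, H.orderOf_x]; exact k'.val_lt) hk)
      · exact fun k k' => ⟨k + k', by
          rw [← pow_add, pow_eq_pow_iff_modEq, H.orderOf_x, ZMod.val_add]
          exact (Nat.mod_modEq _ _).symm⟩
      · intro q hq k
        simp only [mem_filter, mem_univ, true_and] at hq ⊢
        have hm := hmapx _ (pow_mem H.x_mem k.val) q
        exact ⟨fun h => hq.1 (hm.1 h), hm.2.2 hq.2⟩
      · intro q hq k hk
        simp only [mem_filter, mem_univ, true_and] at hq
        by_contra hne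
        have hk0 : (k.val : ZMod p) ≠ 0 := fun h => hne (by
          rw [ZMod.natCast_zmod_val] at h; rw [h, ZMod.val_zero, pow_zero])
        exact hq.1 (H.lower_of_single (H.pow_x_single hk0) hk)
      · intro q hq
        simp only [mem_filter, mem_univ, true_and] at hq
        obtain ⟨b, hb⟩ := (hweak (rep q) (rep_mem q) hq.2).resolve_left hq.1
        set g := rep q
        let F : Fin r → Var p 1 → Mx p d := fun m ι =>
          (x ^ (ι 0).val).val * M g m * ((x⁻¹) ^ (ι 0).val).val
        obtain ⟨hX, hX'⟩ := hcls 1 ![1] 0 x le_rfl H.x_mem (H.uni x H.x_mem)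
        have hF : ∀ m, Cls (![1] : Fin 1 → ℕ) gr1 1 (F m) := fun m => by
          have hc : Cls (![1] : Fin 1 → ℕ) gr1 1 (fun _ : Var p 1 => M g m) :=
            Cls.const fun a b' hab => by
              have := H.deg_one_conj hb (hi m).1 a b' (by simp only [gr1] at hab; omega)
              rwa [ent_fin] at this
          have h := (hX.mul hc).mul hX'
          rw [zero_add, add_zero] at h
          exact h
        have hpol := (Cls.kron hF) u v
        have h0 := sum_one_var hpol (by
          show _ < (((p - 1) * 1 : ℕ) : ℤ)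
          change gr u - gr v - _ < _
          omega)
        rw [← h0]
        refine Finset.sum_congr rfl fun k _ => ?_
        show kron (M (x ^ k.val * g)) u v = kron (fun m => F m ![k]) u v
        refine congrArg (fun A => kron A u v) (funext fun m => ?_)
        simp only [M, F, mul_inv_rev, inv_pow, Units.val_mul, Matrix.cons_val_zero]
        simp only [mul_assoc]
    have h2 : ∑ q ∈ (univ.filter fun q : Cosets G T => ¬ Deg 0 (rep q).val).filter
        (fun q => ¬ (rep q)⁻¹ * y * rep q ∈ T), Φ (rep q) u v = 0 := by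
      have hxy : Commute x y := H.comm x H.x_mem
      refine sum_cosets_eq_zero (fun g => Φ g u v) hΦ'
        (fun k : ZMod p × ZMod p => x ^ k.1.val * y ^ k.2.val)
        (fun k => mul_mem (pow_mem H.x_memG _) (pow_mem (H.le_G H.y_mem) _)) ?_
        ⟨0, by simp [ZMod.val_zero]⟩ ?_ _ ?_ ?_ ?_
      · intro k k' hk
        simp only at hk
        have e1 := H.subdiag_xy k.1.val k.2.val
        rw [hk, H.subdiag_xy, ZMod.natCast_zmod_val, ZMod.natCast_zmod_val] at e1
        refine Prod.ext e1.symm (ZMod.val_injective p (pow_injOn_Iio_orderOf (by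
          rw [Set.mem_Iio, H.orderOf_y]; exact k.2.val_lt) (by
          rw [Set.mem_Iio, H.orderOf_y]; exact k'.2.val_lt) ?_))
        rw [e1] at hk
        exact mul_left_cancel hk
      · exact fun k k' => ⟨k + k', by
          rw [Commute.mul_mul_mul_comm (hxy.symm.pow_pow _ _), ← pow_add, ← pow_add]
          congr 1 <;>
          · rw [pow_eq_pow_iff_modEq]
            first
              | rw [H.orderOf_x, Prod.fst_add, ZMod.val_add]
              | rw [H.orderOf_y, Prod.snd_add, ZMod.val_add]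
            exact (Nat.mod_modEq _ _).symm⟩
      · intro q hq k
        simp only [mem_filter, mem_univ, true_and] at hq ⊢
        have hm := hmapx _ (mul_mem (pow_mem H.x_mem k.1.val) (pow_mem H.y_mem k.2.val)) q
        exact ⟨fun h => hq.1 (hm.1 h), fun h => hq.2 (hm.2.1 h)⟩
      · intro q hq k hk
        simp only [mem_filter, mem_univ, true_and] at hq
        obtain ⟨h1, h2⟩ := H.xy_free hq.1 hq.2 k.1.val_lt k.2.val_lt hk
        show x ^ k.1.val * y ^ k.2.val = 1
        rw [h1, h2, pow_zero, pow_zero, mul_one]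
      · intro q _
        set g := rep q
        let F : Fin r → Var p 2 → Mx p d := fun m ι =>
          (x ^ (ι 0).val).val * (y ^ (ι 1).val).val * M g m *
            ((y⁻¹) ^ (ι 1).val).val * ((x⁻¹) ^ (ι 0).val).val
        obtain ⟨hX, hX'⟩ := hcls 2 ![1, e] 0 x le_rfl H.x_mem (H.uni x H.x_mem)
        obtain ⟨hY, hY'⟩ := hcls 2 ![1, e] 1 y (by simp; omega) H.y_mem H.deg
        have hF : ∀ m, Cls (![1, e] : Fin 2 → ℕ) gr1 (-((d - 1 : ℕ) : ℤ)) (F m) := fun m => by
          have hc : Cls (![1, e] : Fin 2 → ℕ) gr1 (-((d - 1 : ℕ) : ℤ)) (fun _ : Var p 2 => M g m) :=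
            Cls.const fun a b hab => by
              have ha := a.2; have hb := b.2
              simp only [gr1] at hab
              omega
          have h := (((hX.mul hY).mul hc).mul hY').mul hX'
          simp only [zero_add, add_zero] at h
          exact h
        have hpol := (Cls.kron hF) u v
        have hbound : gr u - gr v - (r : ℤ) * (-((d - 1 : ℕ) : ℤ)) < (((p - 1) * (1 + e) : ℕ) : ℤ) := by
          have h3 : r * (d - 1) < (r - 1) * (d - 1) + p := by
            conv_lhs => rw [show r = r - 1 + 1 by omega, Nat.succ_mul]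
            have := H.le
            omega
          have h4 : (p - 1) * 3 ≤ (p - 1) * (1 + e) := Nat.mul_le_mul_left _ (by omega)
          rw [mul_neg, ← Nat.cast_mul]
          omega
        have h0 := sum_two_var hpol hbound
        rw [← h0, ← Fintype.sum_prod_type']
        refine Finset.sum_congr rfl fun k _ => ?_
        show kron (M (x ^ k.1.val * y ^ k.2.val * g)) u v = kron (fun m => F m ![k.1, k.2]) u v
        refine congrArg (fun A => kron A u v) (funext fun m => ?_)
        simp only [M, F, mul_inv_rev, inv_pow, Units.val_mul, Matrix.cons_val_zero,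
          Matrix.cons_val_one]
        simp only [mul_assoc]
    rw [h1, h2, add_zero]
  -- contraction
  obtain ⟨r', rfl⟩ : ∃ r', r = r' + 1 := ⟨r - 1, by omega⟩
  rw [Nat.add_sub_cancel] at hr2
  have hzero : ∀ u v, (u 0 : ℕ) = 0 → Ψ u v = 0 := by
    intro u v hu
    have hdeg : gr u - gr v ≤ ((r' * (d - 1) : ℕ) : ℤ) := by
      show grk u - grk v ≤ _
      rw [grk, grk, ← Finset.sum_sub_distrib, Fin.sum_univ_succ]
      have h1 : ∑ m : Fin r', (gr1 (u m.succ) - gr1 (v m.succ)) ≤
          ∑ _m : Fin r', ((d - 1 : ℕ) : ℤ) := Finset.sum_le_sum fun m _ => by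
        have := (u m.succ).2; simp only [gr1]; omega
      rw [Finset.sum_const, Finset.card_univ, Fintype.card_fin, nsmul_eq_mul] at h1
      push_cast
      simp only [gr1] at *
      omega
    rw [hentry u v (by omega)]
    have hzv : z u v = 0 := by
      refine Finset.prod_eq_zero (mem_univ (0 : Fin (r' + 1))) ?_
      show sh p d (i 0) (u 0) (v 0) = 0
      rw [← ent_fin (sh p d (i 0)), ent_sh, if_neg]
      rintro ⟨h, -⟩
      have := (hi 0).1
      omega
    rw [hzv, mul_zero]
  set u₁ : Idx d (r' + 1) := fun m => ⟨i m, by have := (hi m).2; omega⟩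
  set v₁ : Idx d (r' + 1) := fun _ => ⟨0, by omega⟩
  have hval : Ψ u₁ v₁ =
      ((univ.filter fun q : Cosets G T => Deg 0 (rep q).val).card : ZMod p) := by
    rw [hentry u₁ v₁ (by
      show grk u₁ - grk v₁ ≤ _
      simp only [grk, gr1, u₁, v₁, Nat.cast_zero, Finset.sum_const_zero, sub_zero]
      rw [← Nat.cast_sum, hisum])]
    have : z u₁ v₁ = 1 := by
      show ∏ m, sh p d (i m) (u₁ m) (v₁ m) = 1
      refine Finset.prod_eq_one fun m _ => ?_
      rw [← ent_fin (sh p d (i m)), ent_sh, if_pos ⟨by simp [u₁, v₁], by have := (hi m).2; simp [u₁]; omega⟩]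
    rw [this, mul_one]
  have hc : (fun a => Ψ (Function.update u₁ 0 a) v₁) = (0 : Fin d → ZMod p) :=
    H.eq_zero_of_forall fun h hh a ha => by
      set K' := kron fun m : Fin (r' + 1) => if m = 0 then h.val else 1
      set K'' := kron fun m : Fin (r' + 1) => if m = 0 then 1 else (↑(h⁻¹) : Mx p d)
      have hKK : K' = K'' * K h := by
        show _ = kron _ * kron _
        rw [kron_mul]
        refine congrArg kron (funext fun m => ?_)
        by_cases hm : m = 0 <;> simp [hm]
      set w := Function.update u₁ 0 a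
      have e1 : h.val.mulVec (fun b => Ψ (Function.update u₁ 0 b) v₁) a = (K' * Ψ) w v₁ := by
        have hterm : ∀ c : Idx d (r' + 1), K' w c =
            if c = Function.update u₁ 0 (c 0) then h.val a (c 0) else 0 := fun c => by
          show ∏ m, (if m = 0 then h.val else 1 : Mx p d) (w m) (c m) = _
          rw [Fin.prod_univ_succ]
          simp only [↓reduceIte, w, Function.update_self, Fin.succ_ne_zero, ne_eq, not_false_eq_true,
            Function.update_of_ne, Matrix.one_apply]
          by_cases hc : c = Function.update u₁ 0 (c 0)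
          · rw [if_pos hc, Finset.prod_eq_one fun m _ => if_pos (by
              rw [hc]; simp [Fin.succ_ne_zero]), mul_one]
          · rw [if_neg hc]
            obtain ⟨m, hm⟩ := Function.ne_iff.1 hc
            have hm0 : m ≠ 0 := fun e => hm (by subst e; simp)
            obtain ⟨m', rfl⟩ := Fin.exists_succ_eq.2 hm0
            rw [Finset.prod_eq_zero (mem_univ m') (if_neg fun e => hm (by
              rw [Function.update_of_ne hm0]; exact e.symm)), mul_zero]
        rw [Matrix.mul_apply, Matrix.mulVec, dotProduct]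
        symm
        rw [← Finset.sum_subset (Finset.subset_univ
          (univ.image fun b : Fin d => Function.update u₁ 0 b)) fun c _ hc => by
            rw [hterm, if_neg (fun e => hc (Finset.mem_image.2 ⟨c 0, mem_univ _, e.symm⟩)), zero_mul]]
        rw [Finset.sum_image fun b _ b' _ e => by simpa using congrFun e 0]
        exact Finset.sum_congr rfl fun b _ => by rw [hterm]; simp
      rw [e1, hKK, mul_assoc, hequiv h hh, ← mul_assoc, Matrix.mul_apply]
      refine Finset.sum_eq_zero fun c _ => ?_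
      rw [Matrix.mul_apply]
      refine mul_eq_zero_of_left (Finset.sum_eq_zero fun c' _ => ?_) _
      by_cases hc' : (c' 0 : ℕ) = 0
      · rw [hzero c' c hc', mul_zero]
      · have h0 : K'' w c' = 0 := by
          show ∏ m : Fin (r' + 1), (if m = 0 then 1 else (↑(h⁻¹) : Mx p d) : Mx p d) (w m) (c' m) = 0
          refine Finset.prod_eq_zero (mem_univ 0) ?_
          rw [if_pos rfl, Matrix.one_apply_ne]
          intro e
          refine hc' ?_
          rw [← e]
          simp [w, ha]
        rw [h0, zero_mul]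
  have := congrFun hc (u₁ 0)
  rw [Function.update_eq_self, hval] at this
  exact H.card_lower this

end Central

end Cfsg.Lib.Fusion.MaxClassNormal
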