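import Cfsg.Agent.Fusion.MaxClassNormal.Setting
import Cfsg.Agent.Quadratic.BaerSuzuki
import Cfsg.Agent.Quadratic.Natural

/-!
A central element of the Sylow subgroup with quadratic action: an involution commuting with it and
the impossibility when the middle layer has dimension at least two.
-/

set_option autoImplicit false
set_option linter.unusedSectionVars false
set_option linter.style.haveILetI false
set_option maxHeartbeats 1000000

namespace Cfsg.Lib.Fusion.MaxClassNormal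

open Finset

variable {p d : ℕ} [hp : Fact p.Prime]

/-! ### Blocks of a group -/

/-- The block of a group of block triangular matrices. -/
noncomputable def blkHom (K : Subgroup (GLd p d)) (a d' : ℕ) (hd : a + d' ≤ d)
    (hK : ∀ g ∈ K, Inv a g.val ∧ Inv (a + d') g.val) : ↥K →* GLd p d' :=
  MonoidHom.toHomUnits
    { toFun := fun g => blk a d' (g : GLd p d).val
      map_one' := by rw [Subgroup.coe_one, Units.val_one, blk_one hd]
      map_mul' := fun g h => by
        rw [Subgroup.coe_mul, Units.val_mul, blk_mul (hK _ h.2).1 (hK _ g.2).2] }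

theorem blkHom_val (K : Subgroup (GLd p d)) (a d' : ℕ) (hd : a + d' ≤ d)
    (hK : ∀ g ∈ K, Inv a g.val ∧ Inv (a + d') g.val) (g : ↥K) :
    (blkHom K a d' hd hK g).val = blk a d' (g : GLd p d).val := rfl

theorem blk_sub (a d' : ℕ) (A B : Mx p d) : blk a d' (A - B) = blk a d' A - blk a d' B :=
  ext_ent fun i j hi hj => by
    rw [ent_sub, ent_blk a d' _ hi hj, ent_blk a d' _ hi hj, ent_blk a d' _ hi hj, ent_sub]

theorem blk_sh {a d' t : ℕ} (hd : a + d' ≤ d) : blk a d' (sh p d t) = sh p d' t :=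
  ext_ent fun i j hi hj => by
    rw [ent_blk a d' _ hi hj, ent_sh, ent_sh]
    by_cases e : i = j + t
    · rw [if_pos ⟨by omega, by omega⟩, if_pos ⟨e, hi⟩]
    · rw [if_neg fun h => e (by omega), if_neg fun h => e h.1]

/-! ### A central element -/

/-- A central element of `T` of exact degree `e` over the identity. -/
structure Central (G T : Subgroup (GLd p d)) (x y : GLd p d) (e : ℕ) : Prop
    extends Setting G T x where
  y_mem : y ∈ T
  comm : ∀ τ ∈ T, τ * y = y * τ
  deg : Deg e (y.val - 1)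
  lead : ent (y.val - 1) e 0 ≠ 0
  he : 2 ≤ e
  hed : e < d

/-- The centralizer of `y` in `G`. -/
def cGrp (G : Subgroup (GLd p d)) (y : GLd p d) : Subgroup (GLd p d) :=
  G ⊓ Subgroup.centralizer {y}

theorem mem_cGrp {G : Subgroup (GLd p d)} {y g : GLd p d} :
    g ∈ cGrp G y ↔ g ∈ G ∧ g * y = y * g := by
  rw [cGrp, Subgroup.mem_inf, Subgroup.mem_centralizer_singleton_iff]

theorem commute_sub_one {g y : GLd p d} (h : g * y = y * g) :
    g.val * (y.val - 1) = (y.val - 1) * g.val := by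
  rw [mul_sub, sub_mul, ← Units.val_mul, h, Units.val_mul, mul_one, one_mul]

namespace Central

variable {G T : Subgroup (GLd p d)} {x y : GLd p d} {e : ℕ} (H : Central G T x y e)
include H

theorem y_commute : Commute (y.val - 1) (sh p d 1) := by
  have h := commute_sub_one (H.comm x H.x_mem)
  rw [H.x_eq, add_mul, mul_add, one_mul, mul_one] at h
  exact (add_left_cancel h).symm

theorem lead_at {q : ℕ} (hq : q + e < d) : ent (y.val - 1) (q + e) q = ent (y.val - 1) e 0 :=
  ent_of_commute H.y_commute q hq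

theorem lead_ne {q : ℕ} (hq : q + e < d) : ent (y.val - 1) (q + e) q ≠ 0 := by
  rw [H.lead_at hq]; exact H.lead

theorem y_ne_one : y ≠ 1 := fun h => H.lead (by rw [h, Units.val_one, sub_self, ent_zero])

theorem le_C : T ≤ cGrp G y := fun τ hτ => mem_cGrp.2 ⟨H.le_G hτ, H.comm τ hτ⟩

theorem inv_e {g : GLd p d} (hg : g ∈ cGrp G y) : Inv e g.val :=
  inv_of_intertwine H.deg H.deg (fun _ hq => H.lead_ne hq) (commute_sub_one (mem_cGrp.1 hg).2)

theorem inv_de {g : GLd p d} (hg : g ∈ cGrp G y) : Inv (d - e) g.val :=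
  inv_of_intertwine' H.deg H.deg (fun _ hq => H.lead_ne hq)
    (commute_sub_one (mem_cGrp.1 hg).2).symm

theorem syl_C : ¬ p ∣ T.relIndex (cGrp G y) := fun h => H.syl (by
  rw [← Subgroup.relIndex_mul_relIndex T (cGrp G y) G H.le_C inf_le_left]
  exact dvd_mul_of_dvd_left h _)

/-- `p`-elements of the centralizer are conjugate into `T` there. -/
theorem exists_conj_mem {u : GLd p d} (hu : u ∈ cGrp G y) {k : ℕ} (hk : u ^ p ^ k = 1) :
    ∃ c ∈ cGrp G y, c * u * c⁻¹ ∈ T := by
  have hTp : IsPGroup p (T.subgroupOf (cGrp G y)) :=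
    H.isPGroup.of_equiv (Subgroup.subgroupOfEquivOfLe H.le_C).symm
  set P := hTp.toSylow H.syl_C
  have hz : IsPGroup p (Subgroup.zpowers (⟨u, hu⟩ : ↥(cGrp G y))) := by
    rintro ⟨v, m, rfl⟩
    exact ⟨k, Subtype.ext (Subtype.ext (by
      show ((u ^ m) ^ p ^ k : GLd p d) = 1
      rw [← zpow_natCast, zpow_comm, zpow_natCast, hk, one_zpow]))⟩
  obtain ⟨Q, hQ⟩ := hz.exists_le_sylow
  obtain ⟨c, hc⟩ := MulAction.exists_smul_eq (↥(cGrp G y)) Q P
  refine ⟨c, c.2, ?_⟩
  have : c * (⟨u, hu⟩ : ↥(cGrp G y)) * c⁻¹ ∈ (P : Subgroup (cGrp G y)) := by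
    rw [← hc]
    exact Subgroup.smul_mem_pointwise_smul _ (MulAut.conj c) _
      (hQ (Subgroup.mem_zpowers _))
  exact this

/-- An involution commuting with `y` and trivial on the middle layer. -/
theorem exists_involution (hp2 : p ≠ 2) (h2 : d ≤ 2 * e) :
    ∃ t : GLd p d, t ∈ cGrp G y ∧ t * t = 1 ∧ t ≠ 1 ∧
      ∀ i j, i < e → d - e ≤ j → ent (t.val - 1) i j = 0 := by
  classical
  -- two conjugates not generating a `p`-group
  obtain ⟨g, hgG, hL⟩ : ∃ g ∈ G, ¬ IsPGroup p (Subgroup.closure {y, g * y * g⁻¹}) := by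
    by_contra hall
    push Not at hall
    set y' : ↥G := ⟨y, H.le_G H.y_mem⟩
    obtain ⟨N, hNn, hNp, hyN⟩ := Cfsg.Lib.BaerSuzuki.baer_suzuki (p := p) (Subgroup.zpowers y')
      fun g => by
        have hle : (Subgroup.zpowers y' ⊔ (Subgroup.zpowers y').map (MulAut.conj g).toMonoidHom).map
            G.subtype ≤ Subgroup.closure {y, (g : GLd p d) * y * (g : GLd p d)⁻¹} := by
          rw [Subgroup.map_sup, MonoidHom.map_zpowers, MonoidHom.map_zpowers,
            MonoidHom.map_zpowers]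
          exact sup_le (Subgroup.zpowers_le.2 (Subgroup.subset_closure (Set.mem_insert _ _)))
            (Subgroup.zpowers_le.2 (Subgroup.subset_closure (Set.mem_insert_of_mem _ rfl)))
        exact ((hall g g.2).to_le hle).of_equiv
          (Subgroup.equivMapOfInjective _ _ G.subtype_injective).symm
    have hbot := H.eq_bot_of_normal (R := N.map G.subtype) (Subgroup.map_subtype_le N)
      (fun a ha r hr => by
        obtain ⟨r', hr', rfl⟩ := hr
        exact ⟨⟨a, ha⟩ * r' * ⟨a, ha⟩⁻¹, hNn.conj_mem r' hr' ⟨a, ha⟩, rfl⟩) (hNp.map _)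
    exact H.y_ne_one ((Subgroup.mem_bot).1 (hbot ▸ ⟨y', hyN (Subgroup.mem_zpowers y'), rfl⟩))
  set b := g * y * g⁻¹ with hb
  set L := Subgroup.closure {y, b} with hLdef
  have hLG : L ≤ G := (Subgroup.closure_le _).2 (by
    intro u hu
    rcases hu with rfl | rfl
    · exact H.le_G H.y_mem
    · exact mul_mem (mul_mem hgG (H.le_G H.y_mem)) (inv_mem hgG))
  obtain ⟨A, hA⟩ : ∃ A : Mx p d, A = y.val - 1 := ⟨_, rfl⟩
  obtain ⟨B, hB⟩ : ∃ B : Mx p d, B = b.val - 1 := ⟨_, rfl⟩
  have hAA : A * A = 0 := by rw [hA]; exact (H.deg.mul H.deg).eq_zero (by omega)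
  have hBe : B = g.val * A * (↑(g⁻¹) : Mx p d) := by
    rw [hB, hA, hb, Units.val_mul, Units.val_mul, mul_sub, sub_mul, mul_one, Units.mul_inv]
  have hBB : B * B = 0 := by
    rw [hBe, show g.val * A * (↑(g⁻¹) : Mx p d) * (g.val * A * ↑(g⁻¹)) =
      g.val * A * ((↑(g⁻¹) : Mx p d) * g.val) * A * ↑(g⁻¹) by simp only [mul_assoc],
      Units.inv_mul, mul_one, mul_assoc g.val A A, hAA, mul_zero, zero_mul]
  obtain ⟨Z, hZ⟩ : ∃ Z : Mx p d, Z = A * B + B * A := ⟨_, rfl⟩
  have hBA : B * A = Z - A * B := by rw [hZ, add_sub_cancel_left]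
  have hBAB : B * (A * B) = Z * B := by
    rw [← mul_assoc, hBA, sub_mul, mul_assoc A B B, hBB, mul_zero, sub_zero]
  have hAZ : A * Z = Z * A := by
    rw [hZ, mul_add, add_mul, ← mul_assoc A A B, hAA, zero_mul, zero_add,
      mul_assoc B A A, hAA, mul_zero, add_zero, mul_assoc]
  have hBZ : B * Z = Z * B := by
    rw [hZ, mul_add, add_mul, ← mul_assoc B B A, hBB, zero_mul, add_zero,
      mul_assoc A B B, hBB, mul_zero, zero_add, mul_assoc]
  set D := Algebra.adjoin (ZMod p) ({Z} : Set (Mx p d))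
  have hcent : D ≤ Subalgebra.centralizer (ZMod p) ({A, B} : Set (Mx p d)) := by
    refine Algebra.adjoin_le fun z hz => ?_
    rw [Set.mem_singleton_iff] at hz
    subst hz
    rw [SetLike.mem_coe, Subalgebra.mem_centralizer_iff]
    rintro q (rfl | rfl)
    · exact hAZ
    · exact hBZ
  have hZD : Z ∈ D := Algebra.subset_adjoin rfl
  have hcA : ∀ c ∈ D, A * c = c * A := fun c hc =>
    (Subalgebra.mem_centralizer_iff (ZMod p)).1 (hcent hc) A (Set.mem_insert _ _)
  have hcB : ∀ c ∈ D, B * c = c * B := fun c hc =>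
    (Subalgebra.mem_centralizer_iff (ZMod p)).1 (hcent hc) B (Set.mem_insert_of_mem _ rfl)
  have hcZ : ∀ c ∈ D, Z * c = c * Z := fun c hc => by
    rw [hZ, add_mul, mul_add, mul_assoc A B c, hcB c hc, ← mul_assoc A c B, hcA c hc,
      mul_assoc B A c, hcA c hc, ← mul_assoc B c A, hcB c hc, mul_assoc c A B, mul_assoc c B A]
  let Q : GLd p d → Prop := fun l => ∃ a ∈ D, ∃ β ∈ D, ∃ γ ∈ D, ∃ δ ∈ D,
    l.val = (1 + Z * a) + β * A + γ * B + δ * (A * B) ∧
      (↑(l⁻¹) : Mx p d) = (1 + Z * a) - β * A - γ * B + δ * (B * A)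
  have hyinv : (↑(y⁻¹) : Mx p d) = 1 - A := Units.inv_eq_of_mul_eq_one_right (by
    rw [show y.val = 1 + A by rw [hA, add_sub_cancel], mul_sub, mul_one, add_mul, one_mul, hAA,
      add_zero, add_sub_cancel_right])
  have hbinv : (↑(b⁻¹) : Mx p d) = 1 - B := Units.inv_eq_of_mul_eq_one_right (by
    rw [show b.val = 1 + B by rw [hB, add_sub_cancel], mul_sub, mul_one, add_mul, one_mul, hBB,
      add_zero, add_sub_cancel_right])
  have hQ1 : Q 1 := ⟨0, D.zero_mem, 0, D.zero_mem, 0, D.zero_mem, 0, D.zero_mem, by simp, by simp⟩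
  have hQy : ∀ l, Q l → Q (y * l) := by
    rintro l ⟨a, ha, β, hβ, γ, hγ, δ, hδ, e1, e2⟩
    obtain ⟨α, hαdef⟩ : ∃ α : Mx p d, α = 1 + Z * a := ⟨_, rfl⟩
    rw [← hαdef] at e1 e2
    have hα : α ∈ D := hαdef ▸ D.add_mem D.one_mem (D.mul_mem hZD ha)
    refine ⟨a, ha, α + β, D.add_mem hα hβ, γ, hγ, γ + δ, D.add_mem hγ hδ, ?_, ?_⟩ <;>
      rw [← hαdef]
    · rw [Units.val_mul, show y.val = 1 + A by rw [hA, add_sub_cancel], e1, add_mul, one_mul,
        mul_add, mul_add, mul_add, hcA α hα, ← mul_assoc A β A, hcA β hβ, mul_assoc β A A, hAA,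
        mul_zero, ← mul_assoc A γ B, hcA γ hγ, mul_assoc γ A B, ← mul_assoc A δ (A * B),
        hcA δ hδ, mul_assoc δ A (A * B), ← mul_assoc A A B, hAA, zero_mul, mul_zero]
      simp only [add_mul]
      abel
    · rw [mul_inv_rev, Units.val_mul, e2, hyinv, mul_sub, mul_one, add_mul, sub_mul, sub_mul,
        mul_assoc β A A, hAA, mul_zero, mul_assoc δ (B * A) A, mul_assoc B A A, hAA, mul_zero,
        mul_zero, mul_assoc γ B A]
      simp only [add_mul]
      abel
  have hQb : ∀ l, Q l → Q (b * l) := by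
    rintro l ⟨a, ha, β, hβ, γ, hγ, δ, hδ, e1, e2⟩
    obtain ⟨α, hαdef⟩ : ∃ α : Mx p d, α = 1 + Z * a := ⟨_, rfl⟩
    rw [← hαdef] at e1 e2
    have hα : α ∈ D := hαdef ▸ D.add_mem D.one_mem (D.mul_mem hZD ha)
    refine ⟨a + β, D.add_mem ha hβ, β, hβ, γ + α + δ * Z, D.add_mem (D.add_mem hγ hα)
      (D.mul_mem hδ hZD), δ - β, D.sub_mem hδ hβ, ?_, ?_⟩ <;>
      rw [mul_add Z, hcZ β hβ, ← add_assoc, ← hαdef]
    · rw [Units.val_mul, show b.val = 1 + B by rw [hB, add_sub_cancel], e1, add_mul, one_mul,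
        mul_add, mul_add, mul_add, hcB α hα, ← mul_assoc B β A, hcB β hβ, mul_assoc β B A, hBA,
        ← mul_assoc B γ B, hcB γ hγ, mul_assoc γ B B, hBB, mul_zero, ← mul_assoc B δ (A * B),
        hcB δ hδ, mul_assoc δ B (A * B), hBAB]
      simp only [add_mul, sub_mul, mul_sub, mul_assoc]
      abel
    · rw [mul_inv_rev, Units.val_mul, e2, hbinv, mul_sub, mul_one, add_mul, sub_mul, sub_mul,
        mul_assoc γ B B, hBB, mul_zero, mul_assoc β A B, mul_assoc δ (B * A) B,
        mul_assoc B A B, hBAB]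
      rw [hBA]
      simp only [add_mul, sub_mul, mul_sub, mul_assoc]
      abel
  have hQall : ∀ l ∈ L, Q l := by
    have hpow : ∀ u : GLd p d, (∀ l, Q l → Q (u * l)) → ∀ (m : ℕ) l, Q l → Q (u ^ m * l) := by
      intro u hu m
      induction m with
      | zero => intro l hl; rwa [pow_zero, one_mul]
      | succ m ih => intro l hl; rw [pow_succ', mul_assoc]; exact hu _ (ih l hl)
    have hfin : ∀ u : GLd p d, (∀ l, Q l → Q (u * l)) → ∀ l, Q l → Q (u⁻¹ * l) := fun u hu l hl => by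
      rw [show u⁻¹ = u ^ (orderOf u - 1) from inv_eq_of_mul_eq_one_right (by
        rw [← pow_succ', Nat.sub_add_cancel (orderOf_pos u), pow_orderOf_eq_one])]
      exact hpow u hu _ l hl
    intro l hl
    induction hl using Subgroup.closure_induction_left with
    | one => exact hQ1
    | mul_left u hu l' _ ih =>
      rcases hu with rfl | rfl
      · exact hQy _ ih
      · exact hQb _ ih
    | inv_mul_cancel u hu l' _ ih =>
      rcases hu with rfl | rfl
      · exact hfin _ hQy _ ih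
      · exact hfin _ hQb _ ih
  -- an element of even order
  have h20 : (2 : ZMod p) ≠ 0 := fun h => hp2 (by
    have h' := (ZMod.natCast_eq_zero_iff 2 p).1 (by exact_mod_cast h)
    exact (Nat.prime_dvd_prime_iff_eq hp.out Nat.prime_two).1 h')
  obtain ⟨t, htL, ht2, ht1⟩ : ∃ t ∈ L, t * t = 1 ∧ t ≠ 1 := by
    let ρ : ↥L →* Mx p d := (Units.coeHom (Mx p d)).comp L.subtype
    have hρ : Function.Injective ρ := fun u v h => Subtype.ext (Units.ext h)
    have hgen : Subgroup.closure ({⟨y, Subgroup.subset_closure (Set.mem_insert _ _)⟩,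
        ⟨b, Subgroup.subset_closure (Set.mem_insert_of_mem _ rfl)⟩} : Set ↥L) = ⊤ := by
      apply Subgroup.map_injective L.subtype_injective
      rw [MonoidHom.map_closure, Set.image_pair, ← MonoidHom.range_eq_map, Subgroup.range_subtype]
      rfl
    obtain ⟨f₁, f₂, hind, hplane⟩ := Cfsg.Lib.QuadPair.exists_natural_plane hp2 ρ hρ hgen
      (show (y.val - 1) * (y.val - 1) = 0 by rw [← hA]; exact hAA)
      (show (b.val - 1) * (b.val - 1) = 0 by rw [← hB]; exact hBB) hL
    obtain ⟨u, hu, -⟩ := hplane ⟨-(1 : Matrix (Fin 2) (Fin 2) (ZMod p)), by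
      rw [Matrix.det_neg, Matrix.det_one]; norm_num⟩
    have hu' : (ρ u).mulVec f₁ = -f₁ := by
      rw [hu]
      simp
    have hiter : ∀ m : ℕ, (ρ (u ^ m)).mulVec f₁ = ((-1 : ZMod p) ^ m) • f₁ := by
      intro m
      induction m with
      | zero => rw [pow_zero, map_one, Matrix.one_mulVec, pow_zero, one_smul]
      | succ m ih =>
        rw [pow_succ, map_mul, ← Matrix.mulVec_mulVec, hu', Matrix.mulVec_neg, ih, pow_succ,
          mul_neg, mul_one, neg_smul]
    have hev : 2 ∣ orderOf u := by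
      by_contra hodd
      have h1 := hiter (orderOf u)
      rw [pow_orderOf_eq_one, map_one, Matrix.one_mulVec,
        Odd.neg_one_pow (Nat.odd_iff.2 (by omega)), neg_smul, one_smul] at h1
      have h2' : (2 : ZMod p) • f₁ + (0 : ZMod p) • f₂ = 0 := by
        rw [zero_smul, add_zero, two_smul]
        nth_rewrite 1 [h1]
        rw [neg_add_cancel]
      exact h20 (hind _ _ h2').1
    obtain ⟨m, hm⟩ := hev
    have hpos := orderOf_pos u
    refine ⟨(u ^ m : ↥L), (u ^ m).2, ?_, ?_⟩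
    · exact congrArg Subtype.val (show u ^ m * u ^ m = 1 by
        rw [← pow_add, ← two_mul, ← hm, pow_orderOf_eq_one])
    · intro h
      have h' : u ^ m = 1 := Subtype.ext h
      have := Nat.le_of_dvd (by omega) (orderOf_dvd_of_pow_eq_one h')
      omega
  obtain ⟨a, ha, β, -, γ, -, δ, hδ, e1, e2⟩ := hQall t htL
  rw [inv_eq_of_mul_eq_one_right ht2] at e2
  set c : Mx p d := a + (2 : ZMod p)⁻¹ • δ
  have hc : c ∈ D := D.add_mem ha (D.smul_mem hδ _)
  have htc : t.val - 1 = Z * c := by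
    have h : (2 : ZMod p) • t.val = (2 : ZMod p) • (1 + Z * c) := by
      rw [two_smul]
      nth_rewrite 2 [e2]
      rw [e1, smul_add, mul_add, smul_add, mul_smul_comm, smul_smul, mul_inv_cancel₀ h20, one_smul,
        two_smul, two_smul, hcZ δ hδ, hZ, mul_add δ]
      abel
    rw [smul_right_injective (Mx p d) h20 h, add_sub_cancel_left]
  refine ⟨t, mem_cGrp.2 ⟨hLG htL, Units.ext ?_⟩, ht2, ht1, fun i j hi hj => ?_⟩
  · have h1 := hcA _ (D.add_mem D.one_mem (D.mul_mem hZD hc))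
    rw [← htc, add_sub_cancel] at h1
    rw [Units.val_mul, Units.val_mul, show y.val = 1 + A by rw [hA, add_sub_cancel], mul_add,
      add_mul, mul_one, one_mul, h1]
  · have hce : Inv e c := inv_of_intertwine H.deg H.deg (fun _ hq => H.lead_ne hq)
      (show c * (y.val - 1) = (y.val - 1) * c by rw [← hA]; exact (hcA c hc).symm)
    rw [htc, hcZ c hc]
    refine ent_mul_eq_zero _ _ _ _ fun q hq => ?_
    rcases Nat.lt_or_ge q e with hqe | hqe
    · have hAd : Deg e A := hA ▸ H.deg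
      rw [hZ, ent_add (A * B) (B * A), ent_mul_eq_zero A B q j fun r _ => by rw [hAd q r (by omega), zero_mul],
        ent_mul_eq_zero B A q j fun r hr => by rw [hAd r j (by omega), mul_zero],
        add_zero, mul_zero]
    · rw [hce i q hi hqe, zero_mul]

/-- The middle layer has dimension at most one. -/
theorem false_of_big (hp2 : p ≠ 2) (h2 : d + 2 ≤ 2 * e)
    (hM : ∀ τ ∈ T, (∀ q, q + 2 < d → ent τ.val (q + 1) q = 0) ∨
      (∀ q, q + 2 < d → ent τ.val (q + 1) q ≠ 0)) : False := by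
  classical
  obtain ⟨t, htC, ht2, ht1, htm⟩ := H.exists_involution hp2 (by omega)
  set C := cGrp G y
  have hed := H.hed
  have hK : ∀ g ∈ C, Inv (d - e) g.val ∧ Inv (d - e + (2 * e - d)) g.val := fun g hg => by
    rw [show d - e + (2 * e - d) = e by omega]
    exact ⟨H.inv_de hg, H.inv_e hg⟩
  let φ := blkHom C (d - e) (2 * e - d) (by omega) hK
  let ψ := blkHom C 0 e (by omega) (fun g hg => ⟨inv_zero _, by rw [Nat.zero_add]; exact H.inv_e hg⟩)
  have hφv : ∀ g : ↥C, (φ g).val = blk (d - e) (2 * e - d) (g : GLd p d).val := fun _ => rfl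
  have hψv : ∀ g : ↥C, (ψ g).val = blk 0 e (g : GLd p d).val := fun _ => rfl
  have hkerblk : ∀ c ∈ φ.ker, blk (d - e) (2 * e - d) (c : GLd p d).val = 1 := fun c hc => by
    rw [← hφv c, (MonoidHom.mem_ker).1 hc, Units.val_one]
  have htK : (⟨t, htC⟩ : ↥C) ∈ φ.ker := by
    refine MonoidHom.mem_ker.2 (Units.ext ?_)
    rw [hφv, Units.val_one, ← sub_eq_zero,
      ← blk_one (p := p) (d := d) (show d - e + (2 * e - d) ≤ d by omega), ← blk_sub]
    refine ext_ent fun i j hi hj => ?_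
    rw [ent_blk _ _ _ hi hj, ent_zero, htm _ _ (by omega) (by omega)]
  -- a Sylow `2`-subgroup of the kernel
  haveI : Fact (Nat.Prime 2) := ⟨Nat.prime_two⟩
  obtain ⟨Q⟩ : Nonempty (Sylow 2 φ.ker) := inferInstance
  have h2K : 2 ∣ Nat.card φ.ker := by
    have ho : orderOf (⟨⟨t, htC⟩, htK⟩ : φ.ker) = 2 := orderOf_eq_prime
      (Subtype.ext (Subtype.ext (by rw [pow_two]; exact ht2)))
      (fun h => ht1 (congrArg (fun u : φ.ker => ((u : ↥C) : GLd p d)) h))
    exact (dvd_of_eq ho.symm).trans (orderOf_dvd_natCard _)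
  set Q' := (Q : Subgroup φ.ker).map φ.ker.subtype
  have hQ'1 : Q' ≠ ⊥ := fun h => (Sylow.ne_bot_of_dvd_card Q h2K)
    ((Subgroup.map_eq_bot_iff_of_injective _ φ.ker.subtype_injective).1 h)
  have hQ'K : Q' ≤ φ.ker := Subgroup.map_subtype_le _
  have hQ'2 : IsPGroup 2 Q' := Q.2.map _
  -- Frattini
  have hF := Sylow.normalizer_sup_eq_top Q
  obtain ⟨n, hn, κ, hκ, hnκ⟩ := Subgroup.mem_sup_of_normal_right.1
    (hF.ge (Subgroup.mem_top (⟨x, H.le_C H.x_mem⟩ : ↥C)))
  have hφn : φ n = φ ⟨x, H.le_C H.x_mem⟩ := by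
    rw [← hnκ, map_mul, (MonoidHom.mem_ker).1 hκ, mul_one]
  obtain ⟨a, m, hmp, hnord⟩ := Nat.exists_eq_pow_mul_and_not_dvd (orderOf_pos n).ne' p hp.out.ne_one
  obtain ⟨q, hq1, hq0⟩ := Nat.chineseRemainder
    ((hp.out.coprime_iff_not_dvd.2 hmp).pow_left (a + 1)) 1 0
  set n' := n ^ q with hn'def
  have hn'p : n' ^ p ^ a = 1 := by
    rw [hn'def, ← pow_mul]
    refine orderOf_dvd_iff_pow_eq_one.1 ?_
    rw [hnord, mul_comm]
    exact mul_dvd_mul (Nat.modEq_zero_iff_dvd.1 hq0) dvd_rfl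
  have hn'φ : φ n' = φ ⟨x, H.le_C H.x_mem⟩ := by
    have hxp : (φ ⟨x, H.le_C H.x_mem⟩) ^ p = 1 := by
      rw [← map_pow, show (⟨x, H.le_C H.x_mem⟩ : ↥C) ^ p = 1 from Subtype.ext H.x_pow_p, map_one]
    rw [hn'def, map_pow, hφn, ← Nat.mod_add_div q p, pow_add, pow_mul, hxp, one_pow, mul_one,
      show q % p = 1 by
        have : q ≡ 1 [MOD p] := Nat.ModEq.of_dvd (dvd_pow_self p (Nat.succ_ne_zero a)) hq1
        rw [this, Nat.mod_eq_of_lt hp.out.one_lt], pow_one]
  have hn'N : n' ∈ Subgroup.normalizer (Q' : Set ↥C) := pow_mem hn q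
  -- conjugate into `T`
  obtain ⟨c, hcC, hcT⟩ := H.exists_conj_mem n'.2 (k := a)
    (congrArg Subtype.val hn'p)
  set τ : ↥C := ⟨c, hcC⟩ * n' * ⟨c, hcC⟩⁻¹
  have hcτ : (τ : GLd p d) ∈ T := hcT
  have hτsingle : ∀ i, i + 1 < e → ent (τ : GLd p d).val (i + 1) i ≠ 0 := by
    rcases hM _ hcτ with h0 | h0
    swap
    · exact fun i hi => h0 i (by omega)
    exfalso
    have hdeg : Deg 2 ((φ τ).val - 1) := fun i j hij => by
      by_cases hi : i < (2 * e - d)
      swap
      · exact ent_of_row _ (le_of_not_gt hi)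
      by_cases hj : j < (2 * e - d)
      swap
      · exact ent_of_col _ (le_of_not_gt hj)
      rw [ent_sub, hφv, ent_blk _ _ _ hi hj, ent_one]
      have hu := H.uni _ hcτ
      rcases (show i < j ∨ i = j ∨ i = j + 1 by omega) with h | h | h
      · rw [hu.deg_zero _ _ (show d - e + i < d - e + j + 0 by omega), if_neg (by omega), sub_zero]
      · subst h
        rw [hu.diag (show d - e + i < d by omega), if_pos ⟨rfl, hi⟩, sub_self]
      · subst h
        rw [if_neg (by omega), sub_zero, show d - e + (j + 1) = d - e + j + 1 by omega]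
        exact h0 _ (by omega)
    have hz : ((φ τ).val - 1) ^ ((2 * e - d) - 1) = 0 := (hdeg.pow ((2 * e - d) - 1)).eq_zero (by omega)
    have hconj : (φ τ).val - 1 = (φ ⟨c, hcC⟩).val * sh p (2 * e - d) 1 * (↑((φ ⟨c, hcC⟩)⁻¹) : Mx p (2 * e - d)) := by
      rw [map_mul, map_mul, map_inv, hn'φ, Units.val_mul, Units.val_mul, hφv ⟨x, _⟩,
        H.x_eq]
      rw [show blk (d - e) (2 * e - d) (1 + sh p d 1) = 1 + sh p (2 * e - d) 1 from ext_ent fun i j hi hj => by
        rw [ent_blk _ _ _ hi hj, ent_add, ent_add, ← blk_sh (p := p) (d := d)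
          (show d - e + (2 * e - d) ≤ d by omega), ← blk_one (p := p) (d := d)
          (show d - e + (2 * e - d) ≤ d by omega), ent_blk _ _ _ hi hj, ent_blk _ _ _ hi hj]]
      rw [mul_add, mul_one, add_mul, Units.mul_inv, add_sub_cancel_left]
    have hpow : ∀ k : ℕ, ((φ τ).val - 1) ^ k =
        (φ ⟨c, hcC⟩).val * sh p (2 * e - d) k * (↑((φ ⟨c, hcC⟩)⁻¹) : Mx p (2 * e - d)) := by
      intro k
      induction k with
      | zero => rw [pow_zero, sh_zero, mul_one, Units.mul_inv]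
      | succ k ih =>
        rw [pow_succ, ih, hconj, ← sh_mul]
        simp only [mul_assoc, Units.inv_mul_cancel_left]
    rw [hpow] at hz
    have hsh : sh p (2 * e - d) ((2 * e - d) - 1) = 0 := by
      have := congrArg (fun M => (↑((φ ⟨c, hcC⟩)⁻¹) : Mx p (2 * e - d)) * M * (φ ⟨c, hcC⟩).val) hz
      simpa [mul_assoc] using this
    have := congrArg (fun M => ent M ((2 * e - d) - 1) 0) hsh
    simp only [ent_sh, ent_zero] at this
    rw [if_pos ⟨by omega, by omega⟩] at this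
    exact one_ne_zero this
  have hψτ : Single ((ψ τ).val - 1) := by
    have hdg : Deg 1 ((ψ τ).val - 1) := by
      rw [hψv, ← blk_one (p := p) (d := d) (show 0 + e ≤ d by omega), ← blk_sub]
      exact (H.uni _ hcτ).blk
    refine ⟨hdg, fun i hi => ?_⟩
    rw [hψv, ent_sub, ent_blk _ _ _ hi (by omega), ent_one, if_neg (by omega), sub_zero,
      Nat.zero_add, Nat.zero_add]
    exact hτsingle i hi
  -- the average
  haveI := Fintype.ofFinite Q'
  set c2 : ZMod p := ((Fintype.card Q' : ℕ) : ZMod p)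
  have hc2 : c2 ≠ 0 := fun h => by
    obtain ⟨k, hk⟩ := IsPGroup.iff_card.1 hQ'2
    rw [Nat.card_eq_fintype_card] at hk
    have := (ZMod.natCast_eq_zero_iff _ _).1 h
    rw [hk] at this
    exact hp2 ((Nat.prime_dvd_prime_iff_eq hp.out Nat.prime_two).1 (hp.out.dvd_of_dvd_pow this))
  set P : Mx p e := c2⁻¹ • ∑ u : Q', (ψ (u : ↥C)).val with hPdef
  have hleft : ∀ u : Q', (ψ (u : ↥C)).val * P = P := fun u => by
    rw [hPdef, Matrix.mul_smul, Finset.mul_sum]
    congr 1
    exact Fintype.sum_equiv (Equiv.mulLeft u) _ _ fun v => by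
      rw [Equiv.coe_mulLeft, Subgroup.coe_mul, map_mul, Units.val_mul]
  have hidem : P * P = P := by
    nth_rewrite 1 [hPdef]
    rw [Matrix.smul_mul, Finset.sum_mul, Finset.sum_congr rfl fun u _ => hleft u, Finset.sum_const,
      Finset.card_univ, ← Nat.cast_smul_eq_nsmul (ZMod p), smul_smul, inv_mul_cancel₀ hc2, one_smul]
  have hcomm : (ψ n').val * P = P * (ψ n').val := by
    rw [hPdef, Matrix.mul_smul, Matrix.smul_mul, Finset.mul_sum, Finset.sum_mul]
    congr 1
    have hmem : ∀ u : Q', n' * (u : ↥C) * n'⁻¹ ∈ Q' := fun u =>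
      (Subgroup.mem_normalizer_iff.1 hn'N _).1 u.2
    refine Fintype.sum_bijective (fun u : Q' => (⟨_, hmem u⟩ : Q')) ?_ _ _ fun u => ?_
    · refine Finite.injective_iff_bijective.1 fun u v h => Subtype.ext ?_
      exact mul_left_cancel (mul_right_cancel (congrArg Subtype.val h))
    · rw [← Units.val_mul, ← Units.val_mul, ← map_mul, ← map_mul, inv_mul_cancel_right]
  have hP1 : P = 1 := by
    set ζ := ψ ⟨c, hcC⟩
    have hc' : Commute ((ψ τ).val - 1) (ζ.val * P * (↑(ζ⁻¹) : Mx p e)) := by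
      refine Commute.sub_left ?_ (Commute.one_left _)
      rw [map_mul, map_mul, map_inv]
      show (ζ * ψ n' * ζ⁻¹).val * (ζ.val * P * (↑(ζ⁻¹) : Mx p e)) =
        ζ.val * P * (↑(ζ⁻¹) : Mx p e) * (ζ * ψ n' * ζ⁻¹).val
      simp only [Units.val_mul, mul_assoc, Units.inv_mul_cancel_left]
      rw [← mul_assoc (ψ n').val P, hcomm, mul_assoc]
    have hid : ζ.val * P * (↑(ζ⁻¹) : Mx p e) * (ζ.val * P * (↑(ζ⁻¹) : Mx p e)) =
        ζ.val * P * (↑(ζ⁻¹) : Mx p e) := by
      rw [show ζ.val * P * (↑(ζ⁻¹) : Mx p e) * (ζ.val * P * (↑(ζ⁻¹) : Mx p e)) =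
        ζ.val * (P * ((↑(ζ⁻¹) : Mx p e) * ζ.val) * P) * ↑(ζ⁻¹) by simp only [mul_assoc],
        Units.inv_mul, mul_one, hidem]
    have hback : (↑(ζ⁻¹) : Mx p e) * (ζ.val * P * (↑(ζ⁻¹) : Mx p e)) * ζ.val = P := by
      simp [mul_assoc]
    rcases idempotent_commute hψτ hc' hid with h | h
    · exfalso
      rw [h, mul_zero, zero_mul] at hback
      have h1 : ∀ u : Q', ent (ψ (u : ↥C)).val (d - e) (d - e) = 1 := fun u => by
        rw [hψv, ent_blk _ _ _ (by omega) (by omega), Nat.zero_add]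
        have h2' := congrArg (fun M => ent M 0 0) (hkerblk _ (hQ'K u.2))
        simp only [ent_one, ent_blk (p := p) (d := d) _ _ _ (show 0 < 2 * e - d by omega)
          (show 0 < 2 * e - d by omega)] at h2'
        rwa [if_pos ⟨trivial, by omega⟩, Nat.add_zero] at h2'
      have h3 := congrArg (fun M => ent M (d - e) (d - e)) hback
      simp only [ent_zero, hPdef, ent_smul, ent_sum, Finset.sum_congr rfl fun u _ => h1 u,
        Finset.sum_const, Finset.card_univ, nsmul_eq_mul, mul_one] at h3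
      exact one_ne_zero ((inv_mul_cancel₀ hc2).symm.trans h3.symm)
    · rw [h, mul_one, Units.inv_mul] at hback
      exact hback.symm
  -- the Sylow `2`-subgroup is trivial
  refine hQ'1 ((Subgroup.eq_bot_iff_forall _).2 fun u hu => ?_)
  have hψu : (ψ u).val = 1 := by have := hleft ⟨u, hu⟩; rwa [hP1, mul_one] at this
  set M : Mx p d := (u : GLd p d).val - 1
  have hrow : ∀ i j, i < e → ent M i j = 0 := fun i j hi => by
    rcases Nat.lt_or_ge j e with hj | hj
    · rw [ent_sub, show ent (u : GLd p d).val i j = ent (blk 0 e (u : GLd p d).val) i j by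
        rw [ent_blk _ _ _ hi hj, Nat.zero_add, Nat.zero_add],
        ← hψv, hψu, ent_one, ent_one]
      by_cases hij : i = j
      · rw [if_pos ⟨hij, hi⟩, if_pos ⟨hij, by omega⟩, sub_self]
      · rw [if_neg fun h => hij h.1, if_neg fun h => hij h.1, sub_self]
    · rw [ent_sub, H.inv_e u.2 i j hi hj, ent_one, if_neg (by omega), sub_zero]
  have hYM : (y.val - 1) * M = 0 := ext_ent fun i j _ _ => by
    rw [ent_zero]
    refine ent_mul_eq_zero _ _ _ _ fun q hq => ?_
    rcases Nat.lt_or_ge q e with hqe | hqe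
    · rw [hrow q j hqe, mul_zero]
    · rw [H.deg i q (by omega), zero_mul]
  have hMY : M * (y.val - 1) = 0 := by
    rw [← hYM, sub_mul, mul_sub (y.val - 1), commute_sub_one (mem_cGrp.1 u.2).2, one_mul, mul_one]
  have hMM : M ^ 2 = 0 := ext_ent fun i j _ _ => by
    rw [ent_zero, pow_two]
    refine ent_mul_eq_zero _ _ _ _ fun q _ => ?_
    rcases Nat.lt_or_ge q e with hqe | hqe
    · rw [hrow q j hqe, mul_zero]
    · rw [right_cancel (b₀ := 0) H.deg (fun _ _ hq => H.lead_ne hq)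
        (fun b _ => by rw [hMY, ent_zero]) q (by omega), zero_mul]
  have hpo : (u : GLd p d) ^ p ^ 2 = 1 := pow_eq_one_of_nilpotent hMM
  obtain ⟨k, hk⟩ := hQ'2 ⟨u, hu⟩
  have hk' : (u : GLd p d) ^ 2 ^ k = 1 :=
    congrArg (fun v : Q' => ((v : ↥C) : GLd p d)) hk
  have hco : Nat.Coprime (p ^ 2) (2 ^ k) :=
    Nat.Coprime.pow _ _ ((Nat.coprime_primes hp.out Nat.prime_two).2 hp2)
  refine Subtype.ext ?_
  have := pow_gcd_eq_one.2 ⟨hpo, hk'⟩
  rwa [hco.gcd_eq_one, pow_one] at this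

end Central

end Cfsg.Lib.Fusion.MaxClassNormal
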