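import Cfsg.Agent.Fusion.MaxClassNormal.Site
import Cfsg.Agent.Fusion.MaxClassNormal.Blocks
import Cfsg.Agent.Fusion.MaxClassNormal.ModelFalse
import Cfsg.Agent.Fusion.MaxClassSmallEssential
import Cfsg.Agent.PGroups.MaxClass

/-!
An essential subgroup is no term of index at least `p ^ 2` of the lower central series: some block of the
Frattini quotient would be a model.
-/

set_option autoImplicit false
set_option linter.unusedSectionVars false
set_option linter.style.haveILetI false
set_option maxHeartbeats 1000000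

namespace Cfsg.Lib.Fusion.MaxClassNormal

open Cfsg Cfsg.FusionSystem Cfsg.Lib.Fusion
open Cfsg.Lib.PGroups MaxClassRank MaxClassThree MaxClassAgemo MaxClassDegree MaxClassOutside
open scoped commutatorElement

universe u

variable {p n k d : ℕ} [hp : Fact p.Prime] {Ω : Type u} [Group Ω] {S : Subgroup Ω} [Finite S]
  [Group.IsNilpotent S]

/-- A normal subgroup strictly above the term `k` contains the term `k - 1`. -/
theorem le_of_normal_above (B : Base p n S) (hk : 2 ≤ k) (hkn : k ≤ n - 1) {N : Subgroup S} [N.Normal]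
    (hle : L S k ≤ N) (hne : N ≠ L S k) : L S (k - 1) ≤ N := by
  obtain ⟨r, hr⟩ := B.isP.index N
  have hlt : r < k + 1 := by
    have h := Subgroup.relIndex_mul_index hle
    rw [B.L_index (by omega) hkn, hr] at h
    obtain ⟨s, -, hs⟩ := (Nat.dvd_prime_pow hp.out).1 (Dvd.intro _ h)
    rw [hs, ← pow_add] at h
    have := Nat.pow_right_injective hp.out.two_le h
    have hs0 : s ≠ 0 := fun e => hne (le_antisymm (Subgroup.relIndex_eq_one.1 (by rw [hs, e, pow_zero])) hle)
    omega
  rcases Nat.lt_or_ge r 2 with h2 | h2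
  · refine le_trans (L_le (show 1 ≤ k - 1 by omega)) ?_
    rcases (show r = 0 ∨ r = 1 by omega) with rfl | rfl
    · rw [Subgroup.index_eq_one.1 (show N.index = 1 by rw [hr, pow_zero])]
      exact le_top
    · haveI : IsCyclic (S ⧸ N) := isCyclic_of_prime_card (p := p) (by rw [← N.index_eq_card, hr, pow_one])
      rw [show L S 1 = ⁅L S 0, ⊤⁆ from Subgroup.lowerCentralSeries_succ _ 0, Subgroup.commutator_le]
      intro g _ h _
      rw [← QuotientGroup.eq_one_iff]
      show QuotientGroup.mk' N ⁅g, h⁆ = 1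
      rw [map_commutatorElement, commutatorElement_eq_one_iff_mul_comm]
      exact IsCyclic.commGroup.mul_comm _ _
  · rw [Cfsg.Lib.MaxClass.normal_eq_lcs n S B.card (by have := B.three; omega) B.cls N r h2 hr]
    exact L_le (by omega)

namespace Site

variable {F : FusionSystem S} {E : Subgroup Ω} {x : S} (H : Site F p n k d E x)
include H

/-- The elementary abelian subgroup of order `p ^ 3`. -/
theorem false_of_small (hp5 : 5 ≤ p) (hd : d = 3) (hn : k + 4 = n) : False := by
  haveI := finite_of_le H.le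
  have hk := H.k1
  have hbot : frattini E = ⊥ := by
    rw [← Subgroup.map_eq_bot_iff_of_injective _ (Subgroup.inclusion_injective H.le), H.frat]
    exact H.data.toBase.L_eq_bot (by omega)
  have hcard : Nat.card E = p ^ 3 := by
    rw [← MaxClassSmall.card_subgroupOf H.le, H.eq_L, H.data.toBase.L_card hk (by omega),
      show n - 1 - k = 3 by omega]
  refine MaxClassSmall.false_of_essential H.isP H.sat hp5 H.data.toBase (by omega) H.ess hcard ?_ ?_
  · intro a ha b hb
    have h : ⁅(⟨a, ha⟩ : E), ⟨b, hb⟩⁆ ∈ frattini E := Cfsg.Lib.PGroups.commutator_le_frattini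
      (H.isP.to_le H.le) (Subgroup.commutator_mem_commutator (Subgroup.mem_top _) (Subgroup.mem_top _))
    rw [hbot, Subgroup.mem_bot, commutatorElement_eq_one_iff_mul_comm] at h
    exact congrArg Subtype.val h
  · intro a ha
    have h : (⟨a, ha⟩ : E) ^ p ∈ frattini E :=
      Cfsg.Lib.PGroups.pow_mem_frattini (H.isP.to_le H.le) _
    rw [hbot, Subgroup.mem_bot] at h
    exact congrArg Subtype.val h

/-- No such site. -/
theorem false_of (hp5 : 5 ≤ p) : False := by
  classical
  obtain ⟨a₀, P, A⟩ := H.exists_adapted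
  have hkn := H.hkn
  have hk1 := H.k1
  have hdn := H.hdn
  have B₀ := H.data.toBase
  have hxM : x ∉ stepCent S 1 := x_not_stepCent H.data le_rfl (by omega)
  -- the element generating the first two-step centralizer
  have hrel1 : (L S 1).relIndex (stepCent S 1) = p := by
    have h := Subgroup.relIndex_mul_index (derived_le_stepCent (X := S) 1)
    rw [index_stepCent B₀ le_rfl (by omega), B₀.L_index le_rfl (by omega), pow_succ, pow_one] at h
    exact Nat.eq_of_mul_eq_mul_right hp.out.pos h
  obtain ⟨e₀, he, he'⟩ := SetLike.not_le_iff_exists.1 fun hle : stepCent S 1 ≤ L S 1 =>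
    hp.out.ne_one (hrel1.symm.trans (Subgroup.relIndex_eq_one.2 hle))
  set c := chain x e₀ (k - 1) with hc
  have hcM : c ∈ stepCent S 1 := by
    rcases Nat.eq_zero_or_pos (k - 1) with h | h
    · rw [hc, h]; exact he
    · exact derived_le_stepCent 1 (L_le h (chain_mem x e₀ (k - 1)))
  have hck : c ∉ L S k := by
    have h := chain_not_mem H.data (by omega) hxM he he' (k - 1) (by omega)
    rwa [show k - 1 + 1 = k by omega] at h
  set ω := P.rho.comp H.theta with hω
  set G := (F.autGroup E).map P.rho with hGdef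
  have hker : ω.ker = L S k := H.ker_eq A
  have hwx : (ω x).val = 1 + sh p d 1 := H.x_eq A
  have hwu : ∀ τ ∈ ω.range, Uni τ.val := by
    rintro _ ⟨t, rfl⟩
    exact H.uni A t
  have hTG : ω.range ≤ G := by
    rintro _ ⟨t, rfl⟩
    exact ⟨_, autInducedBy_le H.le (H.range_theta ▸ ⟨t, rfl⟩), rfl⟩
  have hcomm : ∀ t, ω t * ω c = ω c * ω t := fun t => by
    refine (Commute.symm ?_).eq
    rw [← commutatorElement_eq_one_iff_commute, ← map_commutatorElement, ← MonoidHom.mem_ker, hker]
    exact L_le (by omega) (comm_mem_succ (chain_mem x e₀ (k - 1)) t)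
  have hidx : (L S k).index = p ^ (k + 1) := B₀.L_index hk1 (by omega)
  have hd3 : 3 ≤ d := by
    by_contra hlt
    have h := card_le_uni_two (T := ω.range) (by omega) hwu
    rw [← Subgroup.index_ker, hker, hidx] at h
    exact absurd h (not_le.2 (lt_of_lt_of_le (by
      have := hp.out.two_le; nlinarith) (Nat.pow_le_pow_right hp.out.pos (show 2 ≤ k + 1 by omega))))
  have hsh : Commute (ω c).val (sh p d 1) := by
    have h := congrArg Units.val (hcomm x)
    simp only [Units.val_mul, hwx, add_mul, mul_add, one_mul, mul_one] at h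
    exact (add_left_cancel h).symm
  have hsteps : ∀ j, 1 ≤ j → j + 4 ≤ n → stepCent S j = stepCent S 1 := fun j h1 h2 =>
    stepCent_eq n S B₀ j h1 h2
  have hc10 : ent (ω c).val 1 0 = 0 := by
    refine (H.subdiag_eq_zero A c (q := 0) (by omega)).2 ?_
    rw [hsteps _ (by omega) (by omega)]
    exact hcM
  have hc1 : ω c ≠ 1 := fun h => hck (by rw [← hker]; exact h)
  obtain ⟨a, d', B, hne⟩ := exists_block (G := G)
    (fun N h1 h2 h3 => H.normal_trivial h1 h2 h3) (hTG ⟨c, rfl⟩) hc1
  have had := B.le
  have hd2 : 2 ≤ d' := by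
    by_contra hlt
    refine hne (ext_ent fun i j hi hj => ?_)
    obtain rfl : i = 0 := by omega
    obtain rfl : j = 0 := by omega
    rw [ent_blk _ _ _ hi hj, ent_one, if_pos ⟨rfl, hi⟩,
      (hwu _ ⟨c, rfl⟩).diag (by omega)]
  let φ := blkHom G a d' had (fun g hg => ⟨B.left g hg, B.right g hg⟩)
  have HS := setting_block had (H.d_le A) hd2 hTG ⟨x, rfl⟩ hwx hwu (H.syl) B.left B.right B.none
  let ω' : S →* GLd p d' := φ.comp (ω.codRestrict G fun t => hTG ⟨t, rfl⟩)
  have hv : ∀ t, (ω' t).val = blk a d' (ω t).val := fun _ => rfl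
  have hrange : (ω.range.subgroupOf G).map φ = ω'.range := by
    ext g
    constructor
    · rintro ⟨⟨_, hu⟩, ⟨t, rfl⟩, rfl⟩
      exact ⟨t, rfl⟩
    · rintro ⟨t, rfl⟩
      exact ⟨⟨ω t, hTG ⟨t, rfl⟩⟩, ⟨t, rfl⟩, rfl⟩
  change Setting φ.range ((ω.range.subgroupOf G).map φ) (ω' x) at HS
  rw [hrange] at HS
  have hcc : ∀ τ ∈ ω'.range, τ * ω' c = ω' c * τ := by
    rintro _ ⟨t, rfl⟩
    refine Units.ext ?_
    rw [Units.val_mul, Units.val_mul, hv, hv, ← blk_mul (B.left _ (hTG ⟨c, rfl⟩)) (B.right _ (hTG ⟨t, rfl⟩)),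
      ← blk_mul (B.left _ (hTG ⟨t, rfl⟩)) (B.right _ (hTG ⟨c, rfl⟩)), ← Units.val_mul, hcomm t, Units.val_mul]
  have hc'10 : ent (ω' c).val 1 0 = 0 := by
    rw [hv, ent_blk _ _ _ (by omega) (by omega)]
    show ent (ω c).val (a + 1) a = 0
    rw [ent_of_commute hsh a (by omega)]
    exact hc10
  have hc'1 : ω' c ≠ 1 := fun h => hne (by rw [← hv, h, Units.val_one])
  obtain ⟨e, C⟩ := exists_central_of HS ⟨c, rfl⟩ hcc hc'1 hc'10
  have he2 := C.he
  have hed := C.hed
  have hbase : ∀ g : S, g ∈ L S k → ω' g = 1 := fun g hg => by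
    have : ω g = 1 := by rw [← hker] at hg; exact hg
    exact Units.ext (by rw [hv, this, Units.val_one, Units.val_one, blk_one had])
  rcases (show k = 1 ∨ 2 ≤ k by omega) with rfl | hk2
  · -- the abelian case
    refine C.false_of_abelian hp5 ?_
    rintro _ ⟨g, rfl⟩
    haveI := stepCent_normal (X := S) 1
    obtain ⟨i, hi⟩ := exists_pow_of_step (p := p) le_top (show (stepCent S 1).relIndex ⊤ = p by
      rw [Subgroup.relIndex_top_right, index_stepCent B₀ le_rfl (by omega)]) (Subgroup.mem_top x) hxM
      (Subgroup.mem_top g)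
    obtain ⟨j, hj⟩ := exists_pow_of_step (p := p) (derived_le_stepCent 1) hrel1 he he' hi
    refine ⟨i, j, ?_⟩
    have h := hbase _ hj
    rw [map_mul, map_mul, map_inv, map_inv, map_pow, map_pow, inv_mul_eq_iff_eq_mul, mul_one,
      inv_mul_eq_iff_eq_mul] at h
    exact h
  -- the block is a model
  have hker' : ω'.ker = L S k := by
    by_contra hne'
    exact hc'1 (MonoidHom.mem_ker.1 (le_of_normal_above B₀ hk2 (by omega) hbase hne'
      (chain_mem x e₀ (k - 1))))
  have hsub : ∀ g : S, ∀ q, q + 1 < d' →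
      (ent (ω' g).val (q + 1) q = 0 ↔ g ∈ stepCent S (k + (a + q))) := by
    intro g q hq
    rw [hv, ent_blk _ _ _ hq (by omega)]
    exact H.subdiag_eq_zero A g (q := a + q) (by omega)
  have M : Model p d' n k φ.range ω' x e₀ :=
    { data := H.data
      hk := hk2
      hkn := by omega
      d3 := by omega
      e_mem := he
      e_not := he'
      hker := hker'
      setting := HS
      stepM := fun g hg q hq => (hsub g q (by omega)).2 (by rwa [hsteps _ (by omega) (by omega)])
      stepN := fun g hg q hq h => hg (by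
        have := (hsub g q (by omega)).1 h
        rwa [hsteps _ (by omega) (by omega)] at this) }
  rcases ne_or_eq d' 3 with h3 | rfl
  · exact M.false_of hp5 h3
  -- three dimensional blocks
  have hu' : ∀ τ ∈ ω'.range, Uni τ.val := HS.uni
  obtain rfl : k = 2 := by
    have h := card_le_uni_three (T := ω'.range) le_rfl hu'
    rw [← Subgroup.index_ker, hker', hidx] at h
    have := (Nat.pow_le_pow_iff_right hp.out.one_lt).1 h
    omega
  obtain ⟨g, hg, hg1⟩ : ∃ g ∈ stepCent S 1, ent (ω' g).val 2 1 ≠ 0 := by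
    by_contra hall
    push Not at hall
    have h := card_le_uni_corner (T := (stepCent S 1).map ω') le_rfl
      (by rintro _ ⟨g, -, rfl⟩; exact hu' _ ⟨g, rfl⟩) (by
        rintro _ ⟨g, hg, rfl⟩ q hq
        rcases (show q = 0 ∨ q = 1 by omega) with rfl | rfl
        · exact M.stepM g hg 0 (by omega)
        · exact hall g hg)
    rw [← Subgroup.relIndex_ker, hker'] at h
    have h' := Subgroup.relIndex_mul_index
      ((L_le (show 1 ≤ 2 by omega)).trans (derived_le_stepCent (X := S) 1))
    rw [index_stepCent B₀ le_rfl (by omega), hidx] at h'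
    have := Nat.mul_le_mul_right p h
    rw [h', ← pow_two] at this
    exact absurd ((Nat.pow_le_pow_iff_right hp.out.one_lt).1 this) (by norm_num)
  have htop : n < 2 + (a + 1) + 4 := by
    by_contra hle
    refine hg1 ((hsub g 1 (by omega)).2 ?_)
    rw [hsteps _ (by omega) (by omega)]
    exact hg
  rcases Nat.eq_zero_or_pos a with ha0 | hapos
  · exact H.false_of_small hp5 (by omega) (by omega)
  have hlead := C.lead
  rw [show e = 2 by omega, ent_sub, ent_one, if_neg (by omega), sub_zero, hv,
    ent_blk _ _ _ (by omega) (by omega)] at hlead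
  refine hlead ?_
  show ent (ω c).val (a + 2) a = 0
  rw [ent_of_commute hsh a (by omega)]
  show ent (P.rho (H.theta c)).val 2 0 = 0
  rw [H.ent_eq A c (show 2 < d by omega) (show 0 < d by omega), if_neg (by omega), add_zero]
  refine H.coord_deep A (j := 3) (by omega) ?_ _ (by show (2 : ℕ) < 3; omega)
  rw [H.inclusion_disp A]
  exact lcs_comm_deep B₀ hxM (show 3 + 4 ≤ n by omega)
    (fun j h1 h2 => (hsteps j h1 (by omega)).ge) 1 2 le_rfl (by omega) (by omega)
    (Subgroup.commutator_mem_commutator (chain_mem x e₀ (2 - 1)) A.mem)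

end Site

end Cfsg.Lib.Fusion.MaxClassNormal
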