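import Cfsg.Agent.Fusion.MaxClassNormal.Diff

/-!
Groups of matrices over the prime field with an irreducible action and a Sylow subgroup of lower
unitriangular matrices containing a single Jordan block.
-/

set_option autoImplicit false
set_option linter.unusedSectionVars false
set_option linter.style.haveILetI false

namespace Cfsg.Lib.Fusion.MaxClassNormal

open Finset

/-- The general linear group as the units of the matrices. -/
abbrev GLd (p d : ℕ) := (Mx p d)ˣ

variable {p d : ℕ} [hp : Fact p.Prime]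

theorem prop_inv {P : Mx p d → Prop} (h1 : P 1) (hm : ∀ A B, P A → P B → P (A * B)) {g : GLd p d}
    (hg : P g.val) : P ↑(g⁻¹) := by
  have hpow : ∀ m : ℕ, P ↑(g ^ m) := fun m => by
    induction m with
    | zero => rw [pow_zero]; exact h1
    | succ m ih => rw [pow_succ, Units.val_mul]; exact hm _ _ ih hg
  rw [show g⁻¹ = g ^ (orderOf g - 1) from inv_eq_of_mul_eq_one_right (by
    rw [← pow_succ', Nat.sub_add_cancel (orderOf_pos g), pow_orderOf_eq_one])]
  exact hpow _

theorem deg_zero_inv {g : GLd p d} (hg : Deg 0 g.val) : Deg 0 (↑(g⁻¹) : Mx p d) :=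
  prop_inv (P := Deg 0) Deg.one (fun _ _ a b => a.mul b) hg

theorem inv_inv_block {t : ℕ} {g : GLd p d} (hg : Inv t g.val) : Inv t (↑(g⁻¹) : Mx p d) :=
  prop_inv (P := Inv t) (Inv.one t) (fun _ _ a b => a.mul b) hg

theorem diag_ne_zero {g : GLd p d} (hg : Deg 0 g.val) {j : ℕ} (hj : j < d) :
    ent g.val j j ≠ 0 := fun h => by
  have e : ent (g.val * (↑(g⁻¹) : Mx p d)) j j = ent (1 : Mx p d) j j := by rw [Units.mul_inv]
  rw [ent_mul_lead hg (deg_zero_inv hg) j j (by omega), Nat.add_zero, h, zero_mul, ent_one,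
    if_pos ⟨rfl, hj⟩] at e
  exact one_ne_zero e.symm

/-- The lower unitriangular matrices. -/
def uniSub (p d : ℕ) [Fact p.Prime] : Subgroup (GLd p d) where
  carrier := {g | Uni g.val}
  one_mem' := by show Uni ((1 : GLd p d) : Mx p d); rw [Units.val_one]; exact Uni.one
  mul_mem' {a b} ha hb := by show Uni (↑(a * b) : Mx p d); rw [Units.val_mul]; exact ha.mul hb
  inv_mem' {a} ha := prop_inv (P := Uni) Uni.one (fun _ _ x y => x.mul y) ha

/-- Nilpotent off the identity: of `p`-power order. -/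
theorem pow_eq_one_of_nilpotent {g : GLd p d} {m : ℕ} (h : (g.val - 1) ^ m = 0) :
    g ^ p ^ m = 1 := by
  rcases Nat.eq_zero_or_pos d with rfl | hd
  · exact Units.ext (ext_ent fun i j hi => absurd hi (Nat.not_lt_zero i))
  haveI : Nonempty (Fin d) := ⟨⟨0, hd⟩⟩
  refine Units.ext ?_
  rw [Units.val_pow_eq_pow_val, Units.val_one]
  have e := sub_pow_char_pow_of_commute (p := p) m (Commute.one_right g.val)
  rw [one_pow, pow_eq_zero_of_le (Nat.lt_pow_self hp.out.one_lt).le h] at e
  exact sub_eq_zero.1 e.symm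

/-- A group of matrices with a Sylow subgroup of lower unitriangular matrices, irreducible. -/
structure Setting (G T : Subgroup (GLd p d)) (x : GLd p d) : Prop where
  two : 2 ≤ d
  le : d ≤ p
  x_mem : x ∈ T
  x_eq : x.val = 1 + sh p d 1
  le_G : T ≤ G
  uni : ∀ τ ∈ T, Uni τ.val
  syl : ¬ p ∣ T.relIndex G
  irr : ∀ t, 0 < t → t < d → ∃ g ∈ G, ¬ Inv t g.val

namespace Setting

variable {G T : Subgroup (GLd p d)} {x : GLd p d} (H : Setting G T x)
include H

theorem pow_p {τ : GLd p d} (hτ : τ ∈ T) : τ ^ p = 1 :=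
  Units.ext (by rw [Units.val_pow_eq_pow_val, Units.val_one]; exact (H.uni τ hτ).pow_prime H.le)

theorem isPGroup : IsPGroup p T := fun τ => ⟨1, Subtype.ext (by rw [pow_one]; exact H.pow_p τ.2)⟩

theorem x_pow_p : x ^ p = 1 := H.pow_p H.x_mem

theorem sub_one : x.val - 1 = sh p d 1 := by rw [H.x_eq, add_sub_cancel_left]

theorem single_x : Single (x.val - 1) := by rw [H.sub_one]; exact single_sh

theorem x_memG : x ∈ G := H.le_G H.x_mem

/-- A `p`-subgroup containing `T` is `T`. -/
theorem le_of_pgroup {U : Subgroup (GLd p d)} (hU : IsPGroup p U) (hTU : T ≤ U) (hUG : U ≤ G) :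
    U ≤ T := by
  refine Subgroup.relIndex_eq_one.1 ?_
  obtain ⟨k, hk⟩ := hU.index (T.subgroupOf U)
  rcases Nat.eq_zero_or_pos k with rfl | hk0
  · rw [Subgroup.relIndex, hk, pow_zero]
  · exfalso
    refine H.syl ?_
    rw [← Subgroup.relIndex_mul_relIndex T U G hTU hUG]
    refine dvd_mul_of_dvd_left ?_ _
    rw [Subgroup.relIndex, hk]
    exact dvd_pow_self p hk0.ne'

theorem mem_iff {g : GLd p d} (hg : g ∈ G) : g ∈ T ↔ Uni g.val := by
  refine ⟨H.uni g, fun h => ?_⟩
  refine H.le_of_pgroup (U := G ⊓ uniSub p d) (fun τ => ⟨1, ?_⟩) (le_inf H.le_G H.uni) inf_le_left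
    ⟨hg, h⟩
  refine Subtype.ext (Units.ext ?_)
  rw [pow_one, SubgroupClass.coe_pow, Units.val_pow_eq_pow_val]
  exact (Uni.pow_prime (M := (τ : GLd p d).val) τ.2.2 H.le).trans Units.val_one.symm

theorem conj_mem {g τ : GLd p d} (hg : g ∈ G) (hg0 : Deg 0 g.val) (hτ : τ ∈ T) :
    g * τ * g⁻¹ ∈ T := by
  refine (H.mem_iff (mul_mem (mul_mem hg (H.le_G hτ)) (inv_mem hg))).2 ?_
  show Deg 1 _
  rw [Units.val_mul, Units.val_mul, show g.val * τ.val * (↑(g⁻¹) : Mx p d) - 1 =
    g.val * (τ.val - 1) * (↑(g⁻¹) : Mx p d) by rw [mul_sub, sub_mul, mul_one, Units.mul_inv]]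
  exact ((hg0.mul (H.uni τ hτ)).mul (deg_zero_inv hg0)).mono (by omega)

theorem conj_mem' {g τ : GLd p d} (hg : g ∈ G) (hg0 : Deg 0 g.val) (hτ : τ ∈ T) :
    g⁻¹ * τ * g ∈ T := by
  have := H.conj_mem (g := g⁻¹) (inv_mem hg) (deg_zero_inv hg0) hτ
  rwa [inv_inv] at this

/-- A single block in two conjugates of `T` keeps the flag. -/
theorem lower_of_single {g u : GLd p d} (hu1 : Single (u.val - 1))
    (h : g⁻¹ * u * g ∈ T) : Deg 0 g.val := by
  refine lower_of_intertwine hu1 (H.uni _ h) ?_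
  rw [Units.val_mul, Units.val_mul, mul_sub, ← mul_assoc, ← mul_assoc, Units.mul_inv, one_mul,
    sub_mul, one_mul, mul_one]

theorem lower_of_x {g : GLd p d} (h : g⁻¹ * x * g ∈ T) : Deg 0 g.val :=
  H.lower_of_single H.single_x h

/-- The space killed, in the first coordinate, by all of `G` is zero. -/
theorem eq_zero_of_forall {c : Fin d → ZMod p}
    (h : ∀ g ∈ G, ∀ a : Fin d, (a : ℕ) = 0 → g.val.mulVec c a = 0) : c = 0 := by
  classical
  let U : Submodule (ZMod p) (Fin d → ZMod p) :=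
    { carrier := {v | ∀ g ∈ G, ∀ a : Fin d, (a : ℕ) = 0 → g.val.mulVec v a = 0}
      add_mem' := fun {u v} hu hv g hg a ha => by
        rw [Matrix.mulVec_add, Pi.add_apply, hu g hg a ha, hv g hg a ha, add_zero]
      zero_mem' := fun g hg a ha => by rw [Matrix.mulVec_zero]; rfl
      smul_mem' := fun k v hv g hg a ha => by
        rw [Matrix.mulVec_smul, Pi.smul_apply, hv g hg a ha, smul_zero] }
  have hGU : ∀ g ∈ G, ∀ v ∈ U, g.val.mulVec v ∈ U := fun g hg v hv g' hg' a ha => by
    rw [Matrix.mulVec_mulVec, ← Units.val_mul]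
    exact hv _ (mul_mem hg' hg) a ha
  by_contra hc
  have hex : ∃ t, ∃ v ∈ U, ∃ a : Fin d, (a : ℕ) = t ∧ v a ≠ 0 := by
    obtain ⟨a, ha⟩ := Function.ne_iff.1 hc
    exact ⟨a, c, h, a, rfl, ha⟩
  obtain ⟨v, hv, a, hat, hva⟩ := Nat.find_spec hex
  set t := Nat.find hex
  have hmin : ∀ u ∈ U, ∀ b : Fin d, (b : ℕ) < t → u b = 0 := fun u hu b hb => by
    by_contra hne
    exact Nat.find_min hex hb ⟨u, hu, b, rfl, hne⟩
  have ht0 : 0 < t := Nat.pos_of_ne_zero fun e => hva (by
    have := hv 1 G.one_mem a (hat.trans e)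
    rwa [Units.val_one, Matrix.one_mulVec] at this)
  have hsh : ∀ s, (sh p d s).mulVec v ∈ U := fun s => by
    induction s with
    | zero => rw [sh_zero, Matrix.one_mulVec]; exact hv
    | succ s ih =>
      rw [show s + 1 = 1 + s by omega, ← sh_mul, ← Matrix.mulVec_mulVec, ← H.sub_one,
        Matrix.sub_mulVec, Matrix.one_mulVec]
      exact U.sub_mem (hGU x H.x_memG _ ih) ih
  have hbasis : ∀ j : Fin d, t ≤ j → (Pi.single j 1 : Fin d → ZMod p) ∈ U := by
    intro j
    induction hk : d - (j : ℕ) using Nat.strong_induction_on generalizing j with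
    | _ k ih =>
      intro hj
      set w := (sh p d (j - t)).mulVec v
      have hwb : ∀ b : Fin d, w b = if (j : ℕ) - t ≤ b then
          v ⟨b - (j - t), by omega⟩ else 0 := fun b => by
        simp only [w, Matrix.mulVec, dotProduct, sh, Matrix.of_apply, ite_mul, one_mul, zero_mul]
        by_cases hb : (j : ℕ) - t ≤ b
        · rw [if_pos hb, Finset.sum_eq_single (⟨b - (j - t), by omega⟩ : Fin d)]
          · rw [if_pos (by simp only; omega)]
          · exact fun q _ hq => if_neg fun e => hq (Fin.ext (by simp only; omega))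
          · exact fun hn => absurd (mem_univ _) hn
        · rw [if_neg hb]
          exact Finset.sum_eq_zero fun q _ => if_neg (by omega)
      have hwj : w j = v a := by
        rw [hwb, if_pos (by omega)]
        congr 1
        exact Fin.ext (by simp only; omega)
      have hlow : ∀ b : Fin d, (b : ℕ) < j → w b = 0 := fun b hb => by
        rw [hwb]
        split
        · exact hmin v hv _ (by simp only; omega)
        · rfl
      have e : w j • (Pi.single j 1 : Fin d → ZMod p) =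
          w - ∑ b ∈ univ.filter (fun b : Fin d => (j : ℕ) < b),
            w b • (Pi.single b 1 : Fin d → ZMod p) := by
        funext q
        simp only [Pi.smul_apply, smul_eq_mul, Pi.sub_apply, Finset.sum_apply, Pi.single_apply,
          mul_ite, mul_one, mul_zero, Finset.sum_ite_eq, mem_filter, mem_univ, true_and]
        rcases lt_trichotomy (q : ℕ) j with hq | hq | hq
        · rw [if_neg (fun e => by rw [e] at hq; omega), if_neg (by omega), hlow q hq, sub_zero]
        · rw [if_pos (Fin.ext hq), if_neg (by omega), show q = j from Fin.ext hq, sub_zero]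
        · rw [if_neg (fun e => by rw [e] at hq; omega), if_pos hq, sub_self]
      have hmem : w j • (Pi.single j 1 : Fin d → ZMod p) ∈ U := by
        rw [e]
        refine U.sub_mem (hsh _) (U.sum_mem fun b hb => U.smul_mem _ ?_)
        have hjb : (j : ℕ) < b := (mem_filter.1 hb).2
        exact ih (d - b) (by omega) b rfl (by omega)
      rw [hwj] at hmem
      have := U.smul_mem (v a)⁻¹ hmem
      rwa [smul_smul, inv_mul_cancel₀ hva, one_smul] at this
  obtain ⟨g, hg, hgt⟩ := H.irr t ht0 (by omega)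
  refine hgt fun i j hi hj => ?_
  by_cases hjd : j < d
  · have h1 := hmin _ (hGU g hg _ (hbasis ⟨j, hjd⟩ hj)) ⟨i, by omega⟩ hi
    rw [Matrix.mulVec_single_one] at h1
    simpa [ent, show i < d by omega, hjd] using h1
  · exact ent_of_col _ (le_of_not_gt hjd)

/-- There are no nontrivial normal `p`-subgroups. -/
theorem eq_bot_of_normal {R : Subgroup (GLd p d)} (hRG : R ≤ G)
    (hn : ∀ g ∈ G, ∀ r ∈ R, g * r * g⁻¹ ∈ R) (hR : IsPGroup p R) : R = ⊥ := by
  have hnorm : T ≤ Subgroup.normalizer (R : Set (GLd p d)) := fun τ hτ =>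
    Subgroup.mem_normalizer_iff.2 fun r => ⟨hn τ (H.le_G hτ) r, fun hr => by
      have := hn τ⁻¹ (inv_mem (H.le_G hτ)) _ hr
      simpa [mul_assoc] using this⟩
  have hle := H.le_of_pgroup (IsPGroup.to_sup_of_normal_right' H.isPGroup hR hnorm) le_sup_left
    (sup_le H.le_G hRG)
  refine (Subgroup.eq_bot_iff_forall _).2 fun r hr => Units.ext ?_
  rw [Units.val_one, ← sub_eq_zero]
  refine Matrix.ext fun i j => ?_
  have hz : (fun a => (r.val - 1) a j) = 0 := H.eq_zero_of_forall fun g hg a ha => by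
    have e : g.val * (r.val - 1) = ((g * r * g⁻¹).val - 1) * g.val := by
      rw [Units.val_mul, Units.val_mul, mul_sub, mul_one, sub_mul, one_mul,
        Units.inv_mul_cancel_right]
    have e2 : g.val.mulVec (fun a => (r.val - 1) a j) a = (g.val * (r.val - 1)) a j := rfl
    rw [e2, e, Matrix.mul_apply]
    refine Finset.sum_eq_zero fun q _ => ?_
    have hq : ent ((g * r * g⁻¹).val - 1) a q = 0 :=
      H.uni _ (hle (Subgroup.mem_sup_right (hn g hg r hr))) a q (by omega)
    rw [ent_fin] at hq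
    rw [hq, zero_mul]
  exact congrFun hz i

end Setting

/-! ### Sums over the cosets of `T` -/

section Cosets

variable {G T : Subgroup (GLd p d)} {x : GLd p d}

/-- The left cosets of `T` in `G`. -/
abbrev Cosets (G T : Subgroup (GLd p d)) := ↥G ⧸ T.subgroupOf G

/-- A representative. -/
noncomputable def rep (q : Cosets G T) : GLd p d := ((Quotient.out q : ↥G) : GLd p d)

theorem rep_mem (q : Cosets G T) : rep q ∈ G := (Quotient.out q).2

theorem exists_rep (g : ↥G) : ∃ τ ∈ T, rep (g : Cosets G T) = (g : GLd p d) * τ := by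
  obtain ⟨τ, hτ⟩ := QuotientGroup.mk_out_eq_mul (T.subgroupOf G) g
  exact ⟨((τ : ↥G) : GLd p d), τ.2, congrArg Subtype.val hτ⟩

theorem mk_rep (q : Cosets G T) : ((Quotient.out q : ↥G) : Cosets G T) = q :=
  QuotientGroup.out_eq' q

theorem smul_eq_iff (g : ↥G) (q : Cosets G T) :
    g • q = q ↔ (rep q)⁻¹ * (g : GLd p d) * rep q ∈ T := by
  conv_lhs => rw [← mk_rep q]
  rw [MulAction.Quotient.smul_coe, QuotientGroup.eq, Subgroup.mem_subgroupOf, smul_eq_mul]
  rw [← inv_mem_iff]
  simp [rep, mul_assoc]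

theorem smul_sub_eq_iff (τ : T.subgroupOf G) (q : Cosets G T) :
    τ • q = q ↔ (rep q)⁻¹ * ((τ : ↥G) : GLd p d) * rep q ∈ T := by
  exact smul_eq_iff (T.subgroupOf G |>.subtype τ) q

/-- A function constant on cosets. -/
theorem apply_rep {R : Type*} (f : GLd p d → R) (hf : ∀ g, ∀ τ ∈ T, f (g * τ) = f g) (g : ↥G) :
    f (rep (g : Cosets G T)) = f g := by
  obtain ⟨τ, hτ, e⟩ := exists_rep (T := T) g
  rw [e, hf _ τ hτ]

theorem apply_smul {R : Type*} (f : GLd p d → R) (hf : ∀ g, ∀ τ ∈ T, f (g * τ) = f g) (g : ↥G)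
    (q : Cosets G T) : f (rep (g • q)) = f ((g : GLd p d) * rep q) := by
  have e : g • q = ((g * Quotient.out q : ↥G) : Cosets G T) := by
    conv_lhs => rw [← mk_rep q]
    rw [MulAction.Quotient.smul_coe, smul_eq_mul]
  rw [e, apply_rep f hf]
  rfl

theorem sum_translate [Fintype (Cosets G T)] {R : Type*} [AddCommMonoid R] (f : GLd p d → R)
    (hf : ∀ g, ∀ τ ∈ T, f (g * τ) = f g) (g : ↥G) :
    ∑ q : Cosets G T, f ((g : GLd p d) * rep q) = ∑ q : Cosets G T, f (rep q) := by
  simp only [← apply_smul f hf g]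
  exact Fintype.sum_equiv (MulAction.toPerm g) _ _ fun q => rfl

/-- The number of cosets keeping the flag is prime to `p`. -/
theorem Setting.card_lower [Fintype (Cosets G T)] [DecidablePred fun q : Cosets G T => Deg 0 (rep q).val]
    (H : Setting G T x) :
    ((univ.filter fun q : Cosets G T => Deg 0 (rep q).val).card : ZMod p) ≠ 0 := by
  have hP : IsPGroup p (T.subgroupOf G) :=
    H.isPGroup.of_equiv (Subgroup.subgroupOfEquivOfLe H.le_G).symm
  have hmod := hP.card_modEq_card_fixedPoints (Cosets G T)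
  have hset : Nat.card (MulAction.fixedPoints (T.subgroupOf G) (Cosets G T)) =
      (univ.filter fun q : Cosets G T => Deg 0 (rep q).val).card := by
    rw [Nat.subtype_card]
    intro q
    rw [mem_filter, MulAction.mem_fixedPoints]
    refine ⟨fun h τ => ?_, fun h => ⟨mem_univ q, ?_⟩⟩
    · exact (smul_sub_eq_iff τ q).2 (H.conj_mem' (rep_mem q) h.2 τ.2)
    · let xs : T.subgroupOf G := ⟨⟨x, H.x_memG⟩, H.x_mem⟩
      have h1 : (rep q)⁻¹ * x * rep q ∈ T := (smul_sub_eq_iff xs q).1 (h xs)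
      exact H.lower_of_x h1
  rw [hset] at hmod
  intro h
  refine H.syl ?_
  rw [Subgroup.relIndex, Subgroup.index]
  exact (ZMod.natCast_eq_zero_iff _ _).1 (((ZMod.natCast_eq_natCast_iff _ _ _).2 hmod).trans h)

variable {K : Type*} [Fintype K]

/-- The subgroup swept by a parametrization closed under products. -/
def paramSub (G : Subgroup (GLd p d)) (a : K → GLd p d) (h1 : ∃ k, a k = 1)
    (hmul : ∀ k k', ∃ k'', a k * a k' = a k'') : Subgroup ↥G where
  carrier := {g | ∃ k, a k = (g : GLd p d)}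
  one_mem' := h1
  mul_mem' := fun {g g'} ⟨k, hk⟩ ⟨k', hk'⟩ => by
    obtain ⟨k'', e⟩ := hmul k k'
    exact ⟨k'', by rw [Subgroup.coe_mul, ← hk, ← hk', e]⟩
  inv_mem' := fun {g} ⟨k, hk⟩ => by
    have hpow : ∀ m : ℕ, ∃ k', a k' = (g : GLd p d) ^ m := fun m => by
      induction m with
      | zero => obtain ⟨k₀, h₀⟩ := h1; exact ⟨k₀, by rw [pow_zero, h₀]⟩
      | succ m ih =>
        obtain ⟨k', hk'⟩ := ih
        obtain ⟨k'', e⟩ := hmul k' k
        exact ⟨k'', by rw [pow_succ, ← hk', ← hk, e]⟩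
    obtain ⟨k', hk'⟩ := hpow (orderOf (g : GLd p d) - 1)
    refine ⟨k', ?_⟩
    rw [hk', Subgroup.coe_inv]
    exact (inv_eq_of_mul_eq_one_right (by
      rw [← pow_succ', Nat.sub_add_cancel (orderOf_pos _), pow_orderOf_eq_one])).symm

/-- Sums over cosets moved freely by a parametrized subgroup. -/
theorem sum_cosets_eq_zero {R : Type*} [AddCommMonoid R] (f : GLd p d → R)
    (hf : ∀ g, ∀ τ ∈ T, f (g * τ) = f g) (a : K → GLd p d) (haG : ∀ k, a k ∈ G)
    (hinj : Function.Injective a) (h1 : ∃ k, a k = 1)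
    (hmul : ∀ k k', ∃ k'', a k * a k' = a k'') (s : Finset (Cosets G T))
    (hmap : ∀ q ∈ s, ∀ k, (⟨a k, haG k⟩ : ↥G) • q ∈ s)
    (hfree : ∀ q ∈ s, ∀ k, (rep q)⁻¹ * a k * rep q ∈ T → a k = 1)
    (hzero : ∀ q ∈ s, ∑ k, f (a k * rep q) = 0) : ∑ q ∈ s, f (rep q) = 0 := by
  refine sum_eq_zero_of_free (paramSub G a h1 hmul) (fun k => (⟨a k, haG k⟩ : ↥G))
    (fun g => ⟨fun ⟨k, hk⟩ => ⟨k, Subtype.ext hk⟩, fun ⟨k, hk⟩ => ⟨k, congrArg Subtype.val hk⟩⟩)
    (fun k k' e => hinj (congrArg Subtype.val e)) s _ ?_ ?_ ?_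
  · rintro q hq g ⟨k, hk⟩
    rw [show g = ⟨a k, haG k⟩ from Subtype.ext hk.symm]
    exact hmap q hq k
  · rintro q hq g ⟨k, hk⟩ e
    refine Subtype.ext ?_
    rw [← hk, Subgroup.coe_one]
    exact hfree q hq k (by rw [hk]; exact (smul_eq_iff g q).1 e)
  · intro q hq
    rw [← hzero q hq]
    exact Finset.sum_congr rfl fun k _ => apply_smul f hf _ q

end Cosets

end Cfsg.Lib.Fusion.MaxClassNormal
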