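import Mathlib

/-!
Square matrices over the prime field graded by the distance below the diagonal: products and their
leading diagonals, cancellation against a matrix with nonvanishing leading diagonal, single Jordan
blocks and the blocks of block-triangular matrices.
-/

set_option autoImplicit false
set_option linter.unusedSectionVars false
set_option linter.style.haveILetI false

namespace Cfsg.Lib.Fusion.MaxClassNormal

open Finset

/-- Square matrices over the prime field. -/
abbrev Mx (p d : ℕ) := Matrix (Fin d) (Fin d) (ZMod p)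

/-- Entries with natural indices. -/
def ent {p d : ℕ} (M : Mx p d) (i j : ℕ) : ZMod p :=
  if h : i < d ∧ j < d then M ⟨i, h.1⟩ ⟨j, h.2⟩ else 0

variable {p d : ℕ}

theorem ent_fin (M : Mx p d) (i j : Fin d) : ent M i j = M i j := by
  rw [ent, dif_pos ⟨i.2, j.2⟩]

theorem ent_of_row (M : Mx p d) {i j : ℕ} (h : d ≤ i) : ent M i j = 0 := by
  rw [ent, dif_neg fun h' => absurd h'.1 (not_lt.2 h)]

theorem ent_of_col (M : Mx p d) {i j : ℕ} (h : d ≤ j) : ent M i j = 0 := by
  rw [ent, dif_neg fun h' => absurd h'.2 (not_lt.2 h)]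

theorem ext_ent {A B : Mx p d} (h : ∀ i j, i < d → j < d → ent A i j = ent B i j) : A = B := by
  refine Matrix.ext fun i j => ?_
  rw [← ent_fin A, ← ent_fin B]
  exact h i j i.2 j.2

theorem ent_add (A B : Mx p d) (i j : ℕ) : ent (A + B) i j = ent A i j + ent B i j := by
  unfold ent; split <;> simp

theorem ent_sub (A B : Mx p d) (i j : ℕ) : ent (A - B) i j = ent A i j - ent B i j := by
  unfold ent; split <;> simp

theorem ent_neg (A : Mx p d) (i j : ℕ) : ent (-A) i j = -ent A i j := by
  unfold ent; split <;> simp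

theorem ent_smul (c : ZMod p) (A : Mx p d) (i j : ℕ) : ent (c • A) i j = c * ent A i j := by
  unfold ent; split <;> simp

theorem ent_zero (i j : ℕ) : ent (0 : Mx p d) i j = 0 := by
  unfold ent; split <;> simp

theorem ent_one (i j : ℕ) : ent (1 : Mx p d) i j = if i = j ∧ i < d then 1 else 0 := by
  unfold ent
  by_cases h : i < d ∧ j < d
  · rw [dif_pos h, Matrix.one_apply]
    simp only [Fin.ext_iff]
    by_cases e : i = j <;> simp [e, h.2]
  · rw [dif_neg h, if_neg]
    rintro ⟨rfl, h'⟩
    exact h ⟨h', h'⟩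

theorem ent_sum {ι : Type*} (s : Finset ι) (f : ι → Mx p d) (i j : ℕ) :
    ent (∑ a ∈ s, f a) i j = ∑ a ∈ s, ent (f a) i j := by
  classical
  induction s using Finset.induction_on with
  | empty => simp [ent_zero]
  | insert a t ha ih => rw [Finset.sum_insert ha, Finset.sum_insert ha, ent_add, ih]

theorem ent_mul (A B : Mx p d) (i j : ℕ) :
    ent (A * B) i j = ∑ a ∈ range d, ent A i a * ent B a j := by
  by_cases hi : i < d
  · by_cases hj : j < d
    · rw [ent, dif_pos ⟨hi, hj⟩, Matrix.mul_apply,
        ← Fin.sum_univ_eq_sum_range (fun a => ent A i a * ent B a j) d]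
      refine Finset.sum_congr rfl fun a _ => ?_
      rw [ent, ent, dif_pos ⟨hi, a.2⟩, dif_pos ⟨a.2, hj⟩]
    · rw [ent_of_col _ (le_of_not_gt hj)]
      exact (Finset.sum_eq_zero fun a _ => by rw [ent_of_col B (le_of_not_gt hj), mul_zero]).symm
  · rw [ent_of_row _ (le_of_not_gt hi)]
    exact (Finset.sum_eq_zero fun a _ => by rw [ent_of_row A (le_of_not_gt hi), zero_mul]).symm

theorem ent_mul_single (A B : Mx p d) (i j : ℕ) {a₀ : ℕ}
    (h : ∀ a < d, a ≠ a₀ → ent A i a * ent B a j = 0) :
    ent (A * B) i j = ent A i a₀ * ent B a₀ j := by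
  rw [ent_mul]
  refine Finset.sum_eq_single a₀ (fun a ha hne => h a (Finset.mem_range.1 ha) hne) fun ha => ?_
  rw [ent_of_col A (le_of_not_gt fun h' => ha (Finset.mem_range.2 h')), zero_mul]

theorem ent_mul_eq_zero (A B : Mx p d) (i j : ℕ)
    (h : ∀ a < d, ent A i a * ent B a j = 0) : ent (A * B) i j = 0 := by
  rw [ent_mul]
  exact Finset.sum_eq_zero fun a ha => h a (Finset.mem_range.1 ha)

/-! ### The grading -/

/-- All entries less than `β` below the diagonal vanish. -/
def Deg (β : ℕ) (M : Mx p d) : Prop := ∀ i j, i < j + β → ent M i j = 0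

namespace Deg

variable {a b : ℕ} {A B : Mx p d}

theorem mono (h : Deg a A) (hba : b ≤ a) : Deg b A := fun i j hij => h i j (by omega)

theorem zero (a : ℕ) : Deg a (0 : Mx p d) := fun i j _ => ent_zero i j

theorem one : Deg 0 (1 : Mx p d) := fun i j h => by
  rw [ent_one, if_neg]
  rintro ⟨rfl, -⟩
  omega

theorem add (hA : Deg a A) (hB : Deg a B) : Deg a (A + B) := fun i j h => by
  rw [ent_add, hA i j h, hB i j h, add_zero]

theorem sub (hA : Deg a A) (hB : Deg a B) : Deg a (A - B) := fun i j h => by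
  rw [ent_sub, hA i j h, hB i j h, sub_zero]

theorem neg (hA : Deg a A) : Deg a (-A) := fun i j h => by rw [ent_neg, hA i j h, neg_zero]

theorem smul (hA : Deg a A) (c : ZMod p) : Deg a (c • A) := fun i j h => by
  rw [ent_smul, hA i j h, mul_zero]

theorem sum {ι : Type*} {s : Finset ι} {f : ι → Mx p d} (h : ∀ x ∈ s, Deg a (f x)) :
    Deg a (∑ x ∈ s, f x) := fun i j hij => by
  rw [ent_sum]
  exact Finset.sum_eq_zero fun x hx => h x hx i j hij

theorem mul (hA : Deg a A) (hB : Deg b B) : Deg (a + b) (A * B) := fun i j h => by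
  refine ent_mul_eq_zero A B i j fun k _ => ?_
  by_cases hk : i < k + a
  · rw [hA i k hk, zero_mul]
  · rw [hB k j (by omega), mul_zero]

theorem pow (hA : Deg a A) : ∀ m : ℕ, Deg (m * a) (A ^ m)
  | 0 => by rw [Nat.zero_mul, pow_zero]; exact one
  | m + 1 => by rw [Nat.succ_mul, pow_succ]; exact (pow hA m).mul hA

theorem eq_zero (hA : Deg a A) (h : d ≤ a) : A = 0 :=
  ext_ent fun i j hi _ => by rw [hA i j (by omega), ent_zero]

end Deg

/-- The leading diagonal of a product. -/
theorem ent_mul_lead {a b : ℕ} {A B : Mx p d} (hA : Deg a A) (hB : Deg b B) (i j : ℕ)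
    (hi : i = j + (a + b)) :
    ent (A * B) i j = ent A i (j + b) * ent B (j + b) j := by
  refine ent_mul_single A B i j fun k _ hk => ?_
  by_cases hik : i < k + a
  · rw [hA i k hik, zero_mul]
  · rw [hB k j (by omega), mul_zero]

/-- The leading diagonal of a power is the product along it. -/
theorem lead_pow_ne_zero [Fact p.Prime] {t : ℕ} {A : Mx p d} (hA : Deg t A)
    (hl : ∀ q, q + t < d → ent A (q + t) q ≠ 0) :
    ∀ (m q : ℕ), q + m * t < d → ent (A ^ m) (q + m * t) q ≠ 0 := by
  intro m
  induction m with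
  | zero =>
    intro q hq
    rw [pow_zero, ent_one, if_pos ⟨by omega, by omega⟩]
    exact one_ne_zero
  | succ m ih =>
    intro q hq
    rw [Nat.succ_mul] at hq ⊢
    rw [pow_succ, ent_mul_lead (hA.pow m) hA _ q rfl]
    refine mul_ne_zero ?_ (hl q (by omega))
    have := ih (q + t) (by omega)
    rwa [show q + t + m * t = q + (m * t + t) by omega] at this

/-! ### The shifts -/

/-- The shift `t` places down. -/
def sh (p d t : ℕ) : Mx p d := Matrix.of fun i j => if (i : ℕ) = j + t then 1 else 0

theorem ent_sh (t i j : ℕ) : ent (sh p d t) i j = if i = j + t ∧ i < d then 1 else 0 := by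
  unfold ent sh
  by_cases h : i < d ∧ j < d
  · rw [dif_pos h, Matrix.of_apply]
    by_cases e : i = j + t <;> simp [e]
    exact fun h' => absurd h.1 (by omega)
  · rw [dif_neg h, if_neg]
    rintro ⟨rfl, h'⟩
    exact h ⟨h', by omega⟩

theorem deg_sh (t : ℕ) : Deg t (sh p d t) := fun i j h => by
  rw [ent_sh, if_neg]
  rintro ⟨rfl, -⟩
  omega

theorem ent_mul_sh (A : Mx p d) (t i j : ℕ) : ent (A * sh p d t) i j = ent A i (j + t) := by
  rw [ent_mul_single A (sh p d t) i j (a₀ := j + t) fun a _ ha => by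
    rw [ent_sh, if_neg fun h => ha h.1, mul_zero]]
  by_cases h : j + t < d
  · rw [ent_sh, if_pos ⟨rfl, h⟩, mul_one]
  · rw [ent_of_col A (le_of_not_gt h), zero_mul]

theorem ent_sh_mul (A : Mx p d) (t i j : ℕ) :
    ent (sh p d t * A) i j = if t ≤ i ∧ i < d then ent A (i - t) j else 0 := by
  by_cases h : t ≤ i ∧ i < d
  · rw [if_pos h, ent_mul_single (sh p d t) A i j (a₀ := i - t) fun a _ ha => by
      rw [ent_sh, if_neg fun h' => ha (by omega), zero_mul]]
    rw [ent_sh, if_pos ⟨by omega, h.2⟩, one_mul]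
  · rw [if_neg h]
    refine ent_mul_eq_zero _ _ _ _ fun a _ => ?_
    rw [ent_sh, if_neg fun h' => h ⟨by omega, h'.2⟩, zero_mul]

theorem sh_mul (s t : ℕ) : sh p d s * sh p d t = sh p d (s + t) :=
  ext_ent fun i j hi _ => by
    rw [ent_mul_sh, ent_sh, ent_sh]
    simp only [show j + t + s = j + (s + t) by omega]

theorem sh_zero : sh p d 0 = 1 :=
  ext_ent fun i j _ _ => by rw [ent_sh, ent_one, Nat.add_zero]

theorem sh_one_pow : ∀ t : ℕ, sh p d 1 ^ t = sh p d t
  | 0 => by rw [pow_zero, sh_zero]
  | t + 1 => by rw [pow_succ, sh_one_pow t, sh_mul]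

theorem commute_sh {M : Mx p d} (h : Commute M (sh p d 1)) (t : ℕ) : Commute M (sh p d t) :=
  sh_one_pow t ▸ h.pow_right t

/-- Commuting with the shift: lower triangular. -/
theorem deg_zero_of_commute {M : Mx p d} (h : Commute M (sh p d 1)) : Deg 0 M := by
  suffices key : ∀ i j, i < j → j < d → ent M i j = 0 by
    intro i j hij
    rcases Nat.lt_or_ge j d with hj | hj
    · exact key i j (by omega) hj
    · exact ent_of_col _ hj
  intro i
  induction i with
  | zero =>
    intro j h1 _
    have := congrArg (fun A => ent A 0 (j - 1)) h.eq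
    simp only [ent_mul_sh, ent_sh_mul] at this
    rw [if_neg (by omega), show j - 1 + 1 = j by omega] at this
    exact this
  | succ i ih =>
    intro j h1 h2
    have := congrArg (fun A => ent A (i + 1) (j - 1)) h.eq
    simp only [ent_mul_sh, ent_sh_mul] at this
    rw [if_pos ⟨by omega, by omega⟩, show j - 1 + 1 = j by omega, Nat.add_sub_cancel] at this
    rw [this, ih (j - 1) (by omega) (by omega)]

/-- Commuting with the shift: constant diagonals. -/
theorem ent_of_commute {M : Mx p d} (h : Commute M (sh p d 1)) {δ : ℕ} :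
    ∀ j, j + δ < d → ent M (j + δ) j = ent M δ 0 := by
  intro j
  induction j with
  | zero => intro _; rw [Nat.zero_add]
  | succ j ih =>
    intro hj
    have := congrArg (fun A => ent A (j + δ + 1) j) h.eq
    simp only [ent_mul_sh, ent_sh_mul] at this
    rw [if_pos ⟨by omega, by omega⟩, Nat.add_sub_cancel] at this
    rw [show j + 1 + δ = j + δ + 1 by omega, this]
    exact ih (by omega)

/-! ### Cancellation against a nonvanishing leading diagonal -/

theorem left_cancel [Fact p.Prime] {t r₀ b : ℕ} {A M : Mx p d} (hA : Deg t A)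
    (hl : ∀ q, q + t < r₀ → q + t < d → ent A (q + t) q ≠ 0)
    (h : ∀ r < r₀, ent (A * M) r b = 0) : ∀ q, q + t < r₀ → q + t < d → ent M q b = 0 := by
  intro q
  induction q using Nat.strong_induction_on with
  | _ q ih =>
    intro h1 h2
    have e := h (q + t) h1
    rw [ent_mul_single A M (q + t) b (a₀ := q) fun a _ ha => by
      rcases Nat.lt_or_gt_of_ne ha with h' | h'
      · rw [ih a h' (by omega) (by omega), mul_zero]
      · rw [hA _ _ (by omega), zero_mul]] at e
    exact (mul_eq_zero.1 e).resolve_left (hl q h1 h2)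

theorem right_cancel [Fact p.Prime] {t b₀ i : ℕ} {A M : Mx p d} (hA : Deg t A)
    (hl : ∀ q, b₀ ≤ q → q + t < d → ent A (q + t) q ≠ 0)
    (h : ∀ b, b₀ ≤ b → ent (M * A) i b = 0) : ∀ a, b₀ + t ≤ a → ent M i a = 0 := by
  intro a
  induction hk : d - a using Nat.strong_induction_on generalizing a with
  | _ k ih =>
    intro ha
    by_cases had : d ≤ a
    · exact ent_of_col _ had
    have e := h (a - t) (by omega)
    rw [ent_mul_single M A i (a - t) (a₀ := a) fun c _ hc => by
      rcases Nat.lt_or_gt_of_ne hc with h' | h'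
      · rw [hA _ _ (by omega), mul_zero]
      · rw [ih (d - c) (by omega) c rfl (by omega), zero_mul]] at e
    refine (mul_eq_zero.1 e).resolve_right ?_
    have := hl (a - t) (by omega) (by omega)
    rwa [show a - t + t = a by omega] at this

/-! ### Block triangular matrices -/

/-- The last `d - t` coordinates span an invariant subspace. -/
def Inv (t : ℕ) (M : Mx p d) : Prop := ∀ i j, i < t → t ≤ j → ent M i j = 0

theorem inv_zero (M : Mx p d) : Inv 0 M := fun _ _ h _ => absurd h (Nat.not_lt_zero _)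

theorem inv_of_le {t : ℕ} (M : Mx p d) (h : d ≤ t) : Inv t M := fun _ _ _ h' =>
  ent_of_col _ (h.trans h')

theorem deg_zero_iff {M : Mx p d} : Deg 0 M ↔ ∀ t, Inv t M :=
  ⟨fun h t i j h1 h2 => h i j (by omega), fun h i j hij => h j i j (by omega) le_rfl⟩

theorem Inv.mul {t : ℕ} {A B : Mx p d} (hA : Inv t A) (hB : Inv t B) : Inv t (A * B) :=
  fun i j hi hj => ent_mul_eq_zero A B i j fun a _ => by
    rcases Nat.lt_or_ge a t with h | h
    · rw [hB a j h hj, mul_zero]
    · rw [hA i a hi h, zero_mul]

theorem Inv.one (t : ℕ) : Inv t (1 : Mx p d) := fun i j hi hj => Deg.one i j (by omega)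

/-- Intertwined matrices of degree `t` keep the image of the first one. -/
theorem inv_of_intertwine [Fact p.Prime] {t : ℕ} {g h A A' : Mx p d} (hA : Deg t A)
    (hA' : Deg t A') (hl : ∀ q, q + t < d → ent A (q + t) q ≠ 0) (e : g * A = A' * h) :
    Inv t g := fun i j hi hj => by
  refine right_cancel (b₀ := 0) hA (fun q _ => hl q) (fun b _ => ?_) j (by omega)
  rw [e]
  refine ent_mul_eq_zero _ _ _ _ fun a _ => ?_
  rw [hA' i a (by omega), zero_mul]

/-- Intertwined matrices of degree `t` keep the kernel of the first one. -/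
theorem inv_of_intertwine' [Fact p.Prime] {t : ℕ} {g h A A' : Mx p d} (hA : Deg t A)
    (hA' : Deg t A') (hl : ∀ q, q + t < d → ent A (q + t) q ≠ 0) (e : A * g = h * A') :
    Inv (d - t) g := fun i j hi hj => by
  refine left_cancel (r₀ := d) hA (fun q h1 _ => hl q h1) (fun r _ => ?_) i (by omega) (by omega)
  rw [e]
  refine ent_mul_eq_zero _ _ _ _ fun a ha => ?_
  rw [hA' a j (by omega), mul_zero]

/-! ### Single Jordan blocks -/

/-- Strictly lower triangular with nonvanishing subdiagonal. -/
def Single (N : Mx p d) : Prop := Deg 1 N ∧ ∀ q, q + 1 < d → ent N (q + 1) q ≠ 0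

theorem single_sh [Fact p.Prime] : Single (sh p d 1) :=
  ⟨deg_sh 1, fun q hq => by rw [ent_sh, if_pos ⟨rfl, hq⟩]; exact one_ne_zero⟩

theorem lower_of_intertwine [Fact p.Prime] {N N' g : Mx p d} (hN : Single N) (hN' : Deg 1 N')
    (e : N * g = g * N') : Deg 0 g := by
  have key : ∀ t : ℕ, N ^ t * g = g * N' ^ t := by
    intro t
    induction t with
    | zero => rw [pow_zero, pow_zero, one_mul, mul_one]
    | succ t ih => rw [pow_succ, pow_succ, mul_assoc, e, ← mul_assoc, ih, mul_assoc]
  refine deg_zero_iff.2 fun t => ?_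
  rcases Nat.lt_or_ge t d with ht | ht
  swap
  · exact inv_of_le g ht
  have := inv_of_intertwine' (t := d - t) (A := N ^ (d - t)) (A' := N' ^ (d - t))
    (by simpa using hN.1.pow (d - t)) (by simpa using hN'.pow (d - t))
    (fun q hq => by
      have := lead_pow_ne_zero hN.1 hN.2 (d - t) q (by simpa using hq)
      simpa using this) (key (d - t))
  rwa [show d - (d - t) = t by omega] at this

theorem eq_zero_of_idempotent {P : Mx p d} (hP : Deg 1 P) (h : P * P = P) : P = 0 := by
  have : ∀ m : ℕ, P ^ (m + 1) = P := by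
    intro m
    induction m with
    | zero => rw [pow_one]
    | succ m ih => rw [pow_succ, ih, h]
  have h0 := (hP.pow (d + 1)).eq_zero (by omega)
  rwa [this d] at h0

/-- An idempotent commuting with a single block is trivial. -/
theorem idempotent_commute [Fact p.Prime] {N P : Mx p d} (hN : Single N) (hc : Commute N P)
    (hP : P * P = P) : P = 0 ∨ P = 1 := by
  have h0 := lower_of_intertwine hN hN.1 hc.eq
  have hstep : ∀ j, j + 1 < d → ent P (j + 1) (j + 1) = ent P j j := by
    intro j hj
    have e : ent (N * P) (j + 1) j = ent (P * N) (j + 1) j :=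
      congrArg (fun A => ent A (j + 1) j) hc.eq
    rw [ent_mul_lead hN.1 h0 (j + 1) j rfl, ent_mul_lead h0 hN.1 (j + 1) j rfl] at e
    simp only [Nat.add_zero] at e
    rw [mul_comm] at e
    exact (mul_right_cancel₀ (hN.2 j hj) e).symm
  have hdiag : ∀ j, j < d → ent P j j = ent P 0 0 := by
    intro j
    induction j with
    | zero => intro _; rfl
    | succ j ih => intro hj; rw [hstep j hj, ih (by omega)]
  rcases Nat.eq_zero_or_pos d with rfl | hd
  · left; exact ext_ent fun i j hi => absurd hi (Nat.not_lt_zero i)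
  have hsq : ent P 0 0 * ent P 0 0 = ent P 0 0 := by
    have e : ent (P * P) 0 0 = ent P 0 0 := congrArg (fun A => ent A 0 0) hP
    rwa [ent_mul_lead h0 h0 0 0 rfl] at e
  rcases eq_or_ne (ent P 0 0) 0 with hz | hz
  · left
    refine eq_zero_of_idempotent (fun i j hij => ?_) hP
    rcases Nat.lt_or_eq_of_le (show i ≤ j by omega) with h | h
    · exact h0 i j (by omega)
    · subst h
      by_cases hi : i < d
      · rw [hdiag i hi, hz]
      · exact ent_of_row _ (le_of_not_gt hi)
  · right
    have h1 : ent P 0 0 = 1 := by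
      have := mul_right_cancel₀ hz (hsq.trans (one_mul _).symm)
      exact this
    have hz' : (1 - P) = 0 := by
      refine eq_zero_of_idempotent (fun i j hij => ?_) (by
        rw [mul_sub, sub_mul, sub_mul, hP, one_mul, one_mul, mul_one]
        abel)
      rw [ent_sub, ent_one]
      rcases Nat.lt_or_eq_of_le (show i ≤ j by omega) with h | h
      · rw [h0 i j (by omega), if_neg (by omega), sub_zero]
      · subst h
        by_cases hi : i < d
        · rw [hdiag i hi, h1, if_pos ⟨rfl, hi⟩, sub_self]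
        · rw [ent_of_row _ (le_of_not_gt hi), if_neg (fun h => hi h.2), sub_zero]
    exact (sub_eq_zero.1 hz').symm

/-! ### Unitriangular matrices -/

/-- Lower unitriangular. -/
def Uni (M : Mx p d) : Prop := Deg 1 (M - 1)

theorem Uni.one : Uni (1 : Mx p d) := by
  unfold Uni; rw [sub_self]; exact Deg.zero 1

theorem deg_mul_sub_one {w : ℕ} {A B : Mx p d} (hA : Deg w (A - 1)) (hB : Deg w (B - 1)) :
    Deg w (A * B - 1) := by
  rw [show A * B - 1 = (A - 1) * (B - 1) + ((A - 1) + (B - 1)) by
    simp only [sub_mul, mul_sub, one_mul, mul_one]; abel]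
  exact ((hA.mul hB).mono (by omega)).add (hA.add hB)

theorem Uni.mul {A B : Mx p d} (hA : Uni A) (hB : Uni B) : Uni (A * B) := deg_mul_sub_one hA hB

theorem deg_pow_sub_one {w : ℕ} {A : Mx p d} (hA : Deg w (A - 1)) :
    ∀ m : ℕ, Deg w (A ^ m - 1)
  | 0 => by rw [pow_zero, sub_self]; exact Deg.zero w
  | m + 1 => by rw [pow_succ]; exact deg_mul_sub_one (deg_pow_sub_one hA m) hA

theorem Uni.deg_zero {M : Mx p d} (h : Uni M) : Deg 0 M := fun i j hij => by
  have := h i j (by omega)
  rwa [ent_sub, ent_one, if_neg (by omega), sub_zero] at this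

theorem Uni.diag {M : Mx p d} (h : Uni M) {j : ℕ} (hj : j < d) : ent M j j = 1 := by
  have := h j j (by omega)
  rwa [ent_sub, ent_one, if_pos ⟨rfl, hj⟩, sub_eq_zero] at this

theorem uni_of {M : Mx p d} (h0 : Deg 0 M) (h1 : ∀ j < d, ent M j j = 1) : Uni M := by
  intro i j hij
  rw [ent_sub, ent_one]
  rcases Nat.lt_or_eq_of_le (show i ≤ j by omega) with h | h
  · rw [h0 i j (by omega), if_neg (by omega), sub_zero]
  · subst h
    by_cases hi : i < d
    · rw [h1 i hi, if_pos ⟨rfl, hi⟩, sub_self]
    · rw [ent_of_row _ (le_of_not_gt hi), if_neg (fun h => hi h.2), sub_zero]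

theorem Uni.pow_prime [Fact p.Prime] {M : Mx p d} (h : Uni M) (hd : d ≤ p) : M ^ p = 1 := by
  rcases Nat.eq_zero_or_pos d with rfl | hd0
  · exact ext_ent fun i j hi => absurd hi (Nat.not_lt_zero i)
  haveI : Nonempty (Fin d) := ⟨⟨0, hd0⟩⟩
  have e := sub_pow_char_of_commute (p := p) (Commute.one_right M)
  rw [one_pow] at e
  have h0 : (M - 1) ^ p = 0 := (h.pow p).eq_zero (by omega)
  exact sub_eq_zero.1 (e.symm.trans h0)

/-! ### Blocks -/

/-- The diagonal block of the coordinates `a, …, a + d' - 1`. -/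
def blk (a d' : ℕ) (M : Mx p d) : Mx p d' := Matrix.of fun i j => ent M (a + i) (a + j)

theorem ent_blk (a d' : ℕ) (M : Mx p d) {i j : ℕ} (hi : i < d') (hj : j < d') :
    ent (blk a d' M) i j = ent M (a + i) (a + j) := by
  rw [ent, dif_pos ⟨hi, hj⟩]; rfl

theorem blk_one {a d' : ℕ} (h : a + d' ≤ d) : blk a d' (1 : Mx p d) = 1 :=
  ext_ent fun i j hi hj => by
    rw [ent_blk a d' _ hi hj, ent_one, ent_one]
    by_cases e : i = j
    · rw [if_pos ⟨by omega, by omega⟩, if_pos ⟨e, hi⟩]
    · rw [if_neg (fun h' => e (by omega)), if_neg (fun h' => e h'.1)]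

theorem blk_mul {a d' : ℕ} {A B : Mx p d} (hB : Inv a B) (hA : Inv (a + d') A) :
    blk a d' (A * B) = blk a d' A * blk a d' B := by
  refine ext_ent fun i j hi hj => ?_
  rw [ent_blk a d' _ hi hj, ent_mul, ent_mul]
  have e1 : ∀ c, c < a → ent A (a + i) c * ent B c (a + j) = 0 := fun c hc => by
    rw [hB c (a + j) hc (by omega), mul_zero]
  have e2 : ∀ c, a + d' ≤ c → ent A (a + i) c * ent B c (a + j) = 0 := fun c hc => by
    rw [hA (a + i) c (by omega) hc, zero_mul]
  conv_rhs => rw [Finset.sum_congr rfl fun c hc => show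
      ent (blk a d' A) i c * ent (blk a d' B) c j = ent A (a + i) (a + c) * ent B (a + c) (a + j) by
    rw [ent_blk a d' _ hi (Finset.mem_range.1 hc), ent_blk a d' _ (Finset.mem_range.1 hc) hj]]
  let f : ℕ → ZMod p := fun c => ent A (a + i) c * ent B c (a + j)
  show ∑ c ∈ range d, f c = ∑ c ∈ range d', f (a + c)
  have h3 : ∑ c ∈ range d, f c = ∑ c ∈ range (a + d' + d), f c :=
    Finset.sum_subset (Finset.range_mono (by omega)) fun c _ hc => by
      show ent A (a + i) c * ent B c (a + j) = 0
      rw [ent_of_row B (le_of_not_gt fun h' => hc (Finset.mem_range.2 h')), mul_zero]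
  rw [h3, Finset.sum_range_add, Finset.sum_range_add,
    Finset.sum_eq_zero fun c hc => e1 c (Finset.mem_range.1 hc), zero_add,
    Finset.sum_eq_zero (s := range d) fun c _ => e2 (a + d' + c) (Nat.le_add_right _ _), add_zero]

theorem Deg.blk {t a d' : ℕ} {M : Mx p d} (h : Deg t M) :
    Deg t (MaxClassNormal.blk a d' M) := fun i j hij => by
  by_cases hi : i < d'
  · by_cases hj : j < d'
    · rw [ent_blk a d' _ hi hj, h _ _ (by omega)]
    · exact ent_of_col _ (le_of_not_gt hj)
  · exact ent_of_row _ (le_of_not_gt hi)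

end Cfsg.Lib.Fusion.MaxClassNormal
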