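import Cfsg.Agent.Fusion.MaxClassNormal.Coord
import Cfsg.Agent.Fusion.MaxClassNormal.Layers
import Cfsg.Agent.Fusion.Essential
import Cfsg.Agent.Fusion.RankThree.Tools

/-!
An essential subgroup equal to a term of the lower central series of a group of maximal class: the
representation of the group and of the automizer on its Frattini quotient.
-/

set_option autoImplicit false
set_option linter.unusedSectionVars false
set_option linter.style.haveILetI false
set_option maxHeartbeats 1000000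

namespace Cfsg.Lib.Fusion.MaxClassNormal

open Cfsg Cfsg.FusionSystem Cfsg.Lib.Fusion
open Cfsg.Lib.PGroups MaxClassRank MaxClassThree MaxClassAgemo MaxClassDegree MaxClassOutside
open scoped commutatorElement

universe u

variable {p n k d : ℕ} [hp : Fact p.Prime] {Ω : Type u} [Group Ω] {S : Subgroup Ω} [Finite S]
  [Group.IsNilpotent S]

/-- The standing facts: `E` is the term `k` and its Frattini subgroup is the term `k + d`. -/
structure Site (F : FusionSystem S) (p n k d : ℕ) (E : Subgroup Ω) (x : S) : Prop where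
  isP : IsPGroup p S
  sat : F.IsSaturated p
  data : MaxClassAgemo.Data p n x
  ess : F.IsEssential p E
  eq_L : E.subgroupOf S = L S k
  k1 : 1 ≤ k
  hkn : k + 4 ≤ n
  hd : 1 ≤ d
  hdn : k + d ≤ n - 1
  frat : (frattini E).map (Subgroup.inclusion ess.1.1) = L S (k + d)

/-- Coordinates along the chain of `a₀`. -/
structure Adapted {E : Subgroup Ω} (P : Frame p d E) (k : ℕ) (x a₀ : S) : Prop where
  mem : a₀ ∈ L S k
  notmem : a₀ ∉ L S (k + 1)
  hb : ∀ j : Fin d, ((P.b j : E) : Ω) = (chain x a₀ j : S)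

namespace Site

variable {F : FusionSystem S} {E : Subgroup Ω} {x : S} (H : Site F p n k d E x)
include H

theorem le : E ≤ S := H.ess.1.1

theorem mem_iff (g : S) : (g : Ω) ∈ E ↔ g ∈ L S k := by
  rw [← H.eq_L, Subgroup.mem_subgroupOf]

theorem conj_mem (t : S) {e : Ω} (he : e ∈ E) : (t : Ω) * e * (t : Ω)⁻¹ ∈ E := by
  have h := (inferInstance : (L S k).Normal).conj_mem ⟨e, H.le he⟩ ((H.mem_iff _).1 he) t
  exact (H.mem_iff _).2 h

theorem mem_normalizerIn (t : S) : (t : Ω) ∈ normalizerIn S E := by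
  haveI := finite_of_le H.le
  exact ⟨t.2, mem_normalizer_of_maps_finite fun e he => H.conj_mem t he⟩

omit H in
/-- Conjugation. -/
def theta (H : Site F p n k d E x) : S →* MulAut E :=
  (normalizerInHom S E).comp
    { toFun := fun t => ⟨t, H.mem_normalizerIn t⟩
      map_one' := rfl
      map_mul' := fun _ _ => rfl }

theorem theta_apply (t : S) (e : E) :
    (Subgroup.inclusion H.le (H.theta t e) : S) = t * Subgroup.inclusion H.le e * t⁻¹ :=
  Subtype.ext rfl

theorem range_theta : H.theta.range = autInducedBy S E := by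
  rw [← range_normalizerInHom]
  refine le_antisymm (fun _ ⟨t, ht⟩ => ⟨_, ht⟩) ?_
  rintro _ ⟨g, rfl⟩
  exact ⟨⟨g, g.2.1⟩, rfl⟩

theorem mem_frattini (e : E) : e ∈ frattini E ↔ Subgroup.inclusion H.le e ∈ L S (k + d) := by
  rw [← H.frat, Subgroup.mem_map_iff_mem (Subgroup.inclusion_injective H.le)]

theorem inclusion_mem (e : E) : Subgroup.inclusion H.le e ∈ L S k := (H.mem_iff _).1 e.2

theorem exists_adapted : ∃ (a₀ : S) (P : Frame p d E), Adapted P k x a₀ := by
  classical
  haveI := finite_of_le H.le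
  have hkn := H.hkn
  have hdn := H.hdn
  obtain ⟨a₀, ha, ha'⟩ := SetLike.exists_of_lt (H.data.toBase.L_lt (show k < n - 1 by omega))
  have hmem : ∀ j : ℕ, ((chain x a₀ j : S) : Ω) ∈ E := fun j =>
    (H.mem_iff _).2 (L_le (Nat.le_add_right k j) (chain_mem_add ha j))
  let b : Fin d → E := fun j => ⟨((chain x a₀ j : S) : Ω), hmem j⟩
  have hgen : Subgroup.closure (Set.range b) ⊔ frattini E = ⊤ := by
    refine eq_top_iff.2 fun e _ => ?_
    rw [← Subgroup.mem_map_iff_mem (Subgroup.inclusion_injective H.le), Subgroup.map_sup,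
      MonoidHom.map_closure, H.frat]
    refine (sup_le_sup_right (Subgroup.closure_mono ?_) _)
      (le_closure H.data H.k1 ha ha' hdn d 0 (by omega) (H.inclusion_mem e))
    rintro _ ⟨i, ⟨-, hi⟩, rfl⟩
    exact ⟨b ⟨i, by omega⟩, Set.mem_range_self _, Subtype.ext rfl⟩
  have hidx : (frattini E).index = p ^ d := by
    have h := (frattini E).card_mul_index
    have e1 : Nat.card (frattini E) = p ^ (n - 1 - (k + d)) := by
      rw [← H.data.toBase.L_card (by have := H.k1; omega) hdn, ← H.frat]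
      exact Nat.card_congr (Subgroup.equivMapOfInjective _ _ (Subgroup.inclusion_injective H.le)).toEquiv
    have e2 : Nat.card E = p ^ (n - 1 - k) := by
      rw [← H.data.toBase.L_card H.k1 (by omega), ← H.eq_L]
      exact (Nat.card_congr (Subgroup.subgroupOfEquivOfLe H.le).toEquiv).symm
    rw [e1, e2, show n - 1 - k = n - 1 - (k + d) + d by omega, pow_add] at h
    exact Nat.eq_of_mul_eq_mul_left (pow_pos hp.out.pos _) h
  obtain ⟨P, hP⟩ := exists_frame (H.isP.to_le H.le) b hgen hidx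
  exact ⟨a₀, P, ha, ha', fun j => by rw [hP]⟩

variable {P : Frame p d E} {a₀ : S} (A : Adapted P k x a₀)
include A

theorem inclusion_b (j : Fin d) : Subgroup.inclusion H.le (P.b j) = chain x a₀ j :=
  Subtype.ext (A.hb j)

/-- The coordinates of an element of a deep term start late. -/
theorem coord_deep {j : ℕ} (hj : j ≤ d) {g : E} (hg : Subgroup.inclusion H.le g ∈ L S (k + j))
    (i : Fin d) (hi : (i : ℕ) < j) : P.coord g i = 0 := by
  let U : Subgroup E :=
    { carrier := {g | P.coord g i = 0}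
      one_mem' := by show P.coord 1 i = 0; rw [Frame.coord, map_one]; rfl
      mul_mem' := fun {a b} (ha : _ = _) (hb : _ = _) => by
        show P.coord (a * b) i = 0
        rw [P.coord_mul, Pi.add_apply, ha, hb, add_zero]
      inv_mem' := fun {a} (ha : _ = _) => by
        show P.coord a⁻¹ i = 0
        rw [Frame.coord, map_inv, toAdd_inv, Pi.neg_apply, ← Frame.coord, ha, neg_zero] }
  have hle : Subgroup.closure ((fun q : Fin d => P.b q) '' {q | j ≤ (q : ℕ)}) ⊔ frattini E ≤ U :=
    sup_le ((Subgroup.closure_le _).2 (by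
        rintro _ ⟨q, hq, rfl⟩
        show P.coord (P.b q) i = 0
        rw [P.coord_b, Pi.single_eq_of_ne]
        intro e
        have : (j : ℕ) ≤ (i : ℕ) := e ▸ hq
        omega))
      fun g hg => by
        show P.coord g i = 0
        rw [P.coord_eq_zero.2 hg]; rfl
  refine hle ?_
  rw [← Subgroup.mem_map_iff_mem (Subgroup.inclusion_injective H.le), Subgroup.map_sup,
    MonoidHom.map_closure, H.frat]
  refine (sup_le_sup_right (Subgroup.closure_mono ?_) _)
    (le_closure H.data H.k1 A.mem A.notmem H.hdn (d - j) j (by omega) hg)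
  rintro _ ⟨q, ⟨hq, hq'⟩, rfl⟩
  exact ⟨P.b ⟨q, by omega⟩, ⟨⟨q, by omega⟩, hq, rfl⟩, H.inclusion_b A ⟨q, by omega⟩⟩

/-- The first possible coordinate detects the exact term. -/
theorem coord_exact (j : Fin d) {g : E} (hg : Subgroup.inclusion H.le g ∈ L S (k + j)) :
    P.coord g j = 0 ↔ Subgroup.inclusion H.le g ∈ L S (k + j + 1) := by
  have hdn := H.hdn
  have hjd := j.2
  refine ⟨fun h => ?_, fun h => H.coord_deep A (j := j + 1) (by omega) (by rwa [← add_assoc]) j
    (Nat.lt_succ_self _)⟩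
  obtain ⟨c, hc⟩ := exists_pow_of_step (p := p) (L_le (Nat.le_succ (k + j)))
    (relIndex_step H.data H.k1 A.mem A.notmem (by have := H.k1; omega) (by omega))
    (chain_mem_add A.mem j)
    (chain_not_mem_add H.data H.k1 A.mem A.notmem j (by omega)) hg
  have hu : Subgroup.inclusion H.le ((P.b j ^ c)⁻¹ * g) ∈ L S (k + (j + 1)) := by
    rw [map_mul, map_inv, map_pow, H.inclusion_b A, ← add_assoc]
    exact hc
  have e := H.coord_deep A (by omega) hu j (Nat.lt_succ_self _)
  rw [show g = P.b j ^ c * ((P.b j ^ c)⁻¹ * g) by group, P.coord_mul, P.coord_pow, P.coord_b,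
    Pi.add_apply, e, add_zero, Pi.smul_apply, Pi.single_eq_same, nsmul_one,
    ZMod.natCast_eq_zero_iff] at h
  obtain ⟨q, rfl⟩ := h
  rw [show Subgroup.inclusion H.le g = (chain x a₀ j ^ p) ^ q *
    ((chain x a₀ j ^ (p * q))⁻¹ * Subgroup.inclusion H.le g) by rw [← pow_mul, mul_inv_cancel_left]]
  exact mul_mem (pow_mem (pow_mem_next H.data H.k1 A.mem A.notmem (by omega)) q) hc

/-- The representation of `S`. -/
theorem ent_eq (t : S) {i j : ℕ} (hi : i < d) (hj : j < d) :
    ent (P.rho (H.theta t)).val i j =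
      P.coord (H.theta t (P.b ⟨j, hj⟩) * (P.b ⟨j, hj⟩)⁻¹) ⟨i, hi⟩ + (if i = j then 1 else 0) := by
  rw [P.rho_val, P.ent_mat _ hi hj]
  conv_lhs => rw [← inv_mul_cancel_right (H.theta t (P.b ⟨j, hj⟩)) (P.b ⟨j, hj⟩)]
  rw [P.coord_mul, Pi.add_apply, P.coord_b, Pi.single_apply]
  simp only [Fin.mk.injEq]

theorem inclusion_disp (t : S) (j : Fin d) :
    Subgroup.inclusion H.le (H.theta t (P.b j) * (P.b j)⁻¹) = ⁅t, chain x a₀ j⁆ := by
  rw [map_mul, map_inv, H.theta_apply, H.inclusion_b A, commutatorElement_def]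

theorem disp_mem (t : S) (j : Fin d) :
    Subgroup.inclusion H.le (H.theta t (P.b j) * (P.b j)⁻¹) ∈ L S (k + j + 1) := by
  rw [H.inclusion_disp A, ← commutatorElement_inv]
  exact inv_mem (comm_mem_succ (chain_mem_add A.mem j) t)

theorem uni (t : S) : Uni (P.rho (H.theta t)).val := by
  intro i j hij
  by_cases hi : i < d
  swap
  · exact ent_of_row _ (le_of_not_gt hi)
  by_cases hj : j < d
  swap
  · exact ent_of_col _ (le_of_not_gt hj)
  rw [ent_sub, H.ent_eq A t hi hj,
    H.coord_deep A (j := j + 1) (by omega) (by rw [← add_assoc]; exact H.disp_mem A t ⟨j, hj⟩)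
      ⟨i, hi⟩ (by show i < j + 1; omega), zero_add, ent_one]
  by_cases e : i = j
  · rw [if_pos e, if_pos ⟨e, hi⟩, sub_self]
  · rw [if_neg e, if_neg (fun h => e h.1), sub_zero]

theorem subdiag_eq_zero (t : S) {q : ℕ} (hq : q + 1 < d) :
    ent (P.rho (H.theta t)).val (q + 1) q = 0 ↔ t ∈ stepCent S (k + q) := by
  rw [H.ent_eq A t hq (show q < d by omega), if_neg (by omega), add_zero,
    H.coord_exact A ⟨q + 1, hq⟩
      (by show _ ∈ L S (k + (q + 1)); rw [← add_assoc]; exact H.disp_mem A t ⟨q, by omega⟩),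
    H.inclusion_disp A]
  show _ ∈ L S (k + (q + 1) + 1) ↔ _
  rw [show k + (q + 1) + 1 = k + q + 2 by omega]
  constructor
  · intro h
    refine H.data.toBase.mem_stepCent_of_exact (by have := H.k1; omega) (chain_mem_add A.mem q)
      (chain_not_mem_add H.data H.k1 A.mem A.notmem q (by have := H.hdn; omega)) ?_
    rw [← commutatorElement_inv]
    exact inv_mem h
  · intro h
    rw [← commutatorElement_inv]
    exact inv_mem (mem_stepCent.1 h _ (chain_mem_add A.mem q))

theorem x_eq : (P.rho (H.theta x)).val = 1 + sh p d 1 := by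
  refine ext_ent fun i j hi hj => ?_
  rw [H.ent_eq A x hi hj, ent_add, ent_one, ent_sh, add_comm (if i = j ∧ i < d then (1 : ZMod p) else 0)]
  congr 1
  · by_cases hj1 : j + 1 < d
    · have e : H.theta x (P.b ⟨j, hj⟩) * (P.b ⟨j, hj⟩)⁻¹ = P.b ⟨j + 1, hj1⟩ :=
        Subgroup.inclusion_injective H.le (by
          rw [H.inclusion_disp A, H.inclusion_b A]; rfl)
      rw [e, P.coord_b, Pi.single_apply]
      by_cases h : i = j + 1
      · rw [if_pos (Fin.ext h), if_pos ⟨h, hi⟩]
      · rw [if_neg (fun h' => h (congrArg Fin.val h')), if_neg (fun h' => h h'.1)]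
    · have e : H.theta x (P.b ⟨j, hj⟩) * (P.b ⟨j, hj⟩)⁻¹ ∈ frattini E := by
        rw [H.mem_frattini, show k + d = k + j + 1 by omega]
        exact H.disp_mem A x ⟨j, hj⟩
      rw [P.coord_eq_zero.2 e, if_neg (by omega)]
      rfl
  · by_cases h : i = j
    · rw [if_pos h, if_pos ⟨h, hi⟩]
    · rw [if_neg h, if_neg (fun h' => h h'.1)]

omit A in
theorem isPGroup_autGroup_ker :
    IsPGroup p ((P.rho).comp (F.autGroup E).subtype).ker := by
  haveI := finite_of_le H.le
  intro a
  obtain ⟨m, hm⟩ := RankThree.pow_eq_one_of_frattini (H.isP.to_le H.le) ((a : F.autGroup E) : MulAut E)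
    (P.rho_eq_one.1 a.2)
  exact ⟨m, Subtype.ext (Subtype.ext hm)⟩

omit A in
/-- A normal `p`-subgroup of the image of the automizer is trivial. -/
theorem rho_eq_one_of_normal {N : Subgroup (F.autGroup E)} (hN : N.Normal) (hp' : IsPGroup p N)
    {α : MulAut E} (hα : α ∈ F.autGroup E) (hαN : (⟨α, hα⟩ : F.autGroup E) ∈ N) :
    α ∈ Inn E := by
  rw [← (radical_of_stronglyEmbedded H.isP H.ess).2]
  exact ⟨⟨α, hα⟩, (le_sSup ⟨hN, hp'⟩ : N ≤ pCore p (F.autGroup E)) hαN, rfl⟩

omit A in
theorem inn_le_ker {α : MulAut E} (hα : α ∈ Inn E) : P.rho α = 1 := by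
  haveI := finite_of_le H.le
  obtain ⟨u, rfl⟩ := hα
  refine P.rho_eq_one.2 fun g => ?_
  refine Cfsg.Lib.PGroups.commutator_le_frattini (H.isP.to_le H.le) ?_
  show u * g * u⁻¹ * g⁻¹ ∈ _
  rw [← commutatorElement_def]
  exact Subgroup.commutator_mem_commutator (Subgroup.mem_top _) (Subgroup.mem_top _)

/-- The kernel of the representation is `E`. -/
theorem ker_eq : (P.rho.comp H.theta).ker = L S k := by
  haveI := finite_of_le H.le
  ext t
  constructor
  · intro ht
    have hα : H.theta t ∈ F.autGroup E := autInducedBy_le H.le (H.range_theta ▸ ⟨t, rfl⟩)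
    obtain ⟨u, hu⟩ := H.rho_eq_one_of_normal (MonoidHom.normal_ker _)
      H.isPGroup_autGroup_ker hα ht
    rw [← H.mem_iff]
    have hc : (u : Ω)⁻¹ * t ∈ centralizerIn S E := by
      refine mem_centralizerIn.2 ⟨mul_mem (inv_mem (H.le u.2)) t.2, fun e he => ?_⟩
      have h1 := congrArg (fun α : MulAut E => ((α ⟨e, he⟩ : E) : Ω)) hu
      have h2 : (u : Ω) * e * (u : Ω)⁻¹ = (t : Ω) * e * (t : Ω)⁻¹ := h1
      calc (u : Ω)⁻¹ * t * e * ((u : Ω)⁻¹ * t)⁻¹ = (u : Ω)⁻¹ * ((t : Ω) * e * (t : Ω)⁻¹) * u := by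
            group
        _ = e := by rw [← h2]; group
    have h3 := H.ess.1.2 E (isConj_refl H.le) hc
    rw [show (t : Ω) = u * ((u : Ω)⁻¹ * t) by group]
    exact mul_mem u.2 h3
  · intro ht
    refine H.inn_le_ker (P := P) ⟨⟨t, (H.mem_iff t).2 ht⟩, ?_⟩
    exact MulEquiv.ext fun e => Subtype.ext rfl

omit A in
/-- The image of the automizer has no normal `p`-subgroup. -/
theorem normal_trivial {N : Subgroup (GLd p d)} (hN : N ≤ (F.autGroup E).map P.rho) (hp' : IsPGroup p N)
    (hn : ∀ g ∈ (F.autGroup E).map P.rho, ∀ v ∈ N, g * v * g⁻¹ ∈ N) : N = ⊥ := by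
  haveI := finite_of_le H.le
  set f : F.autGroup E →* GLd p d := P.rho.comp (F.autGroup E).subtype
  have hp2 : IsPGroup p (N.comap f) :=
    hp'.comap_of_ker_isPGroup f H.isPGroup_autGroup_ker
  have hn2 : (N.comap f).Normal := ⟨fun a ha b => by
    rw [Subgroup.mem_comap, map_mul, map_mul, map_inv]
    exact hn _ ⟨b, b.2, rfl⟩ _ ha⟩
  refine (Subgroup.eq_bot_iff_forall _).2 fun v hv => ?_
  obtain ⟨α, hα, rfl⟩ := hN hv
  exact H.inn_le_ker (H.rho_eq_one_of_normal hn2 hp2 hα hv)

omit A in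
theorem syl : ¬ p ∣ (P.rho.comp H.theta).range.relIndex ((F.autGroup E).map P.rho) := by
  haveI := finite_of_le H.le
  have h := ((isFullyAutomized_iff H.isP).1 (fullyNormalized_props H.isP H.sat H.ess.2.1).2.1).2
  rw [MonoidHom.range_comp, H.range_theta]
  intro h'
  have h1 := relIndex_map_dvd (P.rho.comp (F.autGroup E).subtype)
    ((autInducedBy S E).subgroupOf (F.autGroup E))
  rw [MonoidHom.range_comp, Subgroup.range_subtype, ← Subgroup.map_map, Subgroup.subgroupOf_map_subtype,
    inf_eq_left.2 (autInducedBy_le H.le)] at h1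
  exact h (h'.trans h1)

theorem d_le : d ≤ p := by
  have hk := H.hkn
  by_contra hlt
  have hxp : x ^ p ∈ L S k := by
    rw [← H.mem_iff]
    refine H.ess.1.2 E (isConj_refl H.le) (mem_centralizerIn.2 ⟨(x ^ p : S).2, fun e he => ?_⟩)
    have := congrArg Subtype.val ((Subgroup.mem_center_iff.1 H.data.ord) ⟨e, H.le he⟩)
    simp only [Subgroup.coe_mul] at this
    rw [← this]
    group
  rw [← H.ker_eq A, MonoidHom.mem_ker, map_pow] at hxp
  have e := congrArg (fun g : GLd p d => ent g.val p 0) hxp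
  simp only [Units.val_pow_eq_pow_val, MonoidHom.comp_apply, H.x_eq A, Units.val_one] at e
  haveI : Nonempty (Fin d) := ⟨⟨0, H.hd⟩⟩
  have hp0 := hp.out.pos
  rw [add_pow_char_of_commute (p := p) (Commute.one_left (sh p d 1)), one_pow, sh_one_pow, ent_add,
    ent_one, ent_sh, if_neg (by omega), if_pos ⟨by omega, by omega⟩, zero_add] at e
  exact one_ne_zero e

end Site

end Cfsg.Lib.Fusion.MaxClassNormal
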