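import Cfsg.Agent.Fusion.MaxClassNormal.Model
import Cfsg.Agent.Fusion.MaxClassNormal.Layers

/-!
The Sylow subgroup of order `p ^ 3` in the dimension `2 e - 1`: the centralizer of the centre keeps
the flag, the centre is weakly closed, and the tensor sum finishes.
-/

set_option autoImplicit false
set_option linter.unusedSectionVars false
set_option linter.style.haveILetI false
set_option maxHeartbeats 1000000

namespace Cfsg.Lib.Fusion.MaxClassNormal

open Finset
open Cfsg.Lib.PGroups MaxClassRank MaxClassThree MaxClassAgemo MaxClassDegree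
open scoped commutatorElement

universe u

variable {p d : ℕ} [hp : Fact p.Prime]

/-- The data in the matrices. -/
structure Three (G T : Subgroup (GLd p d)) (x s y : GLd p d) (e : ℕ) : Prop
    extends Central G T x y e where
  dim : d + 1 = 2 * e
  e3 : 3 ≤ e
  s_mem : s ∈ T
  rel : x * s = s * y * x
  sub : ∀ q, ent s.val (q + 1) q = 0
  fix_s : ∀ i, e ≤ i → Commute s.val (sh p d i)
  decomp : ∀ τ ∈ T, ∃ a b c : ℕ, τ = x ^ a * s ^ b * y ^ c

namespace Three

variable {G T : Subgroup (GLd p d)} {x s y : GLd p d} {e : ℕ} (H : Three G T x s y e)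
include H

theorem comm_sy : Commute s y := H.comm s H.s_mem

theorem comm_xy : Commute x y := H.comm x H.x_mem

theorem pow_eq {u : GLd p d} (hu : u ∈ T) {i j : ℕ} (h : (i : ZMod p) = (j : ZMod p)) :
    u ^ i = u ^ j := by
  rcases eq_or_ne u 1 with rfl | hne
  · rw [one_pow, one_pow]
  rw [pow_eq_pow_iff_modEq, orderOf_eq_prime (H.pow_p hu) hne]
  exact (ZMod.natCast_eq_natCast_iff i j p).1 h

theorem pow_one_of {u : GLd p d} (hu : u ∈ T) {i : ℕ} (h : (i : ZMod p) = 0) : u ^ i = 1 :=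
  (H.pow_eq hu (j := 0) (by rw [h, Nat.cast_zero])).trans (pow_zero u)

theorem eq_zero_of_y_pow {i : ℕ} (h : y ^ i = 1) : (i : ZMod p) = 0 := by
  rw [ZMod.natCast_eq_zero_iff, ← orderOf_eq_prime (H.pow_p H.y_mem) H.y_ne_one]
  exact orderOf_dvd_of_pow_eq_one h

theorem conj_s_pow (a b : ℕ) : x ^ a * s ^ b = s ^ b * y ^ (a * b) * x ^ a := by
  have h1 : ∀ a : ℕ, x ^ a * s = s * y ^ a * x ^ a := by
    intro a
    induction a with
    | zero => simp
    | succ a ih =>
      calc x ^ (a + 1) * s = x * (x ^ a * s) := by rw [pow_succ']; group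
        _ = (x * s) * y ^ a * x ^ a := by rw [ih]; simp only [mul_assoc]
        _ = s * y * (x * y ^ a) * x ^ a := by rw [H.rel]; simp only [mul_assoc]
        _ = s * y * (y ^ a * x) * x ^ a := by rw [(H.comm_xy.pow_right a).eq]
        _ = s * y ^ (a + 1) * x ^ (a + 1) := by
          rw [pow_succ' y, pow_succ' x]; simp only [mul_assoc]
  induction b with
  | zero => simp
  | succ b ih =>
    calc x ^ a * s ^ (b + 1) = (x ^ a * s ^ b) * s := by rw [pow_succ, mul_assoc]
      _ = s ^ b * y ^ (a * b) * (x ^ a * s) := by rw [ih]; simp only [mul_assoc]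
      _ = s ^ b * (y ^ (a * b) * s) * y ^ a * x ^ a := by rw [h1]; simp only [mul_assoc]
      _ = s ^ b * (s * y ^ (a * b)) * y ^ a * x ^ a := by rw [(H.comm_sy.symm.pow_left _).eq]
      _ = s ^ (b + 1) * y ^ (a * (b + 1)) * x ^ a := by
        rw [pow_succ, Nat.mul_succ, pow_add]; simp only [mul_assoc]

theorem subdiag (a b c q : ℕ) (hq : q + 1 < d) :
    ent (x ^ a * s ^ b * y ^ c).val (q + 1) q = (a : ZMod p) := by
  have hy : ent y.val (q + 1) q = 0 := by
    have := H.deg (q + 1) q (by have := H.he; omega)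
    rwa [ent_sub, ent_one, if_neg (by omega), sub_zero] at this
  rw [Units.val_mul, Units.val_mul, Units.val_pow_eq_pow_val, Units.val_pow_eq_pow_val,
    Units.val_pow_eq_pow_val,
    subdiag_mul (Uni.mul (deg_pow_sub_one (H.uni x H.x_mem) a) (deg_pow_sub_one (H.uni s H.s_mem) b))
      (deg_pow_sub_one (H.uni y H.y_mem) c),
    subdiag_mul (deg_pow_sub_one (H.uni x H.x_mem) a) (deg_pow_sub_one (H.uni s H.s_mem) b),
    subdiag_pow (H.uni x H.x_mem), subdiag_pow (H.uni s H.s_mem), subdiag_pow (H.uni y H.y_mem),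
    H.sub, hy, mul_zero, mul_zero, add_zero, add_zero, H.x_eq, ent_add, ent_one, if_neg (by omega),
    zero_add, ent_sh, if_pos ⟨rfl, hq⟩, mul_one]

theorem single_or {τ : GLd p d} (hτ : τ ∈ T) :
    Single (τ.val - 1) ∨ ∃ b c : ℕ, τ = s ^ b * y ^ c := by
  obtain ⟨a, b, c, rfl⟩ := H.decomp τ hτ
  rcases eq_or_ne (a : ZMod p) 0 with ha | ha
  · exact Or.inr ⟨b, c, by rw [H.pow_one_of H.x_mem ha, one_mul]⟩
  · refine Or.inl ⟨H.uni _ hτ, fun q hq => ?_⟩
    rw [ent_sub, ent_one, if_neg (by omega), sub_zero, H.subdiag a b c q hq]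
    exact ha

/-- The blocks of the upper layers see only an abelian image. -/
theorem blk_s (hp5 : 5 ≤ p) {a d' : ℕ} (hae : a + d' ≤ e - 1) (ha : Cut (cGrp G y) a)
    (hb : Cut (cGrp G y) (a + d')) (hno : ∀ t, a < t → t < a + d' → ¬ Cut (cGrp G y) t) :
    blk a d' s.val = 1 := by
  classical
  have hde := H.dim
  have hed := H.hed
  by_contra hne
  have hd2 : 2 ≤ d' := by
    by_contra hlt
    refine hne (ext_ent fun i j hi hj => ?_)
    obtain rfl : i = 0 := by omega
    obtain rfl : j = 0 := by omega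
    rw [ent_blk _ _ _ hi hj, ent_one, if_pos ⟨rfl, hi⟩, (H.uni s H.s_mem).diag (by omega)]
  have hd : a + d' ≤ d := by omega
  let φ := blkHom (cGrp G y) a d' hd (fun g hg => ⟨ha g hg, hb g hg⟩)
  have hv : ∀ g : ↥(cGrp G y), (φ g).val = blk a d' (g : GLd p d).val := fun _ => rfl
  have HS := setting_block hd H.le hd2 H.le_C H.x_mem H.x_eq H.uni H.syl_C ha hb hno
  set x' := φ ⟨x, H.le_C H.x_mem⟩
  set s' := φ ⟨s, H.le_C H.s_mem⟩
  have hy1 : φ ⟨y, H.le_C H.y_mem⟩ = 1 := Units.ext (by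
    rw [hv, Units.val_one, ← sub_eq_zero, ← blk_one (p := p) (d := d) hd, ← blk_sub]
    exact (H.deg.blk (a := a) (d' := d')).eq_zero (by omega))
  have hxs : x' * s' = s' * x' := by
    show φ _ * φ _ = φ _ * φ _
    have h : (⟨x, H.le_C H.x_mem⟩ : ↥(cGrp G y)) * ⟨s, H.le_C H.s_mem⟩ =
        ⟨s, H.le_C H.s_mem⟩ * ⟨y, H.le_C H.y_mem⟩ * ⟨x, H.le_C H.x_mem⟩ := Subtype.ext H.rel
    rw [← map_mul, h, map_mul, map_mul, hy1, mul_one]
  have hS' : s' ∈ (T.subgroupOf (cGrp G y)).map φ := ⟨_, H.s_mem, rfl⟩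
  have hT' : ∀ τ ∈ (T.subgroupOf (cGrp G y)).map φ, ∃ i j : ℕ, τ = x' ^ i * s' ^ j := by
    rintro _ ⟨g, hg, rfl⟩
    obtain ⟨i, j, c, hg'⟩ := H.decomp _ hg
    refine ⟨i, j, ?_⟩
    have h : g = (⟨x, H.le_C H.x_mem⟩ : ↥(cGrp G y)) ^ i * ⟨s, H.le_C H.s_mem⟩ ^ j *
        ⟨y, H.le_C H.y_mem⟩ ^ c := Subtype.ext hg'
    rw [h, map_mul, map_mul, map_pow, map_pow, map_pow, hy1, one_pow, mul_one]
  have hcomm : ∀ τ ∈ (T.subgroupOf (cGrp G y)).map φ, τ * s' = s' * τ := by
    intro τ hτ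
    obtain ⟨i, j, rfl⟩ := hT' τ hτ
    exact (((show Commute x' s' from hxs).pow_left i).mul_left ((Commute.refl s').pow_left j)).eq
  have hsh : Commute (s'.val - 1) (sh p d' 1) := by
    have h := commute_sub_one hxs
    rw [HS.x_eq, add_mul, mul_add, one_mul, mul_one] at h
    exact (add_left_cancel h).symm
  have hex : ∃ δ, δ < d' ∧ ent (s'.val - 1) δ 0 ≠ 0 := by
    by_contra h
    push Not at h
    refine hne ?_
    rw [← hv ⟨s, H.le_C H.s_mem⟩, ← sub_eq_zero]
    refine ext_ent fun i j hi hj => ?_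
    rw [ent_zero]
    rcases Nat.lt_or_ge i j with hij | hij
    · exact deg_zero_of_commute hsh i j (by omega)
    · obtain ⟨δ, rfl⟩ := Nat.exists_eq_add_of_le hij
      show ent (s'.val - 1) (j + δ) j = 0
      rw [ent_of_commute hsh j hi]
      exact h δ (by omega)
  obtain ⟨hfd, hlead⟩ := Nat.find_spec hex
  have hlow : ∀ δ, δ < Nat.find hex → ent (s'.val - 1) δ 0 = 0 := fun δ h => by
    by_contra hne'
    exact Nat.find_min hex h ⟨by omega, hne'⟩
  have hdeg : Deg (Nat.find hex) (s'.val - 1) := fun i j hij => by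
    by_cases hi : i < d'
    swap
    · exact ent_of_row _ (le_of_not_gt hi)
    rcases Nat.lt_or_ge i j with h | h
    · exact deg_zero_of_commute hsh i j (by omega)
    · obtain ⟨δ, rfl⟩ := Nat.exists_eq_add_of_le h
      rw [ent_of_commute hsh j hi]
      exact hlow δ (by omega)
  have h2 : 2 ≤ Nat.find hex := by
    by_contra hlt
    rcases (show Nat.find hex = 0 ∨ Nat.find hex = 1 by omega) with h | h <;> rw [h] at hlead
    · exact hlead ((HS.uni s' hS') 0 0 (by omega))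
    · refine hlead ?_
      rw [hv, ent_sub, ent_blk _ _ _ (by omega) (by omega), ent_one, if_neg (by omega), sub_zero]
      exact H.sub a
  exact Central.false_of_abelian ⟨HS, hS', hcomm, hdeg, hlead, h2, hfd⟩ hp5 hT'

/-- A layer boundary lies in between. -/
def Sep (G : Subgroup (GLd p d)) (y : GLd p d) (i j : ℕ) : Prop :=
  ∃ b, Cut (cGrp G y) b ∧ j < b ∧ b ≤ i

theorem exists_normal (hp5 : 5 ≤ p) : ∃ N : Subgroup (GLd p d), N ≤ T ∧ s ∈ N ∧ y ∈ N ∧
    ∀ g ∈ cGrp G y, ∀ u ∈ N, g * u * g⁻¹ ∈ N := by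
  classical
  have hde := H.dim
  have hed := H.hed
  set C := cGrp G y
  let P : Mx p d → Prop := fun M => ∀ i j, i < e → ¬ Sep G y i j → ent M i j = 0
  have hsep : ∀ {i j l : ℕ}, Sep G y i j → Sep G y j l → Sep G y i l := fun {i j l} => by
    rintro ⟨b, hb, h1, h2⟩ ⟨b', -, h1', h2'⟩
    exact ⟨b, hb, by omega, h2⟩
  have hmulP : ∀ A B, P (A - 1) → P (B - 1) → P (A * B - 1) := fun A B hA hB i j hi hij => by
    rw [show A * B - 1 = (A - 1) * (B - 1) + ((A - 1) + (B - 1)) by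
      simp only [sub_mul, mul_sub, one_mul, mul_one]; abel, ent_add, ent_add, hA i j hi hij,
      hB i j hi hij, add_zero, add_zero]
    refine ent_mul_eq_zero _ _ _ _ fun q _ => ?_
    by_cases h1 : Sep G y i q
    · obtain ⟨b, hb, hq, hbi⟩ := h1
      rw [hB q j (by omega) fun h2 => hij (hsep ⟨b, hb, hq, hbi⟩ h2), mul_zero]
    · rw [hA i q hi h1, zero_mul]
  let N : Subgroup (GLd p d) :=
    { carrier := {c | c ∈ C ∧ P (c.val - 1)}
      one_mem' := ⟨C.one_mem, fun i j _ _ => by rw [Units.val_one, sub_self, ent_zero]⟩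
      mul_mem' := fun {a b} ha hb => ⟨C.mul_mem ha.1 hb.1, by rw [Units.val_mul]; exact hmulP _ _ ha.2 hb.2⟩
      inv_mem' := fun {a} ha => ⟨C.inv_mem ha.1, prop_inv (P := fun A => P (A - 1))
        (fun i j _ _ => by rw [sub_self, ent_zero]) hmulP ha.2⟩ }
  have hN : ∀ g ∈ C, ∀ u ∈ N, g * u * g⁻¹ ∈ N := by
    rintro g hg u ⟨huC, hu⟩
    refine ⟨C.mul_mem (C.mul_mem hg huC) (C.inv_mem hg), fun i j hi hij => ?_⟩
    rw [show (g * u * g⁻¹).val - 1 = g.val * ((u.val - 1) * (↑g⁻¹ : Mx p d)) by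
      rw [Units.val_mul, Units.val_mul, sub_mul, one_mul, mul_sub, Units.mul_inv, mul_assoc]]
    refine ent_mul_eq_zero _ _ _ _ fun q _ => ?_
    by_cases hq : e ≤ q
    · rw [H.inv_e hg i q hi hq, zero_mul]
    rw [ent_mul, Finset.mul_sum]
    refine Finset.sum_eq_zero fun q' _ => ?_
    by_cases h1 : Sep G y q q'
    · obtain ⟨b, hb, h1a, h1b⟩ := h1
      rcases Nat.lt_or_ge i b with hib | hib
      · rw [hb g hg i q hib h1b, zero_mul]
      · rcases Nat.lt_or_ge j b with hjb | hjb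
        · exact absurd ⟨b, hb, hjb, hib⟩ hij
        · rw [inv_inv_block (hb g hg) q' j h1a hjb, mul_zero, mul_zero]
    · rw [hu q q' (by omega) h1, zero_mul, mul_zero]
  have hNp : IsPGroup p N := by
    rintro ⟨c, hcC, hc⟩
    have hpow : ∀ m i j, i < e → i < j + m → ent ((c.val - 1) ^ m) i j = 0 := by
      intro m
      induction m with
      | zero =>
        intro i j _ hlt
        rw [pow_zero, ent_one, if_neg (by omega)]
      | succ m ih =>
        intro i j hi hlt
        rw [pow_succ']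
        refine ent_mul_eq_zero _ _ _ _ fun q _ => ?_
        by_cases h1 : Sep G y i q
        · obtain ⟨b, hb, hq, hbi⟩ := h1
          rw [ih q j (by omega) (by omega), mul_zero]
        · rw [hc i q hi h1, zero_mul]
    have hzero : (c.val - 1) ^ (e + e) = 0 := by
      rw [pow_add]
      exact H.mul_self_eq_zero (by omega)
        (show Commute ((c.val - 1) ^ e) (y.val - 1) from
          ((show Commute c.val (y.val - 1) from commute_sub_one (mem_cGrp.1 hcC).2).sub_left
            (Commute.one_left _)).pow_left e).eq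
        fun i j hi => hpow e i j hi (by omega)
    exact ⟨e + e, Subtype.ext (pow_eq_one_of_nilpotent hzero)⟩
  have hNT : N ≤ T := H.normal_le (fun c hc => hc.1) hNp hN
  have cut0 : Cut C 0 := fun g _ => inv_zero _
  have cutTop : Cut C (e - 1) := fun g hg => by
    have := H.inv_de hg
    rwa [show d - e = e - 1 by omega] at this
  refine ⟨N, hNT, ⟨H.le_C H.s_mem, fun i j hi hij => ?_⟩, ⟨H.le_C H.y_mem, fun i j hi _ => ?_⟩, hN⟩
  · have hu := H.uni s H.s_mem
    rcases Nat.lt_or_ge i (j + 1) with hle | hlt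
    · exact hu i j hle
    by_cases hie : i = e - 1
    · exact absurd ⟨e - 1, cutTop, by omega, by omega⟩ hij
    have hexa : ∃ a, Cut C a ∧ a ≤ j ∧ ∀ t, a < t → t ≤ j → ¬ Cut C t := by
      have h1 := Nat.findGreatest_spec (P := fun t => Cut C t) (Nat.zero_le j) cut0
      exact ⟨_, h1, Nat.findGreatest_le j,
        fun t h2 h3 h4 => (Nat.findGreatest_is_greatest h2 h3) h4⟩
    obtain ⟨a, ha, haj, hamax⟩ := hexa
    have hexb : ∃ b, Cut C b ∧ j < b := ⟨e - 1, cutTop, by omega⟩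
    obtain ⟨hb, hjb⟩ := Nat.find_spec hexb
    have hib : i < Nat.find hexb := by
      by_contra hcon
      exact hij ⟨_, hb, hjb, by omega⟩
    have hbe : Nat.find hexb ≤ e - 1 := Nat.find_min' hexb ⟨cutTop, by omega⟩
    have h := H.blk_s hp5 (a := a) (d' := Nat.find hexb - a) (by omega) ha
      (by rw [show a + (Nat.find hexb - a) = Nat.find hexb by omega]; exact hb) (fun t ht ht' hc => by
        rcases Nat.lt_or_ge j t with h1 | h1
        · exact Nat.find_min hexb (show t < _ by omega) ⟨hc, h1⟩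
        · exact hamax t ht h1 hc)
    have h1 := congrArg (fun A => ent A (i - a) (j - a)) h
    simp only [ent_blk (p := p) (d := d) a _ _ (show i - a < Nat.find hexb - a by omega)
      (show j - a < Nat.find hexb - a by omega), ent_one] at h1
    rw [if_neg (by omega), show a + (i - a) = i by omega, show a + (j - a) = j by omega] at h1
    rw [ent_sub, ent_one, if_neg (by omega), sub_zero, h1]
  · exact H.deg i j (by omega)

/-- The centralizer of the centre keeps the flag. -/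
theorem lower_C (hp5 : 5 ≤ p) : ∀ c ∈ cGrp G y, Deg 0 c.val := by
  classical
  have hde := H.dim
  have hed := H.hed
  obtain ⟨N, hNT, hsN, hyN, hN⟩ := H.exists_normal hp5
  intro c hcC
  by_cases hsing : ∃ u ∈ N, Single (u.val - 1)
  · obtain ⟨u, hu, hus⟩ := hsing
    exact H.lower_of_single hus (by simpa using hNT (hN c⁻¹ (inv_mem hcC) u hu))
  -- the normal subgroup is `⟨s, y⟩`
  have hNform : ∀ u ∈ N, ∃ b c : ℕ, u = s ^ b * y ^ c := fun u hu =>
    (H.single_or (hNT hu)).resolve_left fun h => hsing ⟨u, hu, h⟩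
  obtain ⟨α, β, hα⟩ := hNform _ (hN c⁻¹ (inv_mem hcC) s hsN)
  rw [inv_inv] at hα
  have hcy : c * y = y * c := (mem_cGrp.1 hcC).2
  have hz : (c * x * c⁻¹) * s * (c * x * c⁻¹)⁻¹ = x ^ α * s * (x ^ α)⁻¹ := by
    have h1 : x * (s ^ α * y ^ β) * x⁻¹ = s ^ α * y ^ β * y ^ α := by
      calc x * (s ^ α * y ^ β) * x⁻¹ = (x ^ 1 * s ^ α) * y ^ β * x⁻¹ := by
            rw [pow_one]; simp only [mul_assoc]
        _ = s ^ α * y ^ (1 * α) * (x * y ^ β) * x⁻¹ := by
            rw [H.conj_s_pow 1 α, pow_one]; simp only [mul_assoc]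
        _ = s ^ α * y ^ α * y ^ β := by
            rw [(H.comm_xy.pow_right β).eq, one_mul]; group
        _ = s ^ α * y ^ β * y ^ α := by rw [mul_assoc, mul_assoc, (Commute.pow_pow_self y α β).eq]
    have h2 : x ^ α * s * (x ^ α)⁻¹ = s * y ^ α := by
      have := H.conj_s_pow α 1
      rw [pow_one, mul_one] at this
      rw [this]; group
    calc (c * x * c⁻¹) * s * (c * x * c⁻¹)⁻¹ = c * (x * (c⁻¹ * s * c) * x⁻¹) * c⁻¹ := by group
      _ = c * (s ^ α * y ^ β * y ^ α) * c⁻¹ := by rw [hα, h1]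
      _ = c * (c⁻¹ * s * c * y ^ α) * c⁻¹ := by rw [hα]
      _ = s * (c * y ^ α) * c⁻¹ := by group
      _ = s * (y ^ α * c) * c⁻¹ := by
        rw [((show Commute c y from hcy).pow_right α).eq]
      _ = x ^ α * s * (x ^ α)⁻¹ := by rw [h2]; group
  set W : Subgroup (GLd p d) := cGrp G y ⊓ Subgroup.centralizer {s}
  set z := (x ^ α)⁻¹ * (c * x * c⁻¹)
  have hxC : x ∈ cGrp G y := H.le_C H.x_mem
  have hzC : z ∈ cGrp G y := mul_mem (inv_mem (pow_mem hxC α))
    (mul_mem (mul_mem hcC hxC) (inv_mem hcC))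
  have hzW : z ∈ W := by
    refine ⟨hzC, Subgroup.mem_centralizer_singleton_iff.2 ?_⟩
    have h : z * s * z⁻¹ = s := by
      calc z * s * z⁻¹ = (x ^ α)⁻¹ * ((c * x * c⁻¹) * s * (c * x * c⁻¹)⁻¹) * x ^ α := by
            simp only [z]; group
        _ = s := by rw [hz]; group
    exact mul_inv_eq_iff_eq_mul.1 h
  -- the Sylow subgroup of the centralizer
  have hWT : ∀ u ∈ W, u ∈ T → u ∈ N := fun u hu huT => by
    obtain ⟨a, b, c', rfl⟩ := H.decomp u huT
    have hs' := Subgroup.mem_centralizer_singleton_iff.1 hu.2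
    have h : x ^ a * s = s * x ^ a := by
      have e1 : Commute (s ^ b * y ^ c') s :=
        ((Commute.refl s).pow_left b).mul_left (H.comm_sy.symm.pow_left c')
      rw [mul_assoc (x ^ a), mul_assoc, e1.eq, ← mul_assoc, ← mul_assoc s] at hs'
      exact mul_right_cancel hs'
    have hya : y ^ a = 1 := by
      have := H.conj_s_pow a 1
      rw [pow_one, mul_one, h, mul_assoc] at this
      have h' := mul_left_cancel this
      exact mul_eq_right.1 h'.symm
    rw [H.pow_one_of H.x_mem (H.eq_zero_of_y_pow hya), one_mul]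
    exact mul_mem (pow_mem hsN b) (pow_mem hyN c')
  have hNW : N ≤ W := fun u hu => by
    obtain ⟨b, c', rfl⟩ := hNform u hu
    exact ⟨H.le_C (hNT hu), Subgroup.mem_centralizer_singleton_iff.2
      (((Commute.refl s).pow_left b).mul_left (H.comm_sy.symm.pow_left c')).eq⟩
  have hNp : IsPGroup p N := H.isPGroup.to_le hNT
  have hpel : ∀ u ∈ W, ∀ m : ℕ, u ^ p ^ m = 1 → u ∈ N := fun u hu m hm => by
    obtain ⟨c', hc', hcT⟩ := H.exists_conj_mem hu.1 hm
    have hcs : c' * u * c'⁻¹ ∈ W := by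
      refine ⟨(cGrp G y).mul_mem ((cGrp G y).mul_mem hc' hu.1) ((cGrp G y).inv_mem hc'), Subgroup.mem_centralizer_singleton_iff.2 ?_⟩
      obtain ⟨b, c'', hb⟩ := hNform _ (hN c'⁻¹ (inv_mem hc') s hsN)
      rw [inv_inv] at hb
      have hu' : Commute u (c'⁻¹ * s * c') := by
        rw [hb]
        exact ((show Commute u s from Subgroup.mem_centralizer_singleton_iff.1 hu.2).pow_right b).mul_right
          ((show Commute u y from (mem_cGrp.1 hu.1).2).pow_right c'')
      calc c' * u * c'⁻¹ * s = c' * (u * (c'⁻¹ * s * c')) * c'⁻¹ := by group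
        _ = c' * ((c'⁻¹ * s * c') * u) * c'⁻¹ := by rw [hu'.eq]
        _ = s * (c' * u * c'⁻¹) := by group
    have := hN c'⁻¹ (inv_mem hc') _ (hWT _ hcs hcT)
    rwa [show c'⁻¹ * (c' * u * c'⁻¹) * c'⁻¹⁻¹ = u by group] at this
  have hsyl : ¬ p ∣ N.relIndex W := by
    obtain ⟨P⟩ : Nonempty (Sylow p W) := inferInstance
    have hle : (P : Subgroup W) ≤ N.subgroupOf W := fun u hu => by
      obtain ⟨m, hm⟩ := P.2 ⟨u, hu⟩
      exact hpel _ u.2 m (congrArg (fun v : P => ((v : ↥W) : GLd p d)) hm)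
    have := P.3 (hNp.of_equiv (Subgroup.subgroupOfEquivOfLe hNW).symm) hle
    rw [Subgroup.relIndex, this]
    exact P.not_dvd_index
  haveI hNn : (N.subgroupOf W).Normal := ⟨fun u hu g => hN _ g.2.1 _ hu⟩
  have hcop : (Nat.card (N.subgroupOf W)).Coprime (N.subgroupOf W).index := by
    obtain ⟨m, hm⟩ := IsPGroup.iff_card.1 (hNp.of_equiv (Subgroup.subgroupOfEquivOfLe hNW).symm)
    rw [hm]
    exact ((hp.out.coprime_iff_not_dvd).2 hsyl).pow_left m
  obtain ⟨K, hK⟩ := Subgroup.exists_right_complement'_of_coprime hcop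
  have hKcard : ¬ p ∣ Nat.card K := by
    rw [← hK.symm.index_eq_card]; exact hsyl
  set q := Nat.card K
  have hKiff : ∀ w : W, w ∈ K ↔ w ^ q = 1 := fun w => by
    refine ⟨fun h => congrArg Subtype.val (pow_card_eq_one' (x := (⟨w, h⟩ : K))), fun h => ?_⟩
    obtain ⟨⟨m, o⟩, hmo⟩ := hK.surjective w
    simp only at hmo
    have hcomm : Commute ((m : W)) ((o : W)) := by
      refine Subtype.ext ?_
      obtain ⟨b, c', hbc⟩ := hNform _ m.2
      show ((m : W) : GLd p d) * ((o : W) : GLd p d) = ((o : W) : GLd p d) * ((m : W) : GLd p d)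
      rw [show ((m : W) : GLd p d) = s ^ b * y ^ c' from hbc]
      exact ((((show Commute ((o : W) : GLd p d) s from
        Subgroup.mem_centralizer_singleton_iff.1 (o : W).2.2).symm.pow_left b).mul_left
          ((show Commute ((o : W) : GLd p d) y from (mem_cGrp.1 (o : W).2.1).2).symm.pow_left c')).eq)
    rw [← hmo, hcomm.mul_pow, show (o : W) ^ q = 1 from
      congrArg Subtype.val (pow_card_eq_one' (x := o)), mul_one] at h
    obtain ⟨k', hk'⟩ := hNp ⟨_, m.2⟩
    have hm1 : ((m : W) : GLd p d) ^ p ^ k' = 1 := congrArg Subtype.val hk'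
    have hm2 : ((m : W) : GLd p d) ^ q = 1 := congrArg Subtype.val h
    have := pow_gcd_eq_one.2 ⟨hm1, hm2⟩
    rw [((hp.out.coprime_iff_not_dvd).2 hKcard).pow_left k', pow_one] at this
    rw [← hmo, show (m : W) = 1 from Subtype.ext this, one_mul]
    exact o.2
  have hxW : ∀ u ∈ W, x * u * x⁻¹ ∈ W := by
    rintro u ⟨huC, hus⟩
    refine ⟨(cGrp G y).mul_mem ((cGrp G y).mul_mem hxC huC) ((cGrp G y).inv_mem hxC), Subgroup.mem_centralizer_singleton_iff.2 ?_⟩
    have hus' : Commute u s := Subgroup.mem_centralizer_singleton_iff.1 hus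
    have huy : Commute u y := (mem_cGrp.1 huC).2
    have h1 : x⁻¹ * s * x = s * y⁻¹ := by
      have := H.rel
      calc x⁻¹ * s * x = x⁻¹ * (s * y * x) * x⁻¹ * (y⁻¹ * x) := by group
        _ = x⁻¹ * (x * s) * x⁻¹ * (y⁻¹ * x) := by rw [this]
        _ = s * x⁻¹ * (y⁻¹ * x) := by group
        _ = s * x⁻¹ * (x * y⁻¹) := by rw [(H.comm_xy.inv_right).eq]
        _ = s * y⁻¹ := by group
    calc x * u * x⁻¹ * s = x * (u * (x⁻¹ * s * x)) * x⁻¹ := by group
      _ = x * ((x⁻¹ * s * x) * u) * x⁻¹ := by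
        rw [h1, (hus'.mul_right huy.inv_right).eq]
      _ = s * (x * u * x⁻¹) := by group
  -- the mid entry
  have hmid : ∀ g ∈ cGrp G y, ∀ h ∈ cGrp G y, ent (g * h).val (e - 1) (e - 1) =
      ent g.val (e - 1) (e - 1) * ent h.val (e - 1) (e - 1) := fun g hg h hh => by
    rw [Units.val_mul]
    refine ent_mul_single _ _ _ _ fun a _ ha => ?_
    rcases Nat.lt_or_ge a (e - 1) with h1 | h1
    · rw [show ent h.val a (e - 1) = 0 from
        H.inv_de hh a (e - 1) (by omega) (by omega), mul_zero]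
    · rw [H.inv_e hg (e - 1) a (by omega) (by omega), zero_mul]
  set K0 : Subgroup (GLd p d) :=
    { carrier := {g | ∃ w : W, w ∈ K ∧ (w : GLd p d) = g ∧ ent g.val (e - 1) (e - 1) = 1}
      one_mem' := ⟨1, K.one_mem, rfl, by rw [Units.val_one, ent_one, if_pos ⟨rfl, by omega⟩]⟩
      mul_mem' := by
        rintro _ _ ⟨w, hw, rfl, h1⟩ ⟨w', hw', rfl, h2⟩
        exact ⟨w * w', K.mul_mem hw hw', rfl, by
          rw [hmid _ w.2.1 _ w'.2.1, h1, h2, one_mul]⟩
      inv_mem' := by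
        rintro _ ⟨w, hw, rfl, h1⟩
        refine ⟨w⁻¹, K.inv_mem hw, rfl, ?_⟩
        have := hmid _ w.2.1 _ (inv_mem w.2.1)
        rwa [mul_inv_cancel, h1, one_mul, Units.val_one, ent_one, if_pos ⟨rfl, by omega⟩, eq_comm] at this } with hK0
  have hK0card : ¬ p ∣ Nat.card K0 := fun hdvd => by
    obtain ⟨u, hu⟩ := exists_prime_orderOf_dvd_card' p hdvd
    obtain ⟨w, hw, hwu, -⟩ := u.2
    have hp1 : w ^ p = 1 := Subtype.ext (by
      rw [SubgroupClass.coe_pow, hwu, ← SubgroupClass.coe_pow,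
        orderOf_dvd_iff_pow_eq_one.1 (dvd_of_eq hu)]; rfl)
    have := pow_gcd_eq_one.2 ⟨hp1, (hKiff w).1 hw⟩
    rw [(hp.out.coprime_iff_not_dvd).2 hKcard, pow_one] at this
    have hu1 : u = 1 := Subtype.ext (by rw [← hwu, this]; rfl)
    rw [hu1, orderOf_one] at hu
    exact hp.out.ne_one hu.symm
  have hxnorm : ∀ u ∈ K0, x * u * x⁻¹ ∈ K0 := by
    rintro _ ⟨w, hw, rfl, h1⟩
    refine ⟨⟨_, hxW _ w.2⟩, (hKiff _).2 (Subtype.ext ?_), rfl, ?_⟩
    · rw [SubgroupClass.coe_pow]
      show (x * (w : GLd p d) * x⁻¹) ^ q = 1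
      rw [conj_pow, show (w : GLd p d) ^ q = 1 from congrArg Subtype.val ((hKiff w).1 hw), mul_one,
        mul_inv_cancel]
    · rw [hmid _ (mul_mem hxC w.2.1) _ (inv_mem hxC), hmid _ hxC _ w.2.1, h1, mul_one,
        ← hmid _ hxC _ (inv_mem hxC), mul_inv_cancel, Units.val_one, ent_one, if_pos ⟨rfl, by omega⟩]
  have hK0bot : ∀ u ∈ K0, u = 1 := by
    obtain ⟨P, hleft, hidem, hcomm, hdiag⟩ := exists_average K0 hK0card
    have hPx : Commute (x.val - 1) P := (hcomm x hxnorm).sub_left (Commute.one_left _)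
    rcases idempotent_commute H.single_x hPx hidem with h | h
    · exfalso
      have := hdiag (e - 1) (fun u ⟨w, _, hwu, h1⟩ => h1)
      rw [h, ent_zero] at this
      exact zero_ne_one this
    · intro u hu
      have := hleft u hu
      rw [h, mul_one] at this
      exact Units.ext (by rw [this, Units.val_one])
  have hKx : ∀ w ∈ K, Commute (w : GLd p d) x := fun w hw => by
    have h1 : x * (w : GLd p d) * x⁻¹ * (w : GLd p d)⁻¹ ∈ K0 := by
      have hx' : (⟨_, hxW _ w.2⟩ : W) ∈ K := (hKiff _).2 (Subtype.ext (by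
        rw [SubgroupClass.coe_pow]
        show (x * (w : GLd p d) * x⁻¹) ^ q = 1
        rw [conj_pow, show (w : GLd p d) ^ q = 1 from congrArg Subtype.val ((hKiff w).1 hw), mul_one,
          mul_inv_cancel]))
      refine ⟨_, K.mul_mem hx' (K.inv_mem hw), rfl, ?_⟩
      rw [hmid _ (mul_mem (mul_mem hxC w.2.1) (inv_mem hxC)) _ (inv_mem w.2.1),
        hmid _ (mul_mem hxC w.2.1) _ (inv_mem hxC), hmid _ hxC _ w.2.1,
        mul_comm (ent x.val (e - 1) (e - 1)), mul_assoc (ent (w : GLd p d).val (e - 1) (e - 1)),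
        ← hmid _ hxC _ (inv_mem hxC), mul_inv_cancel, Units.val_one, ent_one, if_pos ⟨rfl, by omega⟩,
        mul_one, ← hmid _ w.2.1 _ (inv_mem w.2.1), mul_inv_cancel, Units.val_one, ent_one,
        if_pos ⟨rfl, by omega⟩]
    have h2 := hK0bot _ h1
    rw [mul_inv_eq_one, mul_inv_eq_iff_eq_mul] at h2
    exact h2.symm
  -- the conjugate of `x` keeps the flag
  obtain ⟨⟨m, o⟩, hmo⟩ := hK.surjective ⟨z, hzW⟩
  simp only at hmo
  have hoW : Deg 0 ((o : W) : GLd p d).val := by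
    have h := commute_sub_one (hKx _ o.2).eq
    rw [H.sub_one] at h
    exact deg_zero_of_commute h
  have hw : c * x * c⁻¹ = x ^ α * (((m : W) : GLd p d) * ((o : W) : GLd p d)) := by
    rw [← Subgroup.coe_mul, hmo]; simp only [z]; group
  have hw0 : Deg 0 (c * x * c⁻¹).val := by
    rw [hw, Units.val_mul, Units.val_mul]
    exact (((H.uni _ (pow_mem H.x_mem α)).deg_zero.mul
      ((H.uni _ (hNT m.2)).deg_zero.mul hoW)))
  have hwT : c * x * c⁻¹ ∈ T := by
    refine (H.mem_iff (mul_mem (mul_mem (mem_cGrp.1 hcC).1 H.x_memG) (inv_mem (mem_cGrp.1 hcC).1))).2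
      (uni_of hw0 fun j hj => ?_)
    have hp1 : (c * x * c⁻¹).val ^ p = 1 := by
      rw [← Units.val_pow_eq_pow_val, conj_pow, H.x_pow_p, mul_one, mul_inv_cancel, Units.val_one]
    have hdiag : ∀ k : ℕ, ent ((c * x * c⁻¹).val ^ k) j j = ent (c * x * c⁻¹).val j j ^ k := fun k => by
      induction k with
      | zero => rw [pow_zero, pow_zero, ent_one, if_pos ⟨rfl, hj⟩]
      | succ k ih =>
        have h0 : Deg 0 ((c * x * c⁻¹).val ^ k) := by simpa using hw0.pow k
        rw [pow_succ, pow_succ, ent_mul_lead h0 hw0 j j (by omega)]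
        simp only [Nat.add_zero]
        rw [ih]
    have := hdiag p
    rw [hp1, ent_one, if_pos ⟨rfl, hj⟩, ZMod.pow_card] at this
    exact this.symm
  have h0 := H.lower_of_x (g := c⁻¹) (by rw [inv_inv]; exact hwT)
  have := deg_zero_inv h0
  rwa [inv_inv] at this

/-- The centre is weakly closed in `T`. -/
theorem weak (hp5 : 5 ≤ p) {g : GLd p d} (hg : g ∈ G) (hu : g⁻¹ * y * g ∈ T) :
    Deg 0 g.val ∨ ∃ b : ℕ, g⁻¹ * y * g = y ^ b := by
  set u := g⁻¹ * y * g with hudef
  have hgu : g * u * g⁻¹ = y := by rw [hudef]; group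
  have hlowsingle : ∀ {v : GLd p d}, v ∈ T → Single (v.val - 1) → ∀ g' : GLd p d,
      g' * v * g'⁻¹ = y → Deg 0 g'.val := fun {v} _ hs g' hv => by
    have h0 := H.lower_of_single (g := g'⁻¹) hs (by rw [inv_inv, hv]; exact H.y_mem)
    have := deg_zero_inv h0
    rwa [inv_inv] at this
  rcases H.single_or hu with hs | ⟨b, c, hbc⟩
  · exact Or.inl (hlowsingle hu hs g hgu)
  rcases eq_or_ne (b : ZMod p) 0 with hb | hb
  · exact Or.inr ⟨c, by rw [hbc, H.pow_one_of H.s_mem hb, one_mul]⟩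
  left
  by_contra hg0
  have hlow := H.lower_C hp5
  have huy : Commute u y := H.comm u hu
  set u' := g * y * g⁻¹ with hu'def
  have hu'C : u' ∈ cGrp G y := by
    refine mem_cGrp.2 ⟨mul_mem (mul_mem hg (H.le_G H.y_mem)) (inv_mem hg), ?_⟩
    calc u' * y = g * (y * u) * g⁻¹ := by rw [hu'def, hudef]; group
      _ = g * (u * y) * g⁻¹ := by rw [huy.eq]
      _ = y * u' := by rw [hu'def, hudef]; group
  have hu'T : u' ∈ T := H.mem_T_of_pElem hlow hu'C (H.conj_pow_p H.y_mem)
  obtain ⟨a', b', c', hu'⟩ := H.decomp u' hu'T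
  have ha' : (a' : ZMod p) = 0 := by
    by_contra hne
    refine hg0 ?_
    refine H.lower_of_single (u := u') ⟨H.uni _ hu'T, fun q hq => ?_⟩ ?_
    · rw [ent_sub, ent_one, if_neg (by omega), sub_zero, hu', H.subdiag a' b' c' q hq]
      exact hne
    · rw [hu'def, show g⁻¹ * (g * y * g⁻¹) * g = y by group]; exact H.y_mem
  rw [H.pow_one_of H.x_mem ha', one_mul] at hu'
  have hgy : g⁻¹ * u' * g = y := by rw [hu'def]; group
  have hb' : (b' : ZMod p) ≠ 0 := fun hz => by
    rw [H.pow_one_of H.s_mem hz, one_mul] at hu'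
    have : y = u ^ c' := by
      calc y = g⁻¹ * u' * g := hgy.symm
        _ = g⁻¹ * y ^ c' * g⁻¹⁻¹ := by rw [hu', inv_inv]
        _ = u ^ c' := by rw [← conj_pow, hudef, inv_inv]
    rw [hbc, ((H.comm_sy.pow_pow b c)).mul_pow, ← pow_mul, ← pow_mul] at this
    have h2 : x * y * x⁻¹ = x * (s ^ (b * c') * y ^ (c * c')) * x⁻¹ := by rw [← this]
    have h3 : x * (s ^ (b * c') * y ^ (c * c')) * x⁻¹ =
        s ^ (b * c') * y ^ (c * c') * y ^ (b * c') := by
      have h := H.conj_s_pow 1 (b * c')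
      rw [pow_one, one_mul] at h
      calc x * (s ^ (b * c') * y ^ (c * c')) * x⁻¹
          = (x * s ^ (b * c')) * y ^ (c * c') * x⁻¹ := by group
        _ = s ^ (b * c') * y ^ (b * c') * (x * y ^ (c * c')) * x⁻¹ := by
            rw [h]; simp only [mul_assoc]
        _ = s ^ (b * c') * y ^ (b * c') * y ^ (c * c') := by
            rw [(H.comm_xy.pow_right _).eq]; group
        _ = _ := by rw [mul_assoc, mul_assoc, (Commute.pow_pow_self y _ _).eq]
    rw [h3, ← this, show x * y * x⁻¹ = y by rw [H.comm_xy.eq]; group] at h2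
    have hz' := H.eq_zero_of_y_pow (mul_eq_left.1 h2.symm)
    rw [Nat.cast_mul] at hz'
    rcases mul_eq_zero.1 hz' with h | h
    · exact hb h
    · rw [H.pow_one_of H.y_mem h] at hu'
      rw [hu', mul_one, inv_mul_cancel] at hgy
      exact H.y_ne_one hgy.symm
  -- the action on `⟨u, y⟩`
  set x' := g⁻¹ * x * g with hx'def
  have hxy' : x * y * x⁻¹ = y := by rw [H.comm_xy.eq]; group
  have hxu : x * u * x⁻¹ = u * y ^ b := by
    have h := H.conj_s_pow 1 b
    rw [pow_one, one_mul] at h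
    rw [hbc]
    calc x * (s ^ b * y ^ c) * x⁻¹ = (x * s ^ b) * y ^ c * x⁻¹ := by group
      _ = s ^ b * y ^ b * (x * y ^ c) * x⁻¹ := by rw [h]; simp only [mul_assoc]
      _ = s ^ b * y ^ b * y ^ c := by rw [(H.comm_xy.pow_right c).eq]; group
      _ = s ^ b * y ^ c * y ^ b := by rw [mul_assoc, mul_assoc, (Commute.pow_pow_self y b c).eq]
  have hx'u : x' * u * x'⁻¹ = u := by
    calc x' * u * x'⁻¹ = g⁻¹ * (x * y * x⁻¹) * g := by rw [hx'def, hudef]; group
      _ = u := by rw [hxy', hudef]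
  have hx'y : x' * y * x'⁻¹ = y * u ^ b' := by
    have h := H.conj_s_pow 1 b'
    rw [pow_one, one_mul] at h
    have hxu' : x * u' * x⁻¹ = u' * y ^ b' := by
      rw [hu']
      calc x * (s ^ b' * y ^ c') * x⁻¹ = (x * s ^ b') * y ^ c' * x⁻¹ := by group
        _ = s ^ b' * y ^ b' * (x * y ^ c') * x⁻¹ := by rw [h]; simp only [mul_assoc]
        _ = s ^ b' * y ^ b' * y ^ c' := by rw [(H.comm_xy.pow_right c').eq]; group
        _ = s ^ b' * y ^ c' * y ^ b' := by
          rw [mul_assoc, mul_assoc, (Commute.pow_pow_self y b' c').eq]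
    calc x' * y * x'⁻¹ = g⁻¹ * (x * u' * x⁻¹) * g := by rw [hx'def, hu'def]; group
      _ = g⁻¹ * u' * g * (g⁻¹ * y ^ b' * g⁻¹⁻¹) := by rw [hxu']; group
      _ = y * u ^ b' := by rw [hgy, ← conj_pow, inv_inv]
  obtain ⟨m, hm⟩ : ∃ m : ℕ, ((m * b' * b : ℕ) : ZMod p) = -1 := by
    refine ⟨(-((b' : ZMod p) * b)⁻¹).val, ?_⟩
    rw [Nat.cast_mul, Nat.cast_mul, ZMod.natCast_zmod_val, neg_mul, neg_mul, mul_assoc,
      inv_mul_cancel₀ (mul_ne_zero hb' hb)]
  have hv : ∀ k : ℕ, x' ^ k * y * (x' ^ k)⁻¹ = y * u ^ (k * b') ∧ x' ^ k * u * (x' ^ k)⁻¹ = u := by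
    intro k
    induction k with
    | zero => simp
    | succ k ih =>
      refine ⟨?_, ?_⟩
      · calc x' ^ (k + 1) * y * (x' ^ (k + 1))⁻¹
            = x' ^ k * (x' * y * x'⁻¹) * (x' ^ k)⁻¹ := by rw [pow_succ]; group
          _ = x' ^ k * y * (x' ^ k)⁻¹ * (x' ^ k * u * (x' ^ k)⁻¹) ^ b' := by
            rw [hx'y, conj_pow]; group
          _ = y * u ^ ((k + 1) * b') := by rw [ih.1, ih.2, mul_assoc, ← pow_add, Nat.succ_mul]
      · calc x' ^ (k + 1) * u * (x' ^ (k + 1))⁻¹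
            = x' ^ k * (x' * u * x'⁻¹) * (x' ^ k)⁻¹ := by rw [pow_succ]; group
          _ = u := by rw [hx'u, ih.2]
  obtain ⟨hvy, hvu⟩ := hv m
  set v := x' ^ m
  set t := m * b'
  have hcancel : y * y ^ (b * t) = 1 := by
    rw [← pow_succ']
    refine H.pow_one_of H.y_mem ?_
    rw [Nat.cast_succ, show b * t = m * b' * b by ring, hm, neg_add_cancel]
  have hcancelu : u * u ^ (t * b) = 1 := by
    rw [← pow_succ']
    refine H.pow_one_of hu ?_
    rw [Nat.cast_succ, show t * b = m * b' * b by ring, hm, neg_add_cancel]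
  set w := x * v * x with hwdef
  have hwy : w * y * w⁻¹ = u ^ t := by
    calc w * y * w⁻¹ = x * (v * (x * y * x⁻¹) * v⁻¹) * x⁻¹ := by rw [hwdef]; group
      _ = x * (y * u ^ t) * x⁻¹ := by rw [hxy', hvy]
      _ = (x * y * x⁻¹) * (x * u * x⁻¹) ^ t := by rw [conj_pow]; group
      _ = u ^ t * (y * y ^ (b * t)) := by
        rw [hxy', hxu, (huy.pow_right b).mul_pow, ← pow_mul, ← mul_assoc,
          ← (huy.pow_left t).eq, mul_assoc]
      _ = u ^ t := by rw [hcancel, mul_one]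
  have hwu : w * u * w⁻¹ = y ^ b := by
    calc w * u * w⁻¹ = x * (v * (x * u * x⁻¹) * v⁻¹) * x⁻¹ := by rw [hwdef]; group
      _ = x * (v * u * v⁻¹ * (v * y * v⁻¹) ^ b) * x⁻¹ := by rw [hxu, conj_pow]; group
      _ = x * (u * (y * u ^ t) ^ b) * x⁻¹ := by rw [hvu, hvy]
      _ = x * (y ^ b * (u * u ^ (t * b))) * x⁻¹ := by
        rw [(huy.symm.pow_right t).mul_pow, ← pow_mul, ← mul_assoc u, (huy.pow_right b).eq,
          mul_assoc (y ^ b)]
      _ = (x * y * x⁻¹) ^ b := by rw [hcancelu, mul_one, conj_pow]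
      _ = y ^ b := by rw [hxy']
  set n := w * w
  have hny : n * y * n⁻¹ = y⁻¹ := by
    calc n * y * n⁻¹ = w * (w * y * w⁻¹) * w⁻¹ := by simp only [n]; group
      _ = (w * u * w⁻¹) ^ t := by rw [hwy, conj_pow]
      _ = y ^ (b * t) := by rw [hwu, ← pow_mul]
      _ = y⁻¹ := eq_inv_of_mul_eq_one_right hcancel
  have hnu : n * u * n⁻¹ = u⁻¹ := by
    calc n * u * n⁻¹ = w * (w * u * w⁻¹) * w⁻¹ := by simp only [n]; group
      _ = (w * y * w⁻¹) ^ b := by rw [hwu, conj_pow]
      _ = u ^ (t * b) := by rw [hwy, ← pow_mul]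
      _ = u⁻¹ := eq_inv_of_mul_eq_one_right hcancelu
  have hnG : n ∈ G := by
    have hx' : x' ∈ G := mul_mem (mul_mem (inv_mem hg) H.x_memG) hg
    exact mul_mem (mul_mem (mul_mem H.x_memG (pow_mem hx' m)) H.x_memG)
      (mul_mem (mul_mem H.x_memG (pow_mem hx' m)) H.x_memG)
  have hnx : n * x * n⁻¹ ∈ T := by
    refine H.mem_T_of_pElem hlow (mem_cGrp.2 ⟨mul_mem (mul_mem hnG H.x_memG) (inv_mem hnG), ?_⟩)
      (H.conj_pow_p H.x_mem)
    have hny' : n⁻¹ * y⁻¹ * n = y := by rw [← hny]; group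
    calc n * x * n⁻¹ * y = n * (x * (n⁻¹ * y⁻¹ * n)⁻¹) * n⁻¹ := by group
      _ = n * (x * y⁻¹) * n⁻¹ := by rw [hny']
      _ = n * (y⁻¹ * x) * n⁻¹ := by rw [(H.comm_xy.inv_right).eq]
      _ = (n * y * n⁻¹)⁻¹ * (n * x * n⁻¹) := by group
      _ = y * (n * x * n⁻¹) := by rw [hny, inv_inv]
  have hn0 : Deg 0 n.val := by
    have h0 := H.lower_of_x (g := n⁻¹) (by rw [inv_inv]; exact hnx)
    have := deg_zero_inv h0
    rwa [inv_inv] at this
  obtain ⟨a, b'', c'', hτ⟩ := H.decomp _ hnx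
  -- the leading diagonal of `y`
  have hea : (a : ZMod p) ^ e = -1 := by
    have hstep : ∀ q, q < d → ent n.val q q = (a : ZMod p) ^ q * ent n.val 0 0 := by
      intro q
      induction q with
      | zero => intro _; rw [pow_zero, one_mul]
      | succ q ih =>
        intro hq
        have e1 : ent (n.val * (x.val - 1)) (q + 1) q = ent (((n * x * n⁻¹).val - 1) * n.val) (q + 1) q := by
          have hval : (n * x * n⁻¹).val * n.val = n.val * x.val := by
            rw [← Units.val_mul, ← Units.val_mul, inv_mul_cancel_right]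
          rw [mul_sub, mul_one, sub_mul, one_mul, hval]
        rw [H.sub_one, ent_mul_sh, ent_mul_lead (H.uni _ hnx) hn0 (q + 1) q rfl] at e1
        simp only [Nat.add_zero] at e1
        rw [ent_sub, ent_one, if_neg (by omega), sub_zero, hτ, H.subdiag a b'' c'' q hq,
          ih (by omega)] at e1
        rw [e1, pow_succ]; ring
    have hinv : ent ((↑y⁻¹ : Mx p d) - 1) e 0 = -ent (y.val - 1) e 0 := by
      have hyi : Deg e ((↑y⁻¹ : Mx p d) - 1) :=
        prop_inv (P := fun A => Deg e (A - 1)) (by rw [sub_self]; exact Deg.zero _)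
          (fun _ _ => deg_mul_sub_one) H.deg
      have h := congrArg (fun A => ent A e 0) (show (y.val - 1) * ((↑y⁻¹ : Mx p d) - 1) +
        ((y.val - 1) + ((↑y⁻¹ : Mx p d) - 1)) = 0 by
          rw [sub_mul, mul_sub, Units.mul_inv, mul_one, one_mul]; abel)
      simp only [ent_add, ent_zero] at h
      rw [(H.deg.mul hyi) e 0 (by have := H.he; omega), zero_add] at h
      exact eq_neg_of_add_eq_zero_right h
    have hyi : Deg e ((↑y⁻¹ : Mx p d) - 1) :=
      prop_inv (P := fun A => Deg e (A - 1)) (by rw [sub_self]; exact Deg.zero _)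
        (fun _ _ => deg_mul_sub_one) H.deg
    have e2 : ent (n.val * (y.val - 1)) e 0 = ent (((↑y⁻¹ : Mx p d) - 1) * n.val) e 0 := by
      have hval : (↑y⁻¹ : Mx p d) * n.val = n.val * y.val := by
        rw [← hny, ← Units.val_mul, ← Units.val_mul, inv_mul_cancel_right]
      rw [mul_sub, mul_one, sub_mul, one_mul, hval]
    rw [ent_mul_lead hn0 H.deg e 0 (by omega), ent_mul_lead hyi hn0 e 0 (by omega)] at e2
    simp only [Nat.add_zero, Nat.zero_add] at e2
    rw [hstep e H.hed, hinv] at e2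
    have h00 := diag_ne_zero hn0 (show 0 < d by have := H.two; omega)
    refine mul_right_cancel₀ (mul_ne_zero h00 H.lead) ?_
    linear_combination e2
  have ha1 : (a : ZMod p) = 1 := by
    have h1 : (n * x * n⁻¹) * u * (n * x * n⁻¹)⁻¹ = u * y ^ b := by
      calc (n * x * n⁻¹) * u * (n * x * n⁻¹)⁻¹ = n * (x * (n⁻¹ * u * n) * x⁻¹) * n⁻¹ := by group
        _ = n * (x * u * x⁻¹)⁻¹ * n⁻¹ := by
          rw [show n⁻¹ * u * n = u⁻¹ by
            rw [show n⁻¹ * u * n = n⁻¹ * (n * u * n⁻¹)⁻¹ * n by rw [hnu, inv_inv]]; group]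
          group
        _ = ((n * u * n⁻¹) * (n * y * n⁻¹) ^ b)⁻¹ := by rw [hxu, conj_pow]; group
        _ = (u⁻¹ * (y ^ b)⁻¹)⁻¹ := by rw [hnu, hny, inv_pow]
        _ = u * y ^ b := by rw [mul_inv_rev, inv_inv, inv_inv, (huy.pow_right b).eq]
    have h2 : (n * x * n⁻¹) * u * (n * x * n⁻¹)⁻¹ = u * y ^ (a * b) := by
      rw [hτ, hbc]
      have h := H.conj_s_pow a b
      have hsyc : Commute (s ^ b'' * y ^ c'') (s ^ b * y ^ c) :=
        (((Commute.pow_pow_self s b'' b)).mul_right (H.comm_sy.pow_pow b'' c)).mul_left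
          ((H.comm_sy.symm.pow_pow c'' b).mul_right (Commute.pow_pow_self y c'' c))
      calc x ^ a * s ^ b'' * y ^ c'' * (s ^ b * y ^ c) * (x ^ a * s ^ b'' * y ^ c'')⁻¹
          = x ^ a * (s ^ b'' * y ^ c'' * (s ^ b * y ^ c)) * (s ^ b'' * y ^ c'')⁻¹ * (x ^ a)⁻¹ := by group
        _ = x ^ a * s ^ b * y ^ c * (x ^ a)⁻¹ := by rw [hsyc.eq]; group
        _ = s ^ b * y ^ (a * b) * (x ^ a * y ^ c) * (x ^ a)⁻¹ := by
            rw [h]; simp only [mul_assoc]
        _ = s ^ b * y ^ (a * b) * y ^ c := by rw [(H.comm_xy.pow_pow a c).eq]; group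
        _ = s ^ b * y ^ c * y ^ (a * b) := by
            rw [mul_assoc, mul_assoc, (Commute.pow_pow_self y (a * b) c).eq]
    rw [h1] at h2
    have h3 := mul_left_cancel h2
    rw [pow_eq_pow_iff_modEq, orderOf_eq_prime (H.pow_p H.y_mem) H.y_ne_one,
      ← ZMod.natCast_eq_natCast_iff, Nat.cast_mul] at h3
    have := mul_right_cancel₀ hb ((one_mul _).trans h3)
    exact this.symm
  rw [ha1, one_pow] at hea
  have h2 : ((2 : ℕ) : ZMod p) = 0 := by push_cast; linear_combination hea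
  have := Nat.le_of_dvd (by omega) ((ZMod.natCast_eq_zero_iff 2 p).1 h2)
  omega

/-- The impossibility. -/
theorem impossible (hp5 : 5 ≤ p) : False := by
  have hde := H.dim
  have hT : ∀ τ ∈ T, ∀ i, e ≤ i → Commute τ.val (sh p d i) := fun τ hτ i hi => by
    obtain ⟨a, b, c, rfl⟩ := H.decomp τ hτ
    have hx : Commute x.val (sh p d i) := by
      rw [H.x_eq]
      exact (Commute.one_left _).add_left (commute_sh (Commute.refl _) i)
    have hy : Commute y.val (sh p d i) := by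
      have := commute_sh (M := y.val - 1) H.y_commute i
      have h2 := this.add_left (Commute.one_left (sh p d i))
      rwa [sub_add_cancel] at h2
    rw [Units.val_mul, Units.val_mul, Units.val_pow_eq_pow_val, Units.val_pow_eq_pow_val,
      Units.val_pow_eq_pow_val]
    exact ((hx.pow_left a).mul_left ((H.fix_s i hi).pow_left b)).mul_left (hy.pow_left c)
  refine H.toCentral.false_of_small hp5 (by omega) (fun τ hτ q hq => ?_) hT fun g hg => H.weak hp5 hg
  obtain ⟨a, b, c, rfl⟩ := H.decomp τ hτ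
  rw [H.subdiag a b c q hq, show ent (x ^ a * s ^ b * y ^ c).val 1 0 = (a : ZMod p) from
    H.subdiag a b c 0 (by omega)]

end Three

end Cfsg.Lib.Fusion.MaxClassNormal
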