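import Cfsg.Agent.Fusion.MaxClassNormal.Model

/-!
The leading diagonals of the elements of the last levels, when the dimension is `2 e - 1`.
-/

set_option autoImplicit false
set_option linter.unusedSectionVars false
set_option linter.style.haveILetI false
set_option maxHeartbeats 1000000

namespace Cfsg.Lib.Fusion.MaxClassNormal

open Finset

variable {p d : ℕ} [hp : Fact p.Prime]

theorem natCast_ne_zero {m : ℕ} (h0 : m ≠ 0) (h : m < p) : (m : ZMod p) ≠ 0 := fun e => by
  have := Nat.le_of_dvd (Nat.pos_of_ne_zero h0) ((ZMod.natCast_eq_zero_iff m p).1 e)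
  omega

/-- The leading diagonal of a product over the identity. -/
theorem lead_mul_one {w : ℕ} {A B : Mx p d} (hw : 1 ≤ w) (hA : Deg w (A - 1)) (hB : Deg w (B - 1))
    (j : ℕ) : ent (A * B - 1) (j + w) j = ent (A - 1) (j + w) j + ent (B - 1) (j + w) j := by
  rw [show A * B - 1 = (A - 1) * (B - 1) + ((A - 1) + (B - 1)) by
    simp only [sub_mul, mul_sub, one_mul, mul_one]; abel]
  rw [ent_add, ent_add, (hA.mul hB) (j + w) j (by omega), zero_add]

theorem lead_pow_one {w : ℕ} {A : Mx p d} (hw : 1 ≤ w) (hA : Deg w (A - 1)) (j : ℕ) :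
    ∀ m : ℕ, ent (A ^ m - 1) (j + w) j = (m : ZMod p) * ent (A - 1) (j + w) j
  | 0 => by rw [pow_zero, sub_self, ent_zero, Nat.cast_zero, zero_mul]
  | m + 1 => by
    rw [pow_succ, lead_mul_one hw (deg_pow_sub_one hA m) hA, lead_pow_one hw hA j m, Nat.cast_succ]
    ring

/-- Leading diagonals of commuting matrices. -/
theorem lead_comm {a b : ℕ} {A B : Mx p d} (hA : Deg a A) (hB : Deg b B) (h : A * B = B * A) (j : ℕ) :
    ent A (j + (a + b)) (j + b) * ent B (j + b) j = ent B (j + (a + b)) (j + a) * ent A (j + a) j := by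
  have e : ent (A * B) (j + (a + b)) j = ent (B * A) (j + (a + b)) j := by rw [h]
  rwa [ent_mul_lead hA hB _ j rfl, ent_mul_lead hB hA _ j (by omega)] at e

theorem commute_sub {a b : GLd p d} (h : a * b = b * a) :
    (a.val - 1) * (b.val - 1) = (b.val - 1) * (a.val - 1) := by
  have h' : Commute a.val b.val := by
    show a.val * b.val = b.val * a.val
    rw [← Units.val_mul, h, Units.val_mul]
  exact ((h'.sub_left (Commute.one_left _)).sub_right (Commute.one_right _)).eq

theorem rel_matrix {x a b : GLd p d} (hx : x.val = 1 + sh p d 1) (h : x * b = a * b * x) :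
    sh p d 1 * (b.val - 1) - (b.val - 1) * sh p d 1 = (a.val - 1) * (b.val * x.val) := by
  have h' : (1 + sh p d 1) * b.val = a.val * (b.val * (1 + sh p d 1)) := by
    rw [← hx, ← Units.val_mul, h, Units.val_mul, Units.val_mul, mul_assoc]
  have h2 : (a.val - 1) * (b.val * x.val) = (1 + sh p d 1) * b.val - b.val * (1 + sh p d 1) := by
    rw [hx, sub_mul, one_mul, h']
  rw [h2]
  noncomm_ring

/-- Below the degree of the commutator the diagonals are constant. -/
theorem rel_const {x a b : GLd p d} (hx : x.val = 1 + sh p d 1) (h : x * b = a * b * x)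
    (hb : Uni b.val) {σ : ℕ} (ha : Deg σ (a.val - 1)) {δ j : ℕ} (hδ : δ + 1 < σ) (hj : j + δ + 1 < d) :
    ent (b.val - 1) (j + δ + 1) (j + 1) = ent (b.val - 1) (j + δ) j := by
  have hx0 : Deg 0 x.val := by
    rw [hx]; exact Deg.one.add ((deg_sh 1).mono (Nat.zero_le _))
  have e : ent (sh p d 1 * (b.val - 1) - (b.val - 1) * sh p d 1) (j + δ + 1) j =
      ent ((a.val - 1) * (b.val * x.val)) (j + δ + 1) j := by rw [rel_matrix hx h]
  rw [ent_sub, ent_sh_mul, ent_mul_sh, if_pos ⟨by omega, hj⟩, Nat.add_sub_cancel,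
    (ha.mul (hb.deg_zero.mul hx0)) (j + δ + 1) j (by omega), sub_eq_zero] at e
  exact e.symm

/-- At the degree of the commutator the diagonal moves by its leading diagonal. -/
theorem rel_lead {x a b : GLd p d} (hx : x.val = 1 + sh p d 1) (h : x * b = a * b * x)
    (hb : Uni b.val) {σ : ℕ} (hσ : 1 ≤ σ) (ha : Deg σ (a.val - 1)) {j : ℕ} (hj : j + σ < d) :
    ent (b.val - 1) (j + (σ - 1)) j - ent (b.val - 1) (j + σ) (j + 1) = ent (a.val - 1) (j + σ) j := by
  have hx0 : Deg 0 x.val := by
    rw [hx]; exact Deg.one.add ((deg_sh 1).mono (Nat.zero_le _))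
  have e : ent (sh p d 1 * (b.val - 1) - (b.val - 1) * sh p d 1) (j + σ) j =
      ent ((a.val - 1) * (b.val * x.val)) (j + σ) j := by rw [rel_matrix hx h]
  rw [ent_sub, ent_sh_mul, ent_mul_sh, if_pos ⟨by omega, hj⟩, show j + σ - 1 = j + (σ - 1) by omega,
    ent_mul_lead ha (hb.deg_zero.mul hx0) (j + σ) j (by omega)] at e
  simp only [Nat.add_zero] at e
  rw [ent_mul_lead hb.deg_zero hx0 j j (by omega)] at e
  simp only [Nat.add_zero] at e
  rw [hb.diag (by omega), hx, ent_add, ent_one, if_pos ⟨rfl, by omega⟩, ent_sh, if_neg (by omega),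
    add_zero, mul_one, mul_one] at e
  exact e

/-- The elements of the levels `k - 3`, `k - 2` and `k - 1`. -/
structure Levels (G T : Subgroup (GLd p d)) (x s₂ s₁ y : GLd p d) (e : ℕ) : Prop
    extends Central G T x y e where
  dim : d + 1 = 2 * e
  e3 : 3 ≤ e
  s1_mem : s₁ ∈ T
  s2_mem : s₂ ∈ T
  rel1 : x * s₁ = y * s₁ * x
  rel2 : x * s₂ = s₁ * s₂ * x
  comm21 : s₂ * s₁ = s₁ * s₂
  sub2 : ent (s₂.val - 1) 1 0 = 0

namespace Levels

variable {G T : Subgroup (GLd p d)} {x s₂ s₁ y : GLd p d} {e : ℕ} (H : Levels G T x s₂ s₁ y e)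
include H

theorem e_lt : e < p := lt_of_lt_of_le H.hed H.le

theorem two_ne : (2 : ZMod p) ≠ 0 := by
  have h2 := H.two; have := H.le; have := H.e3; have := H.hed
  exact_mod_cast natCast_ne_zero (p := p) (m := 2) (by omega) (by omega)

/-- The element of level `k - 2` has no part below degree `e - 1`. -/
theorem deg1 : ∀ σ, σ ≤ e - 1 → Deg σ (s₁.val - 1) := by
  have hde := H.dim
  intro σ
  induction σ with
  | zero => exact fun _ => (H.uni _ H.s1_mem : Deg 1 _).mono (Nat.zero_le 1)
  | succ σ ih =>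
    intro hσ
    have hA := ih (by omega)
    rcases Nat.eq_zero_or_pos σ with rfl | hσ1
    · exact H.uni _ H.s1_mem
    have hconst : ∀ j, j + σ < d → ent (s₁.val - 1) (j + σ) j = ent (s₁.val - 1) σ 0 := by
      intro j
      induction j with
      | zero => intro _; rw [Nat.zero_add]
      | succ j ihj =>
        intro hj
        rw [show j + 1 + σ = j + σ + 1 by omega, rel_const H.x_eq H.rel1 (H.uni _ H.s1_mem) H.deg
          (δ := σ) (by omega) (by omega)]
        exact ihj (by omega)
    set lam := ent (s₁.val - 1) σ 0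
    set B := s₂.val - 1
    have hBc : ∀ δ, δ + 1 < σ → ∀ j, j + δ < d → ent B (j + δ) j = ent B δ 0 := by
      intro δ hδ j
      induction j with
      | zero => intro _; rw [Nat.zero_add]
      | succ j ihj =>
        intro hj
        rw [show j + 1 + δ = j + δ + 1 by omega,
          rel_const H.x_eq H.rel2 (H.uni _ H.s2_mem) hA (δ := δ) hδ (by omega)]
        exact ihj (by omega)
    set B' := B - ∑ δ ∈ range (σ - 1), ent B δ 0 • sh p d δ with hB'
    have hB'd : Deg (σ - 1) B' := by
      intro i j hij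
      by_cases hi : i < d
      swap
      · exact ent_of_row _ (le_of_not_gt hi)
      rw [hB', ent_sub, ent_sum]
      rcases Nat.lt_or_ge i j with h | h
      · rw [show ent B i j = 0 from (H.uni _ H.s2_mem) i j (by omega),
          Finset.sum_eq_zero fun δ _ => by rw [ent_smul, ent_sh, if_neg (by omega), mul_zero], sub_zero]
      · obtain ⟨δ₀, rfl⟩ := Nat.exists_eq_add_of_le h
        rw [Finset.sum_eq_single δ₀, ent_smul, ent_sh, if_pos ⟨rfl, hi⟩, mul_one,
          hBc δ₀ (by omega) j hi, sub_self]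
        · exact fun δ _ hne => by
            rw [ent_smul, ent_sh, if_neg (fun h => hne (by omega)), mul_zero]
        · exact fun h0 => absurd (Finset.mem_range.2 (by omega)) h0
    have hB'e : ∀ j, j + (σ - 1) < d → ent B' (j + (σ - 1)) j = ent B (j + (σ - 1)) j := fun j _ => by
      rw [hB', ent_sub, ent_sum, Finset.sum_eq_zero fun δ hδ => by
        rw [ent_smul, ent_sh, if_neg (by have := Finset.mem_range.1 hδ; omega), mul_zero], sub_zero]
    have hdiff : ∀ j, j + σ < d → ent B' (j + (σ - 1)) j - ent B' (j + 1 + (σ - 1)) (j + 1) = lam := by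
      intro j hj
      rw [hB'e j (by omega), hB'e (j + 1) (by omega), show j + 1 + (σ - 1) = j + σ by omega,
        rel_lead H.x_eq H.rel2 (H.uni _ H.s2_mem) (by omega) hA hj]
      exact hconst j hj
    have hlin : ∀ j, j + (σ - 1) < d → ent B' (j + (σ - 1)) j = ent B' (σ - 1) 0 - (j : ZMod p) * lam := by
      intro j
      induction j with
      | zero => intro _; rw [Nat.zero_add, Nat.cast_zero, zero_mul, sub_zero]
      | succ j ihj =>
        intro hj
        have h1 := hdiff j (by omega)
        rw [ihj (by omega)] at h1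
        rw [Nat.cast_succ]
        linear_combination -h1
    have hcomm : B' * (y.val - 1) = (y.val - 1) * B' := by
      rw [hB', sub_mul B, mul_sub (y.val - 1) B,
        show B * (y.val - 1) = (y.val - 1) * B from commute_sub (H.comm _ H.s2_mem),
        Finset.sum_mul, Finset.mul_sum]
      congr 1
      refine Finset.sum_congr rfl fun δ _ => ?_
      rw [Matrix.smul_mul, Matrix.mul_smul, (commute_sh H.y_commute δ).eq]
    have h := lead_comm hB'd H.deg hcomm 0
    simp only [Nat.zero_add] at h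
    rw [show σ - 1 + e = e + (σ - 1) by omega, hlin e (by omega),
      show ent (y.val - 1) (e + (σ - 1)) (σ - 1) = ent (y.val - 1) e 0 by
        rw [show e + (σ - 1) = σ - 1 + e by omega]; exact H.lead_at (by omega)] at h
    have hlam : lam = 0 := by
      have h2 : (e : ZMod p) * lam * ent (y.val - 1) e 0 = 0 := by linear_combination -h
      rcases mul_eq_zero.1 h2 with h3 | h3
      · exact (mul_eq_zero.1 h3).resolve_left (natCast_ne_zero (by omega) H.e_lt)
      · exact absurd h3 H.lead
    intro i j hij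
    rcases Nat.lt_or_ge i (j + σ) with h' | h'
    · exact hA i j h'
    · obtain rfl : i = j + σ := by omega
      by_cases hi : j + σ < d
      · rw [hconst j hi, hlam]
      · exact ent_of_row _ (le_of_not_gt hi)

theorem deg_s1 : Deg (e - 1) (s₁.val - 1) := H.deg1 _ le_rfl

theorem c1_step {j : ℕ} (hj : j + e < d) :
    ent (s₁.val - 1) (j + (e - 1)) j - ent (s₁.val - 1) (j + 1 + (e - 1)) (j + 1) =
      ent (y.val - 1) e 0 := by
  have := H.e3
  rw [show j + 1 + (e - 1) = j + e by omega,
    rel_lead H.x_eq H.rel1 (H.uni _ H.s1_mem) (by omega) H.deg hj, H.lead_at hj]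

theorem c1_lin : ∀ j, j + (e - 1) < d → ent (s₁.val - 1) (j + (e - 1)) j =
    ent (s₁.val - 1) (e - 1) 0 - (j : ZMod p) * ent (y.val - 1) e 0 := by
  have he := H.e3
  intro j
  induction j with
  | zero => intro _; rw [Nat.zero_add, Nat.cast_zero, zero_mul, sub_zero]
  | succ j ih =>
    intro hj
    have h1 := H.c1_step (j := j) (by omega)
    rw [ih (by omega)] at h1
    rw [Nat.cast_succ]
    linear_combination -h1

/-- An element commuting with `s₁`, whose commutator with `x` is deep, is itself deep. -/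
theorem pure {a b : GLd p d} (hb : b ∈ T) (h : x * b = a * b * x) (hc : b * s₁ = s₁ * b) {σ : ℕ}
    (hσ : σ ≤ e) (ha : Deg σ (a.val - 1)) : ∀ τ, τ ≤ σ - 1 → Deg τ (b.val - 1) := by
  have hde := H.dim
  intro τ
  induction τ with
  | zero => exact fun _ => (H.uni _ hb : Deg 1 _).mono (Nat.zero_le 1)
  | succ τ ih =>
    intro hτ
    have hB := ih (by omega)
    rcases Nat.eq_zero_or_pos τ with rfl | hτ1
    · exact H.uni _ hb
    have hconst : ∀ j, j + τ < d → ent (b.val - 1) (j + τ) j = ent (b.val - 1) τ 0 := by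
      intro j
      induction j with
      | zero => intro _; rw [Nat.zero_add]
      | succ j ihj =>
        intro hj
        rw [show j + 1 + τ = j + τ + 1 by omega,
          rel_const H.x_eq h (H.uni _ hb) ha (δ := τ) (by omega) (by omega)]
        exact ihj (by omega)
    have h1 := lead_comm hB H.deg_s1 (commute_sub hc) 0
    simp only [Nat.zero_add] at h1
    rw [show τ + (e - 1) = e - 1 + τ by omega, hconst (e - 1) (by omega),
      show e - 1 + τ = τ + (e - 1) by omega, H.c1_lin τ (by omega)] at h1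
    have hμ : ent (b.val - 1) τ 0 = 0 := by
      have h2 : (τ : ZMod p) * ent (y.val - 1) e 0 * ent (b.val - 1) τ 0 = 0 := by
        linear_combination h1
      rcases mul_eq_zero.1 h2 with h3 | h3
      · exact absurd h3 (mul_ne_zero (natCast_ne_zero (by omega) (by have := H.e_lt; omega)) H.lead)
      · exact h3
    intro i j hij
    rcases Nat.lt_or_ge i (j + τ) with h' | h'
    · exact hB i j h'
    · obtain rfl : i = j + τ := by omega
      by_cases hi : j + τ < d
      · rw [hconst j hi, hμ]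
      · exact ent_of_row _ (le_of_not_gt hi)

theorem deg_s2 : Deg (e - 2) (s₂.val - 1) :=
  H.pure H.s2_mem H.rel2 H.comm21 (σ := e - 1) (by omega) H.deg_s1 (e - 2) (by omega)

/-- The normalized coefficient. -/
noncomputable def lam (_H : Levels G T x s₂ s₁ y e) : ZMod p := -ent (y.val - 1) e 0 / 2

theorem lam_ne : H.lam ≠ 0 := div_ne_zero (neg_ne_zero.2 H.lead) H.two_ne

theorem lead_eq : ent (y.val - 1) e 0 = -(2 * H.lam) := by
  rw [lam, mul_div_cancel₀ _ H.two_ne, neg_neg]

/-- The coefficient at the start of the level `k - 3`. -/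
noncomputable def gam (H : Levels G T x s₂ s₁ y e) : ZMod p := ent (s₂.val - 1) (e - 2) 0 / H.lam

theorem c2_zero : ent (s₂.val - 1) (e - 2) 0 = H.lam * H.gam := by
  rw [gam, mul_div_cancel₀ _ H.lam_ne]

theorem c2_step {j : ℕ} (hj : j + (e - 1) < d) :
    ent (s₂.val - 1) (j + (e - 2)) j - ent (s₂.val - 1) (j + 1 + (e - 2)) (j + 1) =
      ent (s₁.val - 1) (j + (e - 1)) j := by
  have := H.e3
  rw [show j + 1 + (e - 2) = j + (e - 1) by omega, show e - 2 = e - 1 - 1 by omega]
  exact rel_lead H.x_eq H.rel2 (H.uni _ H.s2_mem) (by omega) H.deg_s1 hj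

theorem c1_zero : ent (s₁.val - 1) (e - 1) 0 = H.lam * (1 - (e : ZMod p)) := by
  have he := H.e3
  have hde := H.dim
  have hc := lead_comm H.deg_s2 H.deg (commute_sub (H.comm _ H.s2_mem)) 0
  simp only [Nat.zero_add] at hc
  rw [show ent (y.val - 1) (e - 2 + e) (e - 2) = ent (y.val - 1) e 0 from H.lead_at (by omega),
    mul_comm] at hc
  have heq := mul_left_cancel₀ H.lead hc
  have hsum : ∀ j, j ≤ e → 2 * (ent (s₂.val - 1) (e - 2) 0 - ent (s₂.val - 1) (j + (e - 2)) j) =
      (j : ZMod p) * (2 * ent (s₁.val - 1) (e - 1) 0 - ((j : ZMod p) - 1) * ent (y.val - 1) e 0) := by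
    intro j
    induction j with
    | zero => intro _; rw [Nat.zero_add, sub_self, mul_zero, Nat.cast_zero, zero_mul]
    | succ j ih =>
      intro hj
      have h1 := H.c2_step (j := j) (by omega)
      rw [H.c1_lin j (by omega)] at h1
      have h2 := ih (by omega)
      rw [Nat.cast_succ]
      linear_combination h2 + 2 * h1
  have h := hsum e le_rfl
  rw [show e + (e - 2) = e - 2 + e by omega, heq, sub_self, mul_zero, H.lead_eq] at h
  have he0 : (e : ZMod p) ≠ 0 := natCast_ne_zero (by omega) H.e_lt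
  have h3 : (2 : ZMod p) * (e : ZMod p) *
      (ent (s₁.val - 1) (e - 1) 0 - H.lam * (1 - (e : ZMod p))) = 0 := by linear_combination -h
  exact sub_eq_zero.1 ((mul_eq_zero.1 h3).resolve_left (mul_ne_zero H.two_ne he0))

theorem c1_eq {j : ℕ} (hj : j + (e - 1) < d) :
    ent (s₁.val - 1) (j + (e - 1)) j = H.lam * (2 * (j : ZMod p) + 1 - (e : ZMod p)) := by
  rw [H.c1_lin j hj, H.c1_zero, H.lead_eq]
  ring

theorem c2_eq : ∀ j, j + (e - 2) < d →
    ent (s₂.val - 1) (j + (e - 2)) j = H.lam * (H.gam + (e : ZMod p) * (j : ZMod p) - (j : ZMod p) * (j : ZMod p)) := by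
  have he := H.e3
  intro j
  induction j with
  | zero =>
    intro _
    rw [Nat.zero_add, H.c2_zero]
    simp
  | succ j ih =>
    intro hj
    have h1 := H.c2_step (j := j) (by omega)
    rw [ih (by omega), H.c1_eq (by omega)] at h1
    rw [Nat.cast_succ]
    linear_combination -h1

theorem gam_eq : 2 * ((e : ZMod p) - 2) * H.gam + ((e : ZMod p) - 1) ^ 2 = 0 := by
  have he := H.e3
  have hde := H.dim
  have hc := lead_comm H.deg_s1 H.deg_s2 (commute_sub H.comm21.symm) 0
  simp only [Nat.zero_add] at hc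
  rw [show e - 1 + (e - 2) = e - 2 + (e - 1) by omega, H.c1_eq (j := e - 2) (by omega),
    H.c2_zero, H.c1_zero, show e - 2 + (e - 1) = e - 1 + (e - 2) by omega,
    H.c2_eq (e - 1) (by omega), Nat.cast_sub (by omega : 2 ≤ e), Nat.cast_sub (by omega : 1 ≤ e)] at hc
  push_cast at hc
  have h : H.lam ^ 2 * (2 * ((e : ZMod p) - 2) * H.gam + ((e : ZMod p) - 1) ^ 2) = 0 := by
    linear_combination hc
  exact (mul_eq_zero.1 h).resolve_left (pow_ne_zero _ H.lam_ne)

theorem e_sub_one_ne : (e : ZMod p) - 1 ≠ 0 := by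
  have := H.e3
  rw [show (e : ZMod p) - 1 = ((e - 1 : ℕ) : ZMod p) by
    rw [Nat.cast_sub (by omega : 1 ≤ e), Nat.cast_one]]
  exact natCast_ne_zero (by omega) (by have := H.e_lt; omega)

theorem gam_ne : H.gam ≠ 0 := fun h => by
  have h1 := H.gam_eq
  rw [h, mul_zero, zero_add] at h1
  exact H.e_sub_one_ne (pow_eq_zero_iff (two_ne_zero) |>.1 h1)

theorem e_four : 4 ≤ e := by
  by_contra h
  have he := H.e3
  obtain rfl : e = 3 := by omega
  refine H.gam_ne ?_
  rw [gam, show (3 : ℕ) - 2 = 1 from rfl, H.sub2, zero_div]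

theorem gam_add_ne : H.gam + (e : ZMod p) - 1 ≠ 0 := fun h => by
  have h1 := H.gam_eq
  have he := H.e_four
  have h2 : ((e : ZMod p) - 1) * ((e : ZMod p) - 3) = 0 := by
    linear_combination -h1 + 2 * ((e : ZMod p) - 2) * h
  rcases mul_eq_zero.1 h2 with h3 | h3
  · exact H.e_sub_one_ne h3
  · refine natCast_ne_zero (p := p) (m := e - 3) (by omega) (by have := H.e_lt; omega) ?_
    rw [Nat.cast_sub (by omega : 3 ≤ e)]
    exact_mod_cast h3

end Levels

/-- An element of level `k - 4`. -/
structure Next (G T : Subgroup (GLd p d)) (x h s₂ s₁ y : GLd p d) (e : ℕ) : Prop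
    extends Levels G T x s₂ s₁ y e where
  h_mem : h ∈ T
  relh : x * h = s₂ * h * x
  commh : h * s₁ = s₁ * h
  subh : ent (h.val - 1) 1 0 = 0

namespace Next

variable {G T : Subgroup (GLd p d)} {x h s₂ s₁ y : GLd p d} {e : ℕ} (H : Next G T x h s₂ s₁ y e)
include H

theorem deg_h : Deg (e - 3) (h.val - 1) :=
  H.toLevels.pure H.h_mem H.relh H.commh (σ := e - 2) (by omega) H.toLevels.deg_s2 (e - 3) (by omega)

theorem c3_step {j : ℕ} (hj : j + (e - 2) < d) :
    ent (h.val - 1) (j + (e - 3)) j - ent (h.val - 1) (j + 1 + (e - 3)) (j + 1) =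
      H.lam * (H.gam + (e : ZMod p) * (j : ZMod p) - (j : ZMod p) * (j : ZMod p)) := by
  have := H.toLevels.e_four
  rw [← H.toLevels.c2_eq j hj, show j + 1 + (e - 3) = j + (e - 2) by omega,
    show e - 3 = e - 2 - 1 by omega]
  exact rel_lead H.x_eq H.relh (H.uni _ H.h_mem) (by omega) H.toLevels.deg_s2 hj

theorem c3_last : ent (h.val - 1) (e + (e - 3)) e = ent (h.val - 1) (e - 3) 0 := by
  have he := H.toLevels.e_four
  have hde := H.dim
  have hc := lead_comm H.deg_h H.deg (commute_sub (H.comm _ H.h_mem)) 0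
  simp only [Nat.zero_add] at hc
  rw [show ent (y.val - 1) (e - 3 + e) (e - 3) = ent (y.val - 1) e 0 from H.lead_at (by omega),
    mul_comm, show e - 3 + e = e + (e - 3) by omega] at hc
  exact mul_left_cancel₀ H.lead hc

theorem c3_zero : 2 * ent (h.val - 1) (e - 3) 0 = H.lam * H.gam := by
  have he := H.toLevels.e_four
  have hde := H.dim
  have hc := lead_comm H.deg_h H.toLevels.deg_s1 (commute_sub H.commh) 1
  have hstep := H.c3_step (j := 0) (by omega)
  rw [show 1 + (e - 3 + (e - 1)) = e + (e - 3) by omega, show 1 + (e - 1) = e by omega,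
    H.c3_last] at hc
  have e1 : ent (s₁.val - 1) e 1 = H.lam * (3 - (e : ZMod p)) := by
    have := H.toLevels.c1_eq (j := 1) (by omega)
    rw [show 1 + (e - 1) = e by omega] at this
    rw [this]; push_cast; ring
  have e2 : ent (s₁.val - 1) (e + (e - 3)) (1 + (e - 3)) = H.lam * ((e : ZMod p) - 3) := by
    have := H.toLevels.c1_eq (j := e - 2) (by omega)
    rw [show e - 2 + (e - 1) = e + (e - 3) by omega] at this
    rw [show 1 + (e - 3) = e - 2 by omega, this, Nat.cast_sub (by omega : 2 ≤ e)]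
    push_cast
    ring
  rw [e1, e2] at hc
  rw [Nat.zero_add, Nat.zero_add] at hstep
  push_cast at hstep
  have h3 : H.lam * ((e : ZMod p) - 3) *
      (2 * ent (h.val - 1) (e - 3) 0 - H.lam * H.gam) = 0 := by
    linear_combination -hc + H.lam * ((e : ZMod p) - 3) * hstep
  refine sub_eq_zero.1 ((mul_eq_zero.1 h3).resolve_left (mul_ne_zero H.toLevels.lam_ne ?_))
  rw [show (e : ZMod p) - 3 = ((e - 3 : ℕ) : ZMod p) by
    rw [Nat.cast_sub (by omega : 3 ≤ e)]; norm_num]
  exact natCast_ne_zero (by omega) (by have := H.toLevels.e_lt; omega)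

theorem c3_ne : ent (h.val - 1) (e - 3) 0 ≠ 0 := fun h0 => by
  have := H.c3_zero
  rw [h0, mul_zero] at this
  exact mul_ne_zero H.toLevels.lam_ne H.toLevels.gam_ne this.symm

theorem e_five : 5 ≤ e := by
  by_contra hlt
  have he := H.toLevels.e_four
  obtain rfl : e = 4 := by omega
  exact H.c3_ne H.subh

/-- The product of the two entries used in the square. -/
theorem c3_two : ent (h.val - 1) (e - 1) 2 = -(H.lam * (3 * H.gam / 2 + (e : ZMod p) - 1)) ∧
    ent (h.val - 1) (e - 1 + (e - 3)) (e - 1) = H.lam * (3 * H.gam / 2 + (e : ZMod p) - 1) := by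
  have he := H.e_five
  have hde := H.dim
  have h0 := H.c3_step (j := 0) (by omega)
  have h1 := H.c3_step (j := 1) (by omega)
  have h2 := H.c3_step (j := e - 1) (by omega)
  have hz := H.c3_zero
  rw [Nat.zero_add, Nat.zero_add] at h0
  rw [show 1 + (e - 3) = e - 2 by omega] at h0 h1
  rw [show 1 + 1 + (e - 3) = e - 1 by omega] at h1
  rw [show e - 1 + 1 = e by omega, H.c3_last] at h2
  rw [Nat.cast_sub (by omega : 1 ≤ e)] at h2
  push_cast at h0 h1 h2
  have h2ne := H.toLevels.two_ne
  refine ⟨?_, ?_⟩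
  · field_simp
    linear_combination hz - 2 * h0 - 2 * h1
  · field_simp
    linear_combination hz + 2 * h2

/-- A further level is impossible. -/
theorem not_comm (hc : h * s₂ = s₂ * h) : False := by
  have he := H.e_five
  have hde := H.dim
  have hc' := lead_comm H.deg_h H.toLevels.deg_s2 (commute_sub hc) 0
  simp only [Nat.zero_add] at hc'
  have h2 := H.c3_step (j := e - 2) (by omega)
  rw [show e - 2 + 1 = e - 1 by omega, H.c3_two.2, show e - 2 + (e - 3) = e - 3 + (e - 2) by omega] at h2
  rw [show e - 3 + (e - 2) = e - 2 + (e - 3) by omega] at hc' h2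
  rw [H.toLevels.c2_zero] at hc'
  rw [show ent (s₂.val - 1) (e - 2 + (e - 3)) (e - 3) = H.lam * (H.gam + 3 * ((e : ZMod p) - 3)) by
    rw [show e - 2 + (e - 3) = e - 3 + (e - 2) by omega, H.toLevels.c2_eq _ (by omega),
      Nat.cast_sub (by omega : 3 ≤ e)]
    push_cast; ring] at hc'
  have hz := H.c3_zero
  rw [Nat.cast_sub (by omega : 2 ≤ e)] at h2
  push_cast at h2
  have h2ne := H.toLevels.two_ne
  field_simp at h2
  have h4 : H.lam ^ 2 * H.gam * (4 * H.gam + 3 * (e : ZMod p) - 1) = 0 := by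
    linear_combination 2 * hc' + H.lam * (H.gam + 3 * ((e : ZMod p) - 3)) * hz - H.lam * H.gam * h2
  have h5 : 4 * H.gam + 3 * (e : ZMod p) - 1 = 0 :=
    (mul_eq_zero.1 h4).resolve_left (mul_ne_zero (pow_ne_zero _ H.toLevels.lam_ne) H.toLevels.gam_ne)
  have h6 : (e : ZMod p) * ((e : ZMod p) - 3) = 0 := by
    linear_combination ((e : ZMod p) - 2) * h5 - 2 * H.toLevels.gam_eq
  rcases mul_eq_zero.1 h6 with h7 | h7
  · exact natCast_ne_zero (by omega) H.toLevels.e_lt h7
  · refine natCast_ne_zero (p := p) (m := e - 3) (by omega) (by have := H.toLevels.e_lt; omega) ?_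
    rw [Nat.cast_sub (by omega : 3 ≤ e)]
    exact_mod_cast h7

end Next

end Cfsg.Lib.Fusion.MaxClassNormal
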